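import Cfsg.Agent.MinSimple.Basic
import Cfsg.Agent.PLocal.OffenderStep

/-!
# THEOREM QW for every `q`, line (2'): `N_j ≤ O₂(C_G(z c))`, `c ∈ Z_j` (helper276, OMEGA #25131)

`B` weakly closed (every 2-group containing `B` normalises it), `Z_j ≤ N_j`, `e` an involution centralised by `B`.

* `le_o2_b` : `N_G(B) ∩ C_G(e)` normalises `Z_j ≠ 1`, `Z_j ≤ C_G(e)`, and all non-trivial elements of `N_j` are
  `C_G(e)`-conjugate to all non-trivial elements of `Z_j` : `N_j ≤ O₂(C_G(e))` (the case `e = z c` without `j`-component,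
  the group `L_j` centralises `e`);
* `le_o2_a` : `g` normalises `N_j`, `z ↦ e` under `g`, `N_j ≤ O₂(C_G(z))` : `N_j ≤ O₂(C_G(e))`;
* `le_o2_q` : both together, `z = z' z_j`, `L_j` centralises `z'` and is transitive on `N_j#`.
-/

set_option autoImplicit false

namespace Cfsg.Agent.Omega.NO3S.CaseLW.QWo2

open Subgroup Cfsg Cfsg.Agent.ZN
open Cfsg.Agent.MinSimple.VModule (o2_isPGroup o2_le le_o2 le_normalizer_o2 o2_le_of_sylow)

universe u

variable {G : Type u} [Group G]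

/-- a Sylow 2-subgroup of `H` over the 2-group `B ≤ H` -/
theorem exists_syl [Finite G] {B H : Subgroup G} (hB : IsPGroup 2 B) (hBH : B ≤ H) :
    ∃ T : Subgroup G, B ≤ T ∧ T ≤ H ∧ IsPGroup 2 T ∧ o2 H ≤ T := by
  have hf : Fact (Nat.Prime 2) := ⟨Nat.prime_two⟩
  have h1 : IsPGroup 2 (B.subgroupOf H) := hB.comap_of_injective _ H.subtype_injective
  obtain ⟨T0, hT0⟩ := h1.exists_le_sylow
  refine ⟨(T0 : Subgroup H).map H.subtype, ?_, map_subtype_le _, T0.isPGroup'.map _, ?_⟩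
  · intro b hb
    exact ⟨⟨b, hBH hb⟩, hT0 (mem_subgroupOf.2 hb), rfl⟩
  · refine o2_le_of_sylow (T0.isPGroup'.map _) ?_
    have e : ((T0 : Subgroup H).map H.subtype).relIndex H = (T0 : Subgroup H).index := by
      rw [relIndex, subgroupOf, comap_map_eq_self_of_injective H.subtype_injective]
    rw [e]
    exact T0.not_dvd_index

theorem le_o2_b [Finite G] (hG : IsCharacteristicTwoType G) {B Z N : Subgroup G} (hB : IsPGroup 2 B)
    (wc : ∀ R : Subgroup G, IsPGroup 2 R → B ≤ R → R ≤ normalizer (B : Set G))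
    {e : G} (he : e * e = 1) (he1 : e ≠ 1) (Be : B ≤ centralizer ({e} : Set G))
    (nZ : normalizer (B : Set G) ⊓ centralizer ({e} : Set G) ≤ normalizer (Z : Set G))
    (hZ : IsPGroup 2 Z) (hZ1 : Z ≠ ⊥) (Ze : Z ≤ centralizer ({e} : Set G))
    (tr : ∀ w ∈ N, w ≠ 1 → ∀ x ∈ Z, x ≠ 1 → ∃ g, g * e = e * g ∧ g * x * g⁻¹ = w) :
    N ≤ o2 (centralizer ({e} : Set G)) := by
  have hf : Fact (Nat.Prime 2) := ⟨Nat.prime_two⟩
  obtain ⟨T, hBT, hTe, hT, hoT⟩ := exists_syl hB Be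
  have hTn : T ≤ normalizer (Z : Set G) := (le_inf (wc T hT hBT) hTe).trans nZ
  obtain ⟨x, hx⟩ := Subgroup.ne_bot_iff_exists_ne_one.1
    (PLocal.OffenderStep.inf_centralizer_ne_bot Z T hZ hT hTn hZ1)
  have hxZ : (x : G) ∈ Z := x.2.1
  have hxT : (x : G) ∈ centralizer (T : Set G) := x.2.2
  have hx1' : (x : G) ≠ 1 := fun h => hx (Subtype.ext h)
  have hxo : (x : G) ∈ o2 (centralizer ({e} : Set G)) :=
    MinSimple.Basic.char2_centralizer hG (by rw [sq]; exact he) he1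
      ⟨Ze hxZ, centralizer_le hoT hxT⟩
  intro w hw
  by_cases hw1 : w = 1
  · rw [hw1]; exact one_mem _
  obtain ⟨g, hg, rfl⟩ := tr w hw hw1 x hxZ hx1'
  have hgH : g ∈ centralizer ({e} : Set G) := by
    rw [mem_centralizer_singleton_iff]
    exact hg
  exact (mem_normalizer_iff.1 (le_normalizer_o2 _ hgH) _).1 hxo

/-- conjugation of `O₂(C_G(z))` -/
theorem conj_mem_o2 {z g x : G} (hx : x ∈ o2 (centralizer ({z} : Set G))) :
    g * x * g⁻¹ ∈ o2 (centralizer ({g * z * g⁻¹} : Set G)) := by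
  have h1 : (o2 (centralizer ({z} : Set G))).map (MulAut.conj g).toMonoidHom ≤
      o2 (centralizer ({g * z * g⁻¹} : Set G)) := by
    refine le_o2 ?_ ((o2_isPGroup _).map _) ?_
    · rintro _ ⟨y, hy, rfl⟩
      have h2 := mem_centralizer_singleton_iff.1 (o2_le _ hy)
      rw [mem_centralizer_singleton_iff]
      change g * y * g⁻¹ * (g * z * g⁻¹) = g * z * g⁻¹ * (g * y * g⁻¹)
      calc g * y * g⁻¹ * (g * z * g⁻¹) = g * (y * z) * g⁻¹ := by group
        _ = g * (z * y) * g⁻¹ := by rw [h2]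
        _ = _ := by group
    · have key : ∀ h ∈ centralizer ({g * z * g⁻¹} : Set G),
          ∀ y ∈ (o2 (centralizer ({z} : Set G))).map (MulAut.conj g).toMonoidHom,
          h * y * h⁻¹ ∈ (o2 (centralizer ({z} : Set G))).map (MulAut.conj g).toMonoidHom := by
        rintro h hh _ ⟨y, hy, rfl⟩
        have h3 : g⁻¹ * h * g ∈ centralizer ({z} : Set G) := by
          rw [mem_centralizer_singleton_iff] at hh ⊢
          calc g⁻¹ * h * g * z = g⁻¹ * (h * (g * z * g⁻¹)) * g := by group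
            _ = g⁻¹ * (g * z * g⁻¹ * h) * g := by rw [hh]
            _ = _ := by group
        refine ⟨g⁻¹ * h * g * y * (g⁻¹ * h * g)⁻¹,
          (mem_normalizer_iff.1 (le_normalizer_o2 _ h3) _).1 hy, ?_⟩
        change g * (g⁻¹ * h * g * y * (g⁻¹ * h * g)⁻¹) * g⁻¹ = h * (g * y * g⁻¹) * h⁻¹
        group
      intro h hh
      rw [mem_normalizer_iff]
      intro y
      refine ⟨fun hy => key h hh y hy, fun hy => ?_⟩
      have h4 := key h⁻¹ (inv_mem hh) _ hy
      have e : h⁻¹ * (h * y * h⁻¹) * h⁻¹⁻¹ = y := by group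
      rwa [e] at h4
  exact h1 ⟨x, hx, rfl⟩

theorem le_o2_a {N : Subgroup G} {z e g : G} (hg : g ∈ normalizer (N : Set G)) (hgz : g * z * g⁻¹ = e)
    (hN : N ≤ o2 (centralizer ({z} : Set G))) : N ≤ o2 (centralizer ({e} : Set G)) := by
  intro n hn
  have h1 : g⁻¹ * n * g ∈ N := by
    rw [mem_normalizer_iff.1 hg]
    have e' : g * (g⁻¹ * n * g) * g⁻¹ = n := by group
    rwa [e']
  have h2 := conj_mem_o2 (g := g) (hN h1)
  have e' : g * (g⁻¹ * n * g) * g⁻¹ = n := by group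
  rw [e', hgz] at h2
  exact h2

/-- **(2') for every `q`.**  `z = z' z_j`, `L` centralises `z'`, normalises `N` and is transitive on `N#`. -/
theorem le_o2_q [Finite G] (hG : IsCharacteristicTwoType G) {B Z N L : Subgroup G} (hB : IsPGroup 2 B)
    (wc : ∀ R : Subgroup G, IsPGroup 2 R → B ≤ R → R ≤ normalizer (B : Set G))
    {z z' zj : G} (hz : z = z' * zj) (hj : zj ∈ Z) (hj1 : zj ≠ 1) (he : z' * z' = 1) (he1 : z' ≠ 1)
    (ZN : Z ≤ N) (nL : L ≤ normalizer (N : Set G)) (cL : L ≤ centralizer ({z'} : Set G))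
    (tr : ∀ x ∈ N, x ≠ 1 → ∀ w ∈ N, w ≠ 1 → ∃ g ∈ L, g * x * g⁻¹ = w)
    (low : N ≤ o2 (centralizer ({z} : Set G))) (Be : B ≤ centralizer ({z'} : Set G))
    (nZ : normalizer (B : Set G) ⊓ centralizer ({z'} : Set G) ≤ normalizer (Z : Set G))
    (hZ : IsPGroup 2 Z) (Ze : Z ≤ centralizer ({z'} : Set G)) :
    ∀ c ∈ Z, N ≤ o2 (centralizer ({z * c} : Set G)) := by
  intro c hc
  by_cases h1 : zj * c = 1
  · have e1 : z * c = z' := by rw [hz, mul_assoc, h1, mul_one]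
    rw [e1]
    refine le_o2_b hG hB wc he he1 Be nZ hZ (fun h => hj1 ?_) Ze ?_
    · rw [h] at hj
      exact (mem_bot.1 hj)
    · intro w hw hw1 x hx hx1
      obtain ⟨g, hg, hgx⟩ := tr x (ZN hx) hx1 w hw hw1
      exact ⟨g, mem_centralizer_singleton_iff.1 (cL hg), hgx⟩
  · obtain ⟨g, hg, hgx⟩ := tr zj (ZN hj) hj1 (zj * c) (ZN (mul_mem hj hc)) h1
    refine le_o2_a (nL hg) ?_ low
    have h2 := mem_centralizer_singleton_iff.1 (cL hg)
    rw [hz]
    calc g * (z' * zj) * g⁻¹ = (g * z') * zj * g⁻¹ := by group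
      _ = z' * (g * zj * g⁻¹) := by rw [h2]; group
      _ = z' * zj * c := by rw [hgx, mul_assoc]

end Cfsg.Agent.Omega.NO3S.CaseLW.QWo2
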