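import Cfsg.Agent.Omega.NO3S.Level.CaseL
import Cfsg.Agent.Omega.NOThreeL.FFB.Rp2
import Cfsg.Agent.Omega.NOThreeL.NF.Final

/-!
# GammaFF, case (L), (2) of #23757: a weakly closed `K ≤ S` which contains an offender on `V_P`

`RP S P` : the interface to the FF theorem; `A ≤ K` a minimal offender on `L = V_P` with `|[L, A]| = 2`
(natural `SL₂(2)^k`, `S_n^k`).

* `full_unique` : there is only one full vector;
* `fix_of_norm` : `N_G(K) ∩ N_G(L)` centralises `Z`;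
* `norm_le_cz` : `N_G(K) ≤ C_G(Z)`, if `N_G(S)` and all members of `P*(S)` normalise `L`;
* `two_nat`, `two_sym` : `|[L, A]| = 2` for the types `SL₂(2)^k`, `S_n^k`;
* `CaseL.norm_le_cz`, `CaseL.le_cz` : the case (L): `K ≤ O₂(Y)`, `Y` over `T ≤ S` implies `Y ≤ C_G(Z)`.
-/

set_option autoImplicit false
set_option linter.unusedSectionVars false

namespace Cfsg.Agent.Omega.NO3S.CaseLW

open Subgroup Cfsg Cfsg.Agent.ZN Cfsg.Agent.ZN.ChoiceBase Cfsg.Agent.Omega.MinPar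
open Cfsg.Agent.Omega.FrameNOFF (CZ)
open Cfsg.Agent.Omega.FFThm (OffM ElemM NatKM SymKM NoOverM ConclM StmtM)
open Cfsg.Agent.Omega.NOThreeL.NF (MinOffM RP pts natRP symRP)
open Cfsg.Agent.Omega.FrameFF (cv)
open scoped commutatorElement

universe u

section full

variable {G : Type u} [Group G]

theorem mem_sup_comm {X Y : Subgroup G} (hc : ∀ x ∈ X, ∀ y ∈ Y, x * y = y * x) {u : G} (hu : u ∈ X ⊔ Y) :
    ∃ x ∈ X, ∃ y ∈ Y, u = x * y := by
  rw [sup_eq_closure] at hu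
  refine closure_induction (p := fun u _ => ∃ x ∈ X, ∃ y ∈ Y, u = x * y) ?_ ?_ ?_ ?_ hu
  · rintro x (hx | hx)
    · exact ⟨x, hx, 1, Y.one_mem, (mul_one _).symm⟩
    · exact ⟨1, X.one_mem, x, hx, (one_mul _).symm⟩
  · exact ⟨1, X.one_mem, 1, Y.one_mem, (one_mul _).symm⟩
  · rintro _ _ _ _ ⟨x, hx, y, hy, rfl⟩ ⟨x', hx', y', hy', rfl⟩
    refine ⟨x * x', X.mul_mem hx hx', y * y', Y.mul_mem hy hy', ?_⟩
    rw [mul_assoc, ← mul_assoc y, ← hc x' hx' y hy, mul_assoc, mul_assoc]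
  · rintro _ _ ⟨x, hx, y, hy, rfl⟩
    refine ⟨x⁻¹, X.inv_mem hx, y⁻¹, Y.inv_mem hy, ?_⟩
    rw [mul_inv_rev, hc _ (X.inv_mem hx) _ (Y.inv_mem hy)]

/-- Two vectors which need all points of order 2 are equal. -/
theorem full_unique [Finite G] {PP : Set (Subgroup G)} (hc : ∀ x ∈ sSup PP, ∀ y ∈ sSup PP, x * y = y * x)
    (h2 : ∀ p ∈ PP, Nat.card p = 2) {v z : G} (hv : v ∈ sSup PP) (hz : z ∈ sSup PP)
    (hv' : ∀ p ∈ PP, v ∉ sSup (PP \ {p})) (hz' : ∀ p ∈ PP, z ∉ sSup (PP \ {p})) : v = z := by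
  classical
  -- decomposition of `sSup 𝒬`
  have hdec : ∀ 𝒬 : Set (Subgroup G), 𝒬 ⊆ PP → ∀ p ∈ 𝒬, ∀ w ∈ sSup 𝒬,
      ∃ c ∈ p, ∃ u ∈ sSup (𝒬 \ {p}), w = c * u := by
    intro 𝒬 h𝒬 p hp w hw
    have h1 : sSup 𝒬 = p ⊔ sSup (𝒬 \ {p}) := by
      apply le_antisymm
      · refine sSup_le fun q hq => ?_
        by_cases hqp : q = p
        · exact hqp ▸ le_sup_left
        · have h3 : q ∈ 𝒬 \ {p} := ⟨hq, hqp⟩
          exact (le_sSup h3).trans le_sup_right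
      · exact sup_le (le_sSup hp) (sSup_le fun q hq => le_sSup hq.1)
    rw [h1] at hw
    have hps : p ≤ sSup PP := le_sSup (h𝒬 hp)
    have hqs : sSup (𝒬 \ {p}) ≤ sSup PP := sSup_le fun q hq => le_sSup (h𝒬 hq.1)
    obtain ⟨c, hc1, u, hu, e⟩ := mem_sup_comm (fun x hx y hy => hc x (hps hx) y (hqs hy)) hw
    exact ⟨c, hc1, u, hu, e⟩
  -- a nontrivial element of a point is not in the span of the others
  have hout : ∀ p ∈ PP, ∀ c ∈ p, c ∈ sSup (PP \ {p}) → c = 1 := by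
    intro p hp c hcp hcs
    by_contra h1
    have h3 : p ≤ sSup (PP \ {p}) := by
      have h4 : zpowers c ≤ p := zpowers_le.2 hcp
      have h5 : zpowers c = p := by
        refine Subgroup.eq_of_le_of_card_ge h4 ?_
        rw [h2 p hp]
        by_contra hlt
        push Not at hlt
        have h6 : Nat.card (zpowers c) = 1 := by
          have : 0 < Nat.card (zpowers c) := Nat.card_pos
          omega
        rw [Subgroup.card_eq_one, zpowers_eq_bot] at h6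
        exact h1 h6
      intro y hy
      rw [← h5] at hy
      exact (zpowers_le.2 hcs) hy
    refine hz' p hp ?_
    obtain ⟨a, ha, b, hb, rfl⟩ := hdec PP (subset_refl _) p hp z hz
    exact mul_mem (h3 ha) hb
  -- the nontrivial element of a point is unique
  have huniq : ∀ p ∈ PP, ∀ c ∈ p, ∀ d ∈ p, c ≠ 1 → d ≠ 1 → c = d := by
    intro p hp c hcp d hdp hc1 hd1
    by_contra hne
    have h3 : ({1, c, d} : Set G) ⊆ (p : Set G) := by
      rintro x (rfl | rfl | rfl)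
      exacts [one_mem _, hcp, hdp]
    have h4 := Set.ncard_le_ncard h3 (Set.toFinite _)
    rw [Set.ncard_eq_three.2 ⟨1, c, d, hc1.symm, hd1.symm, hne, rfl⟩] at h4
    have h5 : (p : Set G).ncard = 2 := by
      rw [← Nat.card_coe_set_eq]; exact h2 p hp
    omega
  have hw : ∀ p ∈ PP, v⁻¹ * z ∈ sSup (PP \ {p}) := by
    intro p hp
    obtain ⟨a, ha, b, hb, e1⟩ := hdec PP (subset_refl _) p hp v hv
    obtain ⟨a', ha', b', hb', e2⟩ := hdec PP (subset_refl _) p hp z hz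
    have h1 : a ≠ 1 := by
      rintro rfl
      exact hv' p hp (by rw [e1, one_mul]; exact hb)
    have h3 : a' ≠ 1 := by
      rintro rfl
      exact hz' p hp (by rw [e2, one_mul]; exact hb')
    rw [e1, e2, huniq p hp a ha a' ha' h1 h3]
    have e3 : (a' * b)⁻¹ * (a' * b') = b⁻¹ * b' := by group
    rw [e3]
    exact mul_mem (inv_mem hb) hb'
  have hfin : PP.Finite := Set.toFinite _
  have key : ∀ 𝒬 : Set (Subgroup G), 𝒬 ⊆ PP → v⁻¹ * z ∈ sSup (PP \ 𝒬) := by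
    intro 𝒬 h𝒬
    induction 𝒬, (hfin.subset h𝒬) using Set.Finite.induction_on with
    | empty =>
      rw [Set.sdiff_empty]
      exact mul_mem (inv_mem hv) hz
    | @insert p 𝒬 hp _ ih =>
      have h1 := ih ((Set.subset_insert _ _).trans h𝒬)
      have hpP : p ∈ PP := h𝒬 (Set.mem_insert _ _)
      obtain ⟨c, hcp, u, hu, e⟩ := hdec (PP \ 𝒬) Set.sdiff_subset p ⟨hpP, hp⟩ _ h1
      have hu1 : sSup ((PP \ 𝒬) \ {p}) ≤ sSup (PP \ {p}) := sSup_le_sSup fun q hq => ⟨hq.1.1, hq.2⟩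
      have hu2 : u ∈ sSup (PP \ {p}) := hu1 hu
      have h3 : c ∈ sSup (PP \ {p}) := by
        have e3 : c = (v⁻¹ * z) * u⁻¹ := by rw [e]; group
        rw [e3]
        exact mul_mem (hw p hpP) (inv_mem hu2)
      rw [hout p hpP c hcp h3, one_mul] at e
      rw [e]
      have h9 : sSup ((PP \ 𝒬) \ {p}) ≤ sSup (PP \ insert p 𝒬) := by
        refine sSup_le_sSup ?_
        rintro q ⟨⟨h5, h6⟩, h7⟩
        exact ⟨h5, fun h8 => h8.elim h7 h6⟩
      exact h9 hu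
  have h1 := key PP (subset_refl _)
  rw [Set.sdiff_self, sSup_empty, mem_bot] at h1
  exact (inv_mul_eq_one.1 h1)

end full

section fix

variable {G : Type u} [Group G] [Finite G]

/-- conjugates of minimal offenders -/
theorem MinOffM.cj_of {L S A : Subgroup G} (h : MinOffM L S A) {g : G} (hg : g ∈ normalizer (L : Set G))
    (hgS : cj g A ≤ S) : MinOffM L S (cj g A) := by
  refine ⟨hgS, NOThreeL.NF.NatR.offM_cj h.off hg, fun B hB hB1 => ?_⟩
  rw [NOThreeL.Star.rel_cj hg]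
  have h1 := h.min (cj g⁻¹ B) (by rw [cj_le_iff, inv_inv]; exact hB) (NOThreeL.NF.NatR.offM_cj hB1 (inv_mem hg))
  rwa [NOThreeL.Star.rel_cj (inv_mem hg)] at h1

variable {S P : Subgroup G}

/-- **`N_G(K) ∩ N_G(L)` centralises `Z`.** -/
theorem fix_of_norm (hr : RP S P) (hLc : ∀ x ∈ zl S P, ∀ y ∈ zl S P, x * y = y * x)
    (SL : S ≤ normalizer (zl S P : Set G)) {A K : Subgroup G} (hA : MinOffM (zl S P) S A)
    (hA2 : Nat.card ↥(⁅zl S P, A⁆ : Subgroup G) = 2) (hAK : A ≤ K) (hKS : K ≤ S)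
    (hSK : S ≤ normalizer (K : Set G)) {r : G} (hrL : r ∈ normalizer (zl S P : Set G))
    (hrK : r ∈ normalizer (K : Set G)) {z : G} (hz : z ∈ zc S) : r * z * r⁻¹ = z := by
  classical
  by_cases hz1 : z = 1
  · rw [hz1]; group
  have hpt : ∀ g : G, g ∈ normalizer (zl S P : Set G) → g ∈ normalizer (K : Set G) →
      ∀ x ∈ pts (zl S P) S A, cj g x ∈ pts (zl S P) S A := by
    rintro g hgL hgK x ⟨s, hs, rfl⟩
    have h1 : cj (g * s) A ≤ K := by
      have h2 := cj_mono (g * s) hAK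
      rwa [cj_eq_of_mem_normalizer (mul_mem hgK (hSK hs))] at h2
    have h3 := MinOffM.cj_of hA (mul_mem hgL (SL hs)) (h1.trans hKS)
    obtain ⟨t, ht, e⟩ := hr.conj A _ hA h3
    rw [NOThreeL.NF.NatR.comm_cj _ (mul_mem hgL (SL hs))] at e
    exact ⟨t, ht, by rw [cj_cj, e]⟩
  have hsub : ∀ g : G, g ∈ normalizer (zl S P : Set G) → g ∈ normalizer (K : Set G) →
      ∀ 𝒬 ⊆ pts (zl S P) S A, ∀ y ∈ sSup 𝒬, g * y * g⁻¹ ∈ sSup ((fun x => cj g x) '' 𝒬) := by
    intro g _ _ 𝒬 _ y hy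
    have h1 : g * y * g⁻¹ ∈ cj g (sSup 𝒬) := mem_cj.2 (by
      have e : g⁻¹ * (g * y * g⁻¹) * g = y := by group
      rw [e]; exact hy)
    rw [NO3b.Wc.cj_sSup] at h1
    refine (iSup_le fun b => le_sSup ?_ : (⨆ b : 𝒬, cj g (b : Subgroup G)) ≤ _) h1
    exact ⟨b, b.2, rfl⟩
  have hL : ∀ x ∈ pts (zl S P) S A, x ≤ zl S P := by
    rintro x ⟨s, hs, rfl⟩
    have hAN : A ≤ normalizer (zl S P : Set G) := hA.le.trans SL
    have h1 : (⁅zl S P, A⁆ : Subgroup G) ≤ zl S P := by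
      rw [commutator_le]
      intro g₁ h₁ g₂ h₂
      rw [commutatorElement_def]
      have h3 := (mem_normalizer_iff.1 (hAN h₂) _).1 (inv_mem h₁)
      have e : g₁ * g₂ * g₁⁻¹ * g₂⁻¹ = g₁ * (g₂ * g₁⁻¹ * g₂⁻¹) := by group
      rw [e]
      exact mul_mem h₁ h3
    have h2 := cj_mono s h1
    rwa [cj_eq_of_mem_normalizer (SL hs)] at h2
  have hsL : sSup (pts (zl S P) S A) ≤ zl S P := sSup_le hL
  obtain ⟨hz2, hz3⟩ := hr.zfull A hA z hz hz1
  have h2 : ∀ p ∈ pts (zl S P) S A, Nat.card p = 2 := by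
    rintro p ⟨s, hs, rfl⟩
    rw [card_cj]; exact hA2
  refine full_unique (fun x hx y hy => hLc x (hsL hx) y (hsL hy)) h2 ?_ hz2 ?_ hz3
  · have h4 : sSup ((fun x => cj r x) '' pts (zl S P) S A) ≤ sSup (pts (zl S P) S A) := by
      refine sSup_le ?_
      rintro _ ⟨x, hx, rfl⟩
      exact le_sSup (hpt r hrL hrK x hx)
    exact h4 (hsub r hrL hrK _ (subset_refl _) z hz2)
  · intro p hp hcon
    have hrL' := inv_mem hrL
    have hrK' := inv_mem hrK
    have h4 := hsub r⁻¹ hrL' hrK' _ Set.sdiff_subset _ hcon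
    have e : r⁻¹ * (r * z * r⁻¹) * r⁻¹⁻¹ = z := by group
    rw [e] at h4
    have h7 : sSup ((fun x => cj r⁻¹ x) '' (pts (zl S P) S A \ {p})) ≤ sSup (pts (zl S P) S A \ {cj r⁻¹ p}) := by
      refine sSup_le_sSup ?_
      rintro _ ⟨x, ⟨hx, hxp⟩, rfl⟩
      refine ⟨hpt _ hrL' hrK' x hx, fun h5 => hxp ?_⟩
      have h6 : cj r (cj r⁻¹ x) = cj r (cj r⁻¹ p) := congrArg (cj r) h5
      rwa [cj_cj_inv, cj_cj_inv] at h6
    exact hz3 (cj r⁻¹ p) (hpt _ hrL' hrK' p hp) (h7 h4)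

end fix

section main

variable {G : Type u} [Group G] [Finite G] {S : Sylow 2 G} {P : Subgroup G}

/-- There is only one `z`. -/
theorem unique_z (hG : IsCharacteristicTwoType G) (hP : IsParS (S : Subgroup G) P) (hr : RP (S : Subgroup G) P)
    {A : Subgroup G} (hA : MinOffM (zl (S : Subgroup G) P) (S : Subgroup G) A)
    (hA2 : Nat.card ↥(⁅zl (S : Subgroup G) P, A⁆ : Subgroup G) = 2) {z z' : G} (hz : z ∈ zc (S : Subgroup G))
    (hz' : z' ∈ zc (S : Subgroup G)) (h1 : z ≠ 1) (h1' : z' ≠ 1) : z = z' := by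
  have hamb := Half.amb_of_loc hG S hP.isLoc
  obtain ⟨a1, a2⟩ := hr.zfull A hA z hz h1
  obtain ⟨b1, b2⟩ := hr.zfull A hA z' hz' h1'
  have hL : sSup (pts (zl (S : Subgroup G) P) (S : Subgroup G) A) ≤ zl (S : Subgroup G) P := by
    refine sSup_le ?_
    rintro x ⟨s, hs, rfl⟩
    have hSL : (S : Subgroup G) ≤ normalizer (zl (S : Subgroup G) P : Set G) := hamb.TH.trans hamb.HV
    have h1 : (⁅zl (S : Subgroup G) P, A⁆ : Subgroup G) ≤ zl (S : Subgroup G) P := by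
      rw [commutator_le]
      intro g₁ h₁ g₂ h₂
      rw [commutatorElement_def]
      have h3 := (mem_normalizer_iff.1 (hSL (hA.le h₂)) _).1 (inv_mem h₁)
      have e : g₁ * g₂ * g₁⁻¹ * g₂⁻¹ = g₁ * (g₂ * g₁⁻¹ * g₂⁻¹) := by group
      rw [e]
      exact mul_mem h₁ h3
    have h2 := cj_mono s h1
    rwa [cj_eq_of_mem_normalizer (hSL hs)] at h2
  refine full_unique (fun x hx y hy => hamb.comm x (hL hx) y (hL hy)) ?_ a1 b1 a2 b2
  rintro p ⟨s, hs, rfl⟩
  rw [card_cj]; exact hA2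

/-- **`N_G(K) ≤ C_G(Z)`.** -/
theorem norm_le_cz (hG : IsCharacteristicTwoType G) (hP : IsParS (S : Subgroup G) P) (hr : RP (S : Subgroup G) P)
    (hpar : ∀ R, IsParS (S : Subgroup G) R → R ≤ normalizer (zl (S : Subgroup G) P : Set G))
    {A K : Subgroup G} (hA : MinOffM (zl (S : Subgroup G) P) (S : Subgroup G) A)
    (hA2 : Nat.card ↥(⁅zl (S : Subgroup G) P, A⁆ : Subgroup G) = 2) (hAK : A ≤ K) (hKS : K ≤ (S : Subgroup G))
    (hSK : (S : Subgroup G) ≤ normalizer (K : Set G)) : normalizer (K : Set G) ≤ CZ (S : Subgroup G) := by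
  have hamb := Half.amb_of_loc hG S hP.isLoc
  have hcz : ∀ X : Subgroup G, X ≤ normalizer (zc (S : Subgroup G) : Set G) → X ≤ CZ (S : Subgroup G) := by
    intro X hX x hx
    change x ∈ centralizer _
    rw [mem_centralizer_iff]
    intro z hz
    by_cases hz1 : z = 1
    · rw [hz1]; group
    have h1 : x * z * x⁻¹ ∈ zc (S : Subgroup G) := (mem_normalizer_iff.1 (hX hx) z).1 hz
    have h3 : x * z * x⁻¹ ≠ 1 := fun h => hz1 (by
      have : z = x⁻¹ * (x * z * x⁻¹) * x := by group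
      rw [this, h]; group)
    exact (mul_inv_eq_iff_eq_mul.1 (unique_z hG hP hr hA hA2 h1 hz h3 hz1)).symm
  have hK2 : IsPGroup 2 K := S.isPGroup'.to_le hKS
  have hKne : K ≠ ⊥ := by
    rintro rfl
    refine hA.off.ne fun a ha => ?_
    rw [mem_bot.1 (hAK ha)]
    exact one_mem _
  have hloc : IsLoc (S : Subgroup G) (normalizer (K : Set G)) :=
    isLoc_of_le_normalizer S hSK hK2 hKne le_rfl
  refine hloc.le_of_forall S ?_ fun R hR hRK => ?_
  · refine hcz _ (inf_le_right.trans ?_)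
    exact MinSimple.VModule.normalizer_le_normalizer_zc _
  · by_cases h1 : R ≤ normalizer (zc (S : Subgroup G) : Set G)
    · exact hcz R h1
    · have hRS : IsParS (S : Subgroup G) R := ⟨hR, h1⟩
      have hRL := hpar R hRS
      intro r hr'
      change r ∈ centralizer _
      rw [mem_centralizer_iff]
      intro z hz
      exact (mul_inv_eq_iff_eq_mul.1 (fix_of_norm hr hamb.comm (hamb.TH.trans hamb.HV) hA hA2 hAK hKS hSK
        (hRL hr') (hRK hr') hz)).symm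

/-! ### Types -/

/-- `q₀ = 2` : the minimal offenders in `S` on `V_P` have order 2 modulo `C(V_P)`. -/
def QTwo (S P : Subgroup G) : Prop :=
  ∀ A : Subgroup G, MinOffM (zl S P) S A → (centralizer (zl S P : Set G)).relIndex A = 2

theorem qTwo_nat (hG : IsCharacteristicTwoType G) (hP : IsParS (S : Subgroup G) P)
    (hcv : cv (S : Subgroup G) P = ⊥) {F : Type} [Field F] [CharP F 2] (hF : Nat.card F = 2) {k : ℕ}
    (M : NatKM F (S : Subgroup G) P (zl (S : Subgroup G) P) (cv (S : Subgroup G) P) k) :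
    QTwo (S : Subgroup G) P := by
  intro A hA
  have hamb := Half.amb_of_loc hG S hP.isLoc
  rw [hcv] at M
  obtain ⟨i, hi⟩ := NOThreeL.NF.NatR.Rt.of (M := M) hamb.HV hamb.TH hA
  rw [hi.relIndex hamb.HV hamb.TH, hF]

theorem qTwo_sym (hG : IsCharacteristicTwoType G) (hP : IsParS (S : Subgroup G) P)
    (hcv : cv (S : Subgroup G) P = ⊥) {k m : ℕ} (hm : 1 ≤ m)
    (M : SymKM (S : Subgroup G) P (zl (S : Subgroup G) P) (cv (S : Subgroup G) P) k m) :
    QTwo (S : Subgroup G) P := by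
  intro A hA
  have hamb := Half.amb_of_loc hG S hP.isLoc
  rw [hcv] at M
  exact (NOThreeL.NF.SymRP.exists_ad M hamb hm hA).2

end main

section caseL

variable {G : Type u} [Group G] [Finite G] {S : Sylow 2 G} {P : Subgroup G}

open Cfsg.Agent.Omega.NO3b.Wc (WC cj_sSup)
open Cfsg.Agent.Omega.NO3S.Level

theorem CaseL.rp (h : CaseL S P) : RP (S : Subgroup G) P := by
  have hy := h.hypN.toHyp
  have hP := h.pss.par
  obtain ⟨A, hAS, hA⟩ := h.ff P h.pss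
  obtain ⟨hno, hcc⟩ := FF.Glob.ffthmM G (S : Subgroup G) P (FFThm.syl_of_sylow S hP.le) hP.toIsMinPar
    (hP.isLoc.char2 S h.ctx.char2) ⟨A, hAS.trans hP.le, hA⟩
  rcases hcc with ⟨K, _, _, _, k, hk, ⟨M⟩⟩ | ⟨k, m, hk, hm, ⟨M⟩⟩
  · exact natRP G h.ctx.char2 S P hP hy.cv hno K k hk M
  · exact symRP G h.ctx.char2 S P hP hy.cv hno k m hk hm M

/-- **Case (L): `N_G(K) ≤ C_G(Z)`** if `K ≤ S` contains an offender on `V_P`. -/
theorem CaseL.norm_le_cz (h : CaseL S P) (hq : QTwo (S : Subgroup G) P) {W K : Subgroup G} (hWK : W ≤ K)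
    (hKS : K ≤ (S : Subgroup G)) (hSK : (S : Subgroup G) ≤ normalizer (K : Set G))
    (hoff : OffM (zl (S : Subgroup G) P) W) : normalizer (K : Set G) ≤ CZ (S : Subgroup G) := by
  obtain ⟨A, hAW, hA⟩ := NOThreeL.FFB.exists_minOff (S := (S : Subgroup G)) (hWK.trans hKS) hoff
  have hr := CaseL.rp h
  refine CaseLW.norm_le_cz h.ctx.char2 h.pss.par hr (fun R hR => h.par_le hR) hA ?_ (hAW.trans hWK) hKS hSK
  rw [hr.card A hA]
  exact hq A hA

/-- `K♯` : the join of `D` and the members of the family in `S` -/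
def KS (S D : Subgroup G) (𝒜 : Set (Subgroup G)) : Subgroup G := D ⊔ sSup {A | A ∈ 𝒜 ∧ A ≤ S}

theorem le_KS {D A : Subgroup G} {𝒜 : Set (Subgroup G)} (hA : A ∈ 𝒜) (hAS : A ≤ (S : Subgroup G)) :
    A ≤ KS (S : Subgroup G) D 𝒜 := by
  have h1 : A ∈ {A | A ∈ 𝒜 ∧ A ≤ (S : Subgroup G)} := ⟨hA, hAS⟩
  exact (le_sSup h1).trans le_sup_right

theorem wc_KS {D : Subgroup G} (hD : WC (S : Subgroup G) D) {𝒜 : Set (Subgroup G)}
    (h𝒜 : ∀ A ∈ 𝒜, ∀ n ∈ normalizer (D : Set G), cj n A ∈ 𝒜) : WC (S : Subgroup G) (KS (S : Subgroup G) D 𝒜) where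
  le := sup_le hD.le (sSup_le fun _ hA => hA.2)
  eq := fun g hg => by
    have h2 : g ∈ normalizer (D : Set G) := WC.mem_norm hD ((cj_mono g le_sup_left).trans hg)
    have h4 : cj g (KS (S : Subgroup G) D 𝒜) ≤ KS (S : Subgroup G) D 𝒜 := by
      change Subgroup.map _ _ ≤ _
      rw [KS, Subgroup.map_sup]
      refine sup_le_sup (cj_eq_of_mem_normalizer h2).le ?_
      change cj g (sSup {A | A ∈ 𝒜 ∧ A ≤ (S : Subgroup G)}) ≤ _
      rw [cj_sSup]
      refine iSup_le fun B => ?_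
      have h5 : cj g (B : Subgroup G) ≤ (S : Subgroup G) :=
        (cj_mono g ((le_sSup B.2).trans le_sup_right)).trans hg
      exact le_sSup (a := cj g (B : Subgroup G)) ⟨h𝒜 _ B.2.1 g h2, h5⟩
    exact Subgroup.eq_of_le_of_card_ge h4 (card_cj _ _).ge

/-- `Y ≤ N_G(K)` for `K ≤ O₂(Y) ≤ S` weakly closed. -/
theorem le_norm_of_wc {K Y : Subgroup G} (hK : WC (S : Subgroup G) K) (hY : o2 Y ≤ (S : Subgroup G))
    (hKY : K ≤ o2 Y) : Y ≤ normalizer (K : Set G) := by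
  intro y hy
  refine WC.mem_norm hK ?_
  have h1 := cj_mono y hKY
  rw [cj_eq_of_mem_normalizer (MinSimple.VModule.le_normalizer_o2 Y hy)] at h1
  exact h1.trans hY

/-- **(2) of #23757.** `D` the largest weakly closed subgroup of `S` in `O₂(P) ∩ O₂(Y)`, `𝒜` an `N_G(D)`-closed family of
groups which offend on `V_P` as soon as they lie in `S` and not in `O₂(P)`; `K♯ ≤ O₂(Y)` implies `Y ≤ C_G(Z)`. -/
theorem CaseL.le_cz (h : CaseL S P) (hq : QTwo (S : Subgroup G) P) {D Y : Subgroup G} (hD : WC (S : Subgroup G) D)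
    (hDP : D ≤ o2 P) (hmax : ∀ B, WC (S : Subgroup G) B → B ≤ o2 P → B ≤ o2 Y → B ≤ D) (hY : o2 Y ≤ (S : Subgroup G))
    {𝒜 : Set (Subgroup G)} (h𝒜 : ∀ A ∈ 𝒜, ∀ n ∈ normalizer (D : Set G), cj n A ∈ 𝒜)
    (hoff : ∀ A ∈ 𝒜, A ≤ (S : Subgroup G) → ¬ A ≤ o2 P → OffM (zl (S : Subgroup G) P) A)
    (hex : ∃ A ∈ 𝒜, A ≤ (S : Subgroup G) ∧ ¬ A ≤ D) (hK : KS (S : Subgroup G) D 𝒜 ≤ o2 Y) :
    Y ≤ CZ (S : Subgroup G) ∧ ∃ A ∈ 𝒜, A ≤ (S : Subgroup G) ∧ ¬ A ≤ o2 P := by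
  have hwc := wc_KS (S := S) hD h𝒜
  have hYK := le_norm_of_wc hwc hY hK
  have h1 : ∃ A ∈ 𝒜, A ≤ (S : Subgroup G) ∧ ¬ A ≤ o2 P := by
    by_contra hcon
    push Not at hcon
    obtain ⟨A, hA, hAS, hAD⟩ := hex
    have h2 : KS (S : Subgroup G) D 𝒜 ≤ o2 P := sup_le hDP (sSup_le fun B hB => hcon B hB.1 hB.2)
    exact hAD ((le_KS hA hAS).trans (hmax _ hwc h2 hK))
  obtain ⟨A, hA, hAS, hAP⟩ := h1
  refine ⟨hYK.trans (CaseL.norm_le_cz h hq ?_ hwc.le ?_ (hoff A hA hAS hAP)), A, hA, hAS, hAP⟩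
  · exact le_KS hA hAS
  · exact le_normalizer.trans (WC.norm_le hwc hwc.le le_rfl)

end caseL

end Cfsg.Agent.Omega.NO3S.CaseLW
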