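import Cfsg.Agent.Omega.NO3S.CaseLW.LamFix

/-!
# THEOREM LAMBDA (helper417 #24622), step (4), blocks of any order

`CenQ H X AA Om` : a relation `Om W Z` between subgroups (`W` a block in `X`, `Z` its centre), closed under conjugation
by `H`, such that every `r ∈ B ∈ AA`, `B ≤ O₂(H)`, has `[W, r] ≤ Z`, `r` moves every element of `W ∖ Z` or none of `W`,
and `[W, r] = Z` if `r` moves `W`; `|Z|² ≤ |W|`.

* **`fixQ`** : if `W ≰ Y0 H X AA` then every member of `AA` normalises `Z`;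
* `CenQ.of`, `fixQ_all`, **`le_norm`** : the same from blocks `W j`: `⟨A^g : A ∈ AA, g ∈ H⟩ ≤ N(Z j)`.

Author: helper182.
-/

set_option autoImplicit false
set_option linter.unusedSectionVars false

namespace Cfsg.Agent.Omega.NO3S.CaseLW.LamFix

open Subgroup Cfsg Cfsg.Agent.ZN Cfsg.Agent.ZN.ChoiceBase Cfsg.Agent.ZN.ChoiceSit
open Cfsg.Agent.PLocal.ThompsonJ
open Cfsg.Agent.Omega.SQ1.Bau (mem_sup_comm card_sup_comm)
open Cfsg.Agent.Omega.OM.GLev (GE Y0 mem_Y0)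
open Cfsg.Agent.Omega.FFThm (ElemM OffM NoOverM)

universe u

variable {G : Type u} [Group G]

/-- a family of commutators of `L` with values in `Z`, the fibres in cosets of `K` -/
theorem card_le_mul [Finite G] {K L Z : Subgroup G} (f : G → G) (hf : ∀ x ∈ L, f x ∈ Z)
    (h : ∀ x ∈ L, ∀ y ∈ L, f x = f y → x⁻¹ * y ∈ K) : Nat.card L ≤ Nat.card Z * Nat.card K := by
  classical
  let s : Z → G := fun z => if h : ∃ r ∈ L, f r = z then h.choose else 1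
  have hs : ∀ x (hx : x ∈ L), s ⟨f x, hf x hx⟩ ∈ L ∧ f (s ⟨f x, hf x hx⟩) = f x := by
    intro x hx
    have h1 : ∃ r ∈ L, f r = ((⟨f x, hf x hx⟩ : Z) : G) := ⟨x, hx, rfl⟩
    have h2 : s ⟨f x, hf x hx⟩ = h1.choose := dif_pos h1
    rw [h2]
    exact h1.choose_spec
  let g : L → Z × K := fun x => (⟨f x, hf x x.2⟩,
    ⟨(s ⟨f x, hf x x.2⟩)⁻¹ * x, h _ (hs x x.2).1 _ x.2 (hs x x.2).2⟩)
  have hg : Function.Injective g := by
    intro x y hxy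
    have h1 : f x = f y := congrArg (fun p => ((p.1 : Z) : G)) hxy
    have h2 : (s ⟨f x, hf x x.2⟩)⁻¹ * (x : G) = (s ⟨f y, hf y y.2⟩)⁻¹ * (y : G) :=
      congrArg (fun p => ((p.2 : K) : G)) hxy
    have h3 : (⟨f x, hf x x.2⟩ : Z) = ⟨f y, hf y y.2⟩ := Subtype.ext h1
    rw [h3] at h2
    exact Subtype.ext (mul_left_cancel h2)
  calc Nat.card L ≤ Nat.card (Z × K) := Nat.card_le_card_of_injective g hg
    _ = _ := Nat.card_prod _ _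

/-- pairs (block, centre of the block) -/
structure CenQ (H X : Subgroup G) (AA : Set (Subgroup G)) (Om : Subgroup G → Subgroup G → Prop) : Prop where
  le : ∀ W Z, Om W Z → W ≤ X
  conj : ∀ W Z, Om W Z → ∀ g ∈ H, Om (cj g W) (cj g Z)
  card : ∀ W Z, Om W Z → Nat.card Z * Nat.card Z ≤ Nat.card W
  one : ∀ W Z, Om W Z → 1 < Nat.card Z
  com : ∀ W Z, Om W Z → ∀ B ∈ AA, B ≤ o2 H → ∀ r ∈ B, ∀ w ∈ W, r * w * r⁻¹ * w⁻¹ ∈ Z
  ker : ∀ W Z, Om W Z → ∀ B ∈ AA, B ≤ o2 H → ∀ r ∈ B, ∀ w ∈ W, w ∉ Z →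
    r * w * r⁻¹ * w⁻¹ = 1 → ∀ w' ∈ W, r * w' * r⁻¹ * w'⁻¹ = 1
  sur : ∀ W Z, Om W Z → ∀ B ∈ AA, B ≤ o2 H → ∀ r ∈ B, (∃ w ∈ W, r * w * r⁻¹ * w⁻¹ ≠ 1) →
    ∀ z ∈ Z, ∃ w ∈ W, r * w * r⁻¹ * w⁻¹ = z

variable [Finite G] {T H X : Subgroup G} {AA : Set (Subgroup G)} {Om : Subgroup G → Subgroup G → Prop}

theorem cj_eq_of_forall {Z : Subgroup G} {a : G} (h : ∀ z ∈ Z, a * z * a⁻¹ ∈ Z) : cj a Z = Z := by
  refine Subgroup.eq_of_le_of_card_ge ?_ (card_cj a Z).ge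
  rintro _ ⟨z, hz, rfl⟩
  exact h z hz

/-- **Step (4) of THEOREM LAMBDA, blocks of any order.** -/
theorem fixQ (h : GE T H X AA) (c : CenQ H X AA Om) {A : Subgroup G} (hA : A ∈ AA) {W Z : Subgroup G} (hW : Om W Z)
    (hn : ¬ W ≤ Y0 H X AA) {a : G} (ha : a ∈ A) : cj a Z = Z := by
  have hAT := h.fam.le A hA
  have hAH : A ≤ H := hAT.trans h.TH
  have hXc := h.Xc
  have hWX : W ≤ X := c.le W Z hW
  have hXn : ∀ g ∈ H, ∀ x ∈ X, g * x * g⁻¹ ∈ X := fun g hg x hx => (mem_normalizer_iff.1 (h.norm hg) x).1 hx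
  obtain ⟨B, hB, hBQ, hBc⟩ := exists_cut h hA
  have hcut := h.cut hA
  -- the three properties for `A ∩ O₂(H)`
  have com1 : ∀ r ∈ A ⊓ o2 H, ∀ w ∈ W, r * w * r⁻¹ * w⁻¹ ∈ Z := by
    intro r hr w hw
    obtain ⟨b, hb, hbx⟩ := hBc r hr.1 hr.2
    rw [hbx w (hWX hw)]
    exact c.com W Z hW B hB hBQ b hb w hw
  have ker1 : ∀ r ∈ A ⊓ o2 H, ∀ w ∈ W, w ∉ Z → r * w * r⁻¹ * w⁻¹ = 1 → ∀ w' ∈ W,
      r * w' * r⁻¹ * w'⁻¹ = 1 := by
    intro r hr w hw hwZ h1 w' hw'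
    obtain ⟨b, hb, hbx⟩ := hBc r hr.1 hr.2
    rw [hbx w (hWX hw)] at h1
    rw [hbx w' (hWX hw')]
    exact c.ker W Z hW B hB hBQ b hb w hw hwZ h1 w' hw'
  have sur1 : ∀ r ∈ A ⊓ o2 H, (∃ w ∈ W, r * w * r⁻¹ * w⁻¹ ≠ 1) → ∀ z ∈ Z, ∃ w ∈ W, r * w * r⁻¹ * w⁻¹ = z := by
    intro r hr h1 z hz
    obtain ⟨b, hb, hbx⟩ := hBc r hr.1 hr.2
    obtain ⟨w, hw, hw1⟩ := h1
    rw [hbx w (hWX hw)] at hw1
    obtain ⟨w', hw', h2⟩ := c.sur W Z hW B hB hBQ b hb ⟨w, hw, hw1⟩ z hz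
    exact ⟨w', hw', by rw [hbx w' (hWX hw'), h2]⟩
  by_cases hm : ∃ r ∈ A ⊓ o2 H, ∃ w ∈ W, r * w * r⁻¹ * w⁻¹ ≠ 1
  · obtain ⟨r, hr, w₁, hw₁, hne⟩ := hm
    refine cj_eq_of_forall ?_
    let A1 : Subgroup G := A ⊓ o2 H
    let Aw : Subgroup G := A1 ⊓ centralizer (W : Set G)
    -- an element of `W ∖ Z`
    obtain ⟨w₀, hw₀, hw₀Z⟩ : ∃ w ∈ W, w ∉ Z := by
      by_contra hcon
      push Not at hcon
      have h1 : Nat.card W ≤ Nat.card Z := Subgroup.card_le_of_le hcon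
      have h2 := c.card W Z hW
      have h3 := c.one W Z hW
      have h4 : Nat.card Z * 1 < Nat.card Z * Nat.card Z := Nat.mul_lt_mul_of_pos_left h3 (by omega)
      omega
    have hAw : Nat.card A1 ≤ Nat.card Z * Nat.card Aw := by
      refine card_le_mul (fun x => x * w₀ * x⁻¹ * w₀⁻¹) (fun x hx => com1 x hx w₀ hw₀) ?_
      intro x hx y hy hxy
      have h1 : x * w₀ * x⁻¹ = y * w₀ * y⁻¹ := mul_right_cancel hxy
      have hxy' : x⁻¹ * y ∈ A1 := A1.mul_mem (A1.inv_mem hx) hy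
      have h2 : (x⁻¹ * y) * w₀ * (x⁻¹ * y)⁻¹ * w₀⁻¹ = 1 := by
        calc (x⁻¹ * y) * w₀ * (x⁻¹ * y)⁻¹ * w₀⁻¹ = x⁻¹ * (y * w₀ * y⁻¹) * x * w₀⁻¹ := by group
          _ = x⁻¹ * (x * w₀ * x⁻¹) * x * w₀⁻¹ := by rw [h1]
          _ = 1 := by group
      refine ⟨hxy', mem_centralizer_iff.2 fun w hw => ?_⟩
      have h3 := ker1 _ hxy' w₀ hw₀ hw₀Z h2 w hw
      generalize x⁻¹ * y = t at h3
      calc w * t = (t * w * t⁻¹ * w⁻¹)⁻¹ * (t * w) := by group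
        _ = t * w := by rw [h3]; group
    have hbest : Nat.card Aw * Nat.card ↥(X ⊓ centralizer (Aw : Set G)) ≤
        Nat.card A * Nat.card ↥(X ⊓ centralizer (A : Set G)) := by
      refine h.fam.best A hA Aw ?_ (inf_le_left.trans inf_le_left)
      refine le_inf ?_ (inf_le_right.trans (centralizer_le hWX))
      rw [show A1 = A ⊓ o2 H from rfl, ← h.inf_cent hAT]
      exact inf_le_inf_left _ (centralizer_le h.VX)
    have hcard : Nat.card ↥(X ⊓ centralizer (Aw : Set G)) ≤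
        Nat.card Z * Nat.card ↥(X ⊓ centralizer (A1 : Set G)) := by
      rw [← hcut.1] at hbest
      have hp : 0 < Nat.card Aw := Nat.card_pos
      refine Nat.le_of_mul_le_mul_left (hbest.trans ?_) hp
      calc Nat.card ↥(A ⊓ o2 H) * Nat.card ↥(X ⊓ centralizer ((A ⊓ o2 H : Subgroup G) : Set G))
          ≤ (Nat.card Z * Nat.card Aw) * Nat.card ↥(X ⊓ centralizer ((A ⊓ o2 H : Subgroup G) : Set G)) :=
            Nat.mul_le_mul_right _ hAw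
        _ = Nat.card Aw * (Nat.card Z * Nat.card ↥(X ⊓ centralizer (A1 : Set G))) := by
            rw [show A1 = A ⊓ o2 H from rfl]; ring
    have hle : W ⊔ (X ⊓ centralizer (A1 : Set G)) ≤ X ⊓ centralizer (Aw : Set G) := by
      refine sup_le (le_inf hWX fun w hw => mem_centralizer_iff.2 fun t ht => ?_)
        (inf_le_inf_left _ (centralizer_le inf_le_left))
      exact (mem_centralizer_iff.1 ht.2 w hw).symm
    have hWZ : W ⊓ (X ⊓ centralizer (A1 : Set G)) ≤ Z := by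
      intro w hw
      by_contra hwZ
      have h1 : r * w = w * r := mem_centralizer_iff.1 hw.2.2 r hr
      exact hne (ker1 r hr w hw.1 hwZ (by rw [h1]; group) w₁ hw₁)
    have heq : W ⊔ (X ⊓ centralizer (A1 : Set G)) = X ⊓ centralizer (Aw : Set G) := by
      refine Subgroup.eq_of_le_of_card_ge hle (hcard.trans ?_)
      have h1 := card_sup_comm (A := W) (B := X ⊓ centralizer (A1 : Set G))
        fun v hv x hx => h.Xc v (hWX hv) x hx.1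
      have h2 : Nat.card ↥(W ⊓ (X ⊓ centralizer (A1 : Set G))) ≤ Nat.card Z := Subgroup.card_le_of_le hWZ
      have hz : 0 < Nat.card Z := Nat.card_pos
      refine Nat.le_of_mul_le_mul_left (c := Nat.card Z) ?_ hz
      calc Nat.card Z * (Nat.card Z * Nat.card ↥(X ⊓ centralizer (A1 : Set G)))
          = (Nat.card Z * Nat.card Z) * Nat.card ↥(X ⊓ centralizer (A1 : Set G)) := by ring
        _ ≤ Nat.card W * Nat.card ↥(X ⊓ centralizer (A1 : Set G)) := Nat.mul_le_mul_right _ (c.card W Z hW)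
        _ = Nat.card ↥(W ⊔ (X ⊓ centralizer (A1 : Set G))) *
              Nat.card ↥(W ⊓ (X ⊓ centralizer (A1 : Set G))) := h1.symm
        _ ≤ Nat.card ↥(W ⊔ (X ⊓ centralizer (A1 : Set G))) * Nat.card Z := Nat.mul_le_mul_left _ h2
        _ = _ := mul_comm _ _
    -- conjugation by `a` is trivial on `A / C_A(X)`
    have hcj : ∀ t ∈ A, ∀ x ∈ X, (a * t * a⁻¹) * x * (a * t * a⁻¹)⁻¹ = t * x * t⁻¹ := by
      intro t ht x hx
      have h1 := (h.fam.elem A hA).comm t⁻¹ (inv_mem ht) a ha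
      have h2 : t⁻¹ * a * t⁻¹⁻¹ * a⁻¹ * x = x * (t⁻¹ * a * t⁻¹⁻¹ * a⁻¹) :=
        (mem_centralizer_iff.1 h1 x hx).symm
      have e : a * t * a⁻¹ = t * (t⁻¹ * a * t⁻¹⁻¹ * a⁻¹) := by group
      generalize t⁻¹ * a * t⁻¹⁻¹ * a⁻¹ = d at h2 e
      rw [e]
      calc t * d * x * (t * d)⁻¹ = t * (d * x) * d⁻¹ * t⁻¹ := by group
        _ = t * (x * d) * d⁻¹ * t⁻¹ := by rw [h2]
        _ = _ := by group
    have hWa : ∀ w ∈ W, a * w * a⁻¹ ∈ W ⊔ (X ⊓ centralizer (A1 : Set G)) := by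
      intro w hw
      rw [heq]
      refine ⟨hXn a (hAH ha) w (hWX hw), mem_centralizer_iff.2 fun t ht => ?_⟩
      -- `t` acts on `w^a` as `a t a⁻¹`
      have h1 : t * w = w * t := (mem_centralizer_iff.1 ht.2 w hw).symm
      have h2 := hcj t ht.1.1 (a * w * a⁻¹) (hXn a (hAH ha) w (hWX hw))
      have h3 : t * (a * w * a⁻¹) * t⁻¹ = a * w * a⁻¹ := by
        rw [← h2]
        calc (a * t * a⁻¹) * (a * w * a⁻¹) * (a * t * a⁻¹)⁻¹ = a * (t * w) * t⁻¹ * a⁻¹ := by group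
          _ = a * (w * t) * t⁻¹ * a⁻¹ := by rw [h1]
          _ = _ := by group
      calc t * (a * w * a⁻¹) = t * (a * w * a⁻¹) * t⁻¹ * t := by group
        _ = _ := by rw [h3]
    intro z hz
    obtain ⟨w, hw, rfl⟩ := sur1 r hr ⟨w₁, hw₁, hne⟩ z hz
    obtain ⟨w', hw', d, hd, e⟩ := mem_sup_comm (A := W) (B := X ⊓ centralizer (A1 : Set G))
      (fun v hv x hx => h.Xc v (hWX hv) x hx.1) (hWa w hw)
    have hrd : r * d = d * r := mem_centralizer_iff.1 hd.2 r hr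
    have h2 := hcj r hr.1 (a * w * a⁻¹) (hXn a (hAH ha) w (hWX hw))
    have h3 : a * (r * w * r⁻¹ * w⁻¹) * a⁻¹ = r * w' * r⁻¹ * w'⁻¹ := by
      calc a * (r * w * r⁻¹ * w⁻¹) * a⁻¹ =
            (a * r * a⁻¹) * (a * w * a⁻¹) * (a * r * a⁻¹)⁻¹ * (a * w * a⁻¹)⁻¹ := by group
        _ = r * (w' * d) * r⁻¹ * (w' * d)⁻¹ := by rw [h2, e]
        _ = r * w' * r⁻¹ * (r * d) * r⁻¹ * d⁻¹ * w'⁻¹ := by group
        _ = r * w' * r⁻¹ * (d * r) * r⁻¹ * d⁻¹ * w'⁻¹ := by rw [hrd]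
        _ = _ := by group
    rw [h3]
    exact com1 r hr w' hw'
  · push Not at hm
    -- a member of `AA` below `O₂(H)` moving `W`
    have h2 : ∃ B' ∈ AA, B' ≤ o2 H ∧ ∃ r ∈ B', ∃ w ∈ W, r * w * r⁻¹ * w⁻¹ ≠ 1 := by
      by_contra hcon
      push Not at hcon
      refine hn fun w hw => mem_Y0.2 ⟨hWX hw, fun A' hA' hA'Q r hr => ?_⟩
      have h3 := hcon A' hA' hA'Q r hr w hw
      calc r * w = r * w * r⁻¹ * w⁻¹ * (w * r) := by group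
        _ = w * r := by rw [h3, one_mul]
    obtain ⟨B', hB', hB'Q, r, hr, w₁, hw₁, hne⟩ := h2
    -- `Z ≤ Z^a`
    have hle : Z ≤ cj a Z := by
      intro z hz
      obtain ⟨w, hw, rfl⟩ := c.sur W Z hW B' hB' hB'Q r hr ⟨w₁, hw₁, hne⟩ z hz
      have h1 : w ∈ X ⊓ centralizer ((A ⊓ o2 H : Subgroup G) : Set G) := by
        refine ⟨hWX hw, mem_centralizer_iff.2 fun t ht => ?_⟩
        calc t * w = t * w * t⁻¹ * w⁻¹ * (w * t) := by group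
          _ = w * t := by rw [hm t ht w hw, one_mul]
      rw [← hcut.2] at h1
      obtain ⟨v, hv, x, hx, e⟩ := mem_sup_comm (A := zl T H) (B := X ⊓ centralizer (A : Set G))
        (fun v hv x hx => h.Xc v (h.VX hv) x hx.1) h1
      have hax : a * x = x * a := mem_centralizer_iff.1 hx.2 a ha
      have hVn : a * v * a⁻¹ ∈ zl T H := (mem_normalizer_iff.1 (le_normalizer_zl T H (hAH ha)) v).1 hv
      have hv' : a * v * a⁻¹ * v⁻¹ ∈ zl T H := mul_mem hVn (inv_mem hv)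
      have e2 : a * w * a⁻¹ = (a * v * a⁻¹ * v⁻¹) * w := by
        rw [e]
        calc a * (v * x) * a⁻¹ = a * v * a⁻¹ * (a * x) * a⁻¹ := by group
          _ = a * v * a⁻¹ * (x * a) * a⁻¹ := by rw [hax]
          _ = _ := by group
      have h3 : r * (a * w * a⁻¹) * r⁻¹ * (a * w * a⁻¹)⁻¹ = r * w * r⁻¹ * w⁻¹ := by
        generalize a * v * a⁻¹ * v⁻¹ = d at hv' e2
        rw [e2]
        have hrd : r * d = d * r := h.comm_Q r (hB'Q hr) d hv'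
        have hrX : r * w * r⁻¹ * w⁻¹ ∈ X :=
          mul_mem (hXn r (h.TH (h.fam.le B' hB' hr)) w (hWX hw)) (inv_mem (hWX hw))
        have hdX : d ∈ X := h.VX hv'
        calc r * (d * w) * r⁻¹ * (d * w)⁻¹ = (r * d) * w * r⁻¹ * w⁻¹ * d⁻¹ := by group
          _ = (d * r) * w * r⁻¹ * w⁻¹ * d⁻¹ := by rw [hrd]
          _ = d * (r * w * r⁻¹ * w⁻¹) * d⁻¹ := by group
          _ = (r * w * r⁻¹ * w⁻¹) * d * d⁻¹ := by rw [hXc d hdX _ hrX]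
          _ = _ := by group
      rw [← h3]
      exact c.com _ _ (c.conj W Z hW a (hAH ha)) B' hB' hB'Q r hr _ ⟨w, hw, rfl⟩
    exact (Subgroup.eq_of_le_of_card_ge hle (card_cj a Z).le).symm

/-- The relation generated by the blocks `W j` with centres `Z j`. -/
def RelQ {ι : Type*} (H : Subgroup G) (W Z : ι → Subgroup G) (W' Z' : Subgroup G) : Prop :=
  ∃ y ∈ H, ∃ j, W' = cj y (W j) ∧ Z' = cj y (Z j)

theorem CenQ.of {ι : Type*} {W Z : ι → Subgroup G} (h : GE T H X AA) (hWX : ∀ j, W j ≤ X)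
    (card : ∀ j, Nat.card (Z j) * Nat.card (Z j) ≤ Nat.card (W j)) (one : ∀ j, 1 < Nat.card (Z j))
    (com : ∀ B ∈ AA, B ≤ o2 H → ∀ r ∈ B, ∀ j, ∀ w ∈ W j, r * w * r⁻¹ * w⁻¹ ∈ Z j)
    (ker : ∀ B ∈ AA, B ≤ o2 H → ∀ r ∈ B, ∀ j, ∀ w ∈ W j, w ∉ Z j →
      r * w * r⁻¹ * w⁻¹ = 1 → ∀ w' ∈ W j, r * w' * r⁻¹ * w'⁻¹ = 1)
    (sur : ∀ B ∈ AA, B ≤ o2 H → ∀ r ∈ B, ∀ j, (∃ w ∈ W j, r * w * r⁻¹ * w⁻¹ ≠ 1) →
      ∀ z ∈ Z j, ∃ w ∈ W j, r * w * r⁻¹ * w⁻¹ = z) : CenQ H X AA (RelQ H W Z) := by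
  have hcj : ∀ y ∈ H, ∀ B ∈ AA, B ≤ o2 H → cj y⁻¹ B ∈ AA ∧ cj y⁻¹ B ≤ o2 H := by
    intro y hy B hB hBQ
    have hQ : cj y⁻¹ B ≤ o2 H := by
      have h1 := cj_mono y⁻¹ hBQ
      rwa [cj_eq_of_mem_normalizer (ChoiceSit.le_normalizer_o2 H (inv_mem hy))] at h1
    exact ⟨h.fam.conj B hB y⁻¹ (h.norm (inv_mem hy)) (hQ.trans h.QT), hQ⟩
  have e : ∀ y r w : G, r * (y * w * y⁻¹) * r⁻¹ * (y * w * y⁻¹)⁻¹ =
      y * ((y⁻¹ * r * y) * w * (y⁻¹ * r * y)⁻¹ * w⁻¹) * y⁻¹ := fun y r w => by group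
  have e1 : ∀ y r w : G, r * (y * w * y⁻¹) * r⁻¹ * (y * w * y⁻¹)⁻¹ = 1 ↔
      (y⁻¹ * r * y) * w * (y⁻¹ * r * y)⁻¹ * w⁻¹ = 1 := by
    intro y r w
    rw [e]
    constructor
    · intro h1
      have := congrArg (fun t => y⁻¹ * t * y) h1
      simpa [mul_assoc] using this
    · intro h1
      rw [h1]; group
  refine ⟨?_, ?_, ?_, ?_, ?_, ?_, ?_⟩
  · rintro _ _ ⟨y, hy, j, rfl, rfl⟩
    rintro _ ⟨w, hw, rfl⟩
    exact (mem_normalizer_iff.1 (h.norm hy) w).1 (hWX j hw)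
  · rintro _ _ ⟨y, hy, j, rfl, rfl⟩ g hg
    exact ⟨g * y, mul_mem hg hy, j, cj_cj .., cj_cj ..⟩
  · rintro _ _ ⟨y, hy, j, rfl, rfl⟩
    rw [card_cj, card_cj]
    exact card j
  · rintro _ _ ⟨y, hy, j, rfl, rfl⟩
    rw [card_cj]
    exact one j
  · rintro _ _ ⟨y, hy, j, rfl, rfl⟩ B hB hBQ r hr
    rintro _ ⟨w, hw, rfl⟩
    obtain ⟨hB', hB'Q⟩ := hcj y hy B hB hBQ
    refine ⟨_, com _ hB' hB'Q (y⁻¹ * r * y) ⟨r, hr, by simp⟩ j w hw, (e y r w).symm⟩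
  · rintro _ _ ⟨y, hy, j, rfl, rfl⟩ B hB hBQ r hr
    rintro _ ⟨w, hw, rfl⟩ hwZ h1
    rintro _ ⟨w', hw', rfl⟩
    obtain ⟨hB', hB'Q⟩ := hcj y hy B hB hBQ
    exact (e1 y r w').2 (ker _ hB' hB'Q (y⁻¹ * r * y) ⟨r, hr, by simp⟩ j w hw (fun h2 => hwZ ⟨w, h2, rfl⟩)
      ((e1 y r w).1 h1) w' hw')
  · rintro _ _ ⟨y, hy, j, rfl, rfl⟩ B hB hBQ r hr
    rintro ⟨_, ⟨w, hw, rfl⟩, h1⟩
    rintro _ ⟨z, hz, rfl⟩
    obtain ⟨hB', hB'Q⟩ := hcj y hy B hB hBQ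
    obtain ⟨w', hw', h2⟩ := sur _ hB' hB'Q (y⁻¹ * r * y) ⟨r, hr, by simp⟩ j
      ⟨w, hw, fun h2 => h1 ((e1 y r w).2 h2)⟩ z hz
    refine ⟨y * w' * y⁻¹, ⟨w', hw', rfl⟩, ?_⟩
    rw [e, h2]
    rfl

/-- Step (4), for all conjugates: the centre of a block which is not in `Y0` is normalised by `⟨A^H⟩`. -/
theorem fixQ_all {ι : Type*} {W Z : ι → Subgroup G} (h : GE T H X AA) (c : CenQ H X AA (RelQ H W Z)) {j : ι}
    (hj : ¬ W j ≤ Y0 H X AA) {A : Subgroup G} (hA : A ∈ AA) {a : G} (ha : a ∈ A) {g : G} (hg : g ∈ H) :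
    cj (g * a * g⁻¹) (Z j) = Z j := by
  have hg' := inv_mem hg
  have h1 : ¬ cj g⁻¹ (W j) ≤ Y0 H X AA := fun h2 => hj fun w hw => by
    have h3 : g⁻¹ * w * g⁻¹⁻¹ ∈ Y0 H X AA := h2 ⟨w, hw, rfl⟩
    have := (mem_normalizer_iff.1 (h.norm_Y0 hg) _).1 h3
    simpa [mul_assoc] using this
  have h3 := fixQ h c hA (W := cj g⁻¹ (W j)) (Z := cj g⁻¹ (Z j)) ⟨g⁻¹, hg', j, rfl, rfl⟩ h1 ha
  have h4 := congrArg (cj g) h3
  rw [cj_cj, cj_cj, cj_cj] at h4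
  rw [h4, mul_inv_cancel, cj_one]

/-- Step (4): `⟨A^g : A ∈ AA, g ∈ H⟩ ≤ N(Z j)`. -/
theorem le_norm {ι : Type*} {W Z : ι → Subgroup G} (h : GE T H X AA) (c : CenQ H X AA (RelQ H W Z)) {j : ι}
    (hj : ¬ W j ≤ Y0 H X AA) :
    (sSup {B | ∃ A ∈ AA, ∃ g ∈ H, B = cj g A} : Subgroup G) ≤ normalizer (Z j : Set G) := by
  refine sSup_le ?_
  rintro _ ⟨A, hA, g, hg, rfl⟩
  rintro _ ⟨a, ha, rfl⟩
  exact mem_normalizer_of_cj_le (fixQ_all h c hj hA ha hg).le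

end Cfsg.Agent.Omega.NO3S.CaseLW.LamFix
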