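import Cfsg.Agent.Omega.NO3S.CaseLW.LowOne

/-!
# `V_P ≤ O₂(C_G(r))` for every `r ∈ Z_J` of full support (LEMMA LZ, helper322 #26498 (1))

* `exists_conj_full` (`FrL`): the elements of full support of `Z_J` are conjugate under `⟨L i⟩ ≤ N_G(V)`;
* `low_full`, `ho_full` (`MulL`, every `q`).
-/

set_option autoImplicit false

namespace Cfsg.Agent.Omega.NO3S.CaseLW.LowFull

open Subgroup Cfsg Cfsg.Agent.ZN.ChoiceBase
open Cfsg.Agent.ZN (zc zl o2)
open Cfsg.Agent.Omega.OM.Lev.Uni (FrL)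
open Cfsg.Agent.Omega.ML.Final (MLK)
open Cfsg.Agent.Omega.Node.MulX (MulL)

universe u

variable {G : Type u} [Group G] [Finite G]

/-- **the elements of full support of `Z_J` are conjugate under `⟨L i⟩`** -/
theorem exists_conj_full {ι : Type*} [Finite ι] {B Q V X ZJ : Subgroup G} {L W Z C A : ι → Subgroup G} {q : ℕ}
    (h : FrL B Q V X ZJ L W Z C A q) {z r : G} (hz : z ∈ ZJ) (hzf : ∀ i, z ∉ C i) (hr : r ∈ ZJ)
    (hrf : ∀ i, r ∉ C i) : ∃ g ∈ ⨆ i, L i, g ∈ normalizer (V : Set G) ∧ g * z * g⁻¹ = r := by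
  classical
  cases nonempty_fintype ι
  have hLV : ∀ i, L i ≤ normalizer (V : Set G) := fun i l hl => by
    rw [mem_normalizer_iff_cj]
    exact h.cj_V hl
  have key : ∀ s : Finset ι, ∃ g ∈ ⨆ i, L i, g ∈ normalizer (V : Set G) ∧ g * z * g⁻¹ ∈ ZJ ∧
      (∀ i, g * z * g⁻¹ ∉ C i) ∧ ∀ i ∈ s, (g * z * g⁻¹)⁻¹ * r ∈ C i := by
    intro s
    induction s using Finset.induction_on with
    | empty =>
      refine ⟨1, one_mem _, one_mem _, ?_, ?_, ?_⟩
      · simpa using hz
      · simpa using hzf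
      · simp
    | insert a s ha ih =>
      obtain ⟨g, hg, hgV, hyJ, hyf, hys⟩ := ih
      set y := g * z * g⁻¹ with hy
      obtain ⟨w, hw, c, hc, hcJ, e⟩ := h.split_ZJ a hyJ
      obtain ⟨w', hw', c', hc', -, e'⟩ := h.split_ZJ a hr
      have hw1 : w ≠ 1 := fun h1 => hyf a (by rw [e, h1, one_mul]; exact hc)
      have hw1' : w' ≠ 1 := fun h1 => hrf a (by rw [e', h1, one_mul]; exact hc')
      obtain ⟨l, hl, e3⟩ := QWoFr.Z_conj h hw hw' hw1 hw1'
      have e4 : l * g * z * (l * g)⁻¹ = w' * c := by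
        have h1 := h.LC a l hl c hcJ hc
        calc l * g * z * (l * g)⁻¹ = l * y * l⁻¹ := by rw [hy]; group
          _ = (l * w * l⁻¹) * (l * c * l⁻¹) := by rw [e]; group
          _ = w' * c := by rw [e3, h1]; group
      refine ⟨l * g, mul_mem (mem_iSup_of_mem a hl) hg, mul_mem (hLV a hl) hgV, ?_, ?_, ?_⟩
      · rw [e4]
        exact mul_mem (h.Z_le a hw') hcJ
      · intro i hi
        rw [e4] at hi
        by_cases hia : i = a
        · subst hia
          have h1 : w' ∈ C i := by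
            have h2 := mul_mem hi (inv_mem hc)
            rwa [mul_inv_cancel_right] at h2
          exact QWoFr.not_mem_C h hw' hw1' h1
        · apply hyf i
          have h1 : w ∈ C i := QWoFr.Z_C h hia hw
          have h2 : w' ∈ C i := QWoFr.Z_C h hia hw'
          have h3 : y = w * (w'⁻¹ * (w' * c)) := by rw [e]; group
          rw [h3]
          exact mul_mem h1 (mul_mem (inv_mem h2) hi)
      · intro i hi
        rw [e4]
        have hcV := h.CV a hc
        by_cases hia : i = a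
        · subst hia
          have h1 : (w' * c)⁻¹ * r = c⁻¹ * c' := by rw [e']; group
          rw [h1]
          exact mul_mem (inv_mem hc) hc'
        · have hi' := hys i ((Finset.mem_insert.1 hi).resolve_left hia)
          have h1 : w ∈ C i := QWoFr.Z_C h hia hw
          have h2 : w' ∈ C i := QWoFr.Z_C h hia hw'
          have h3 : (w' * c)⁻¹ * r = (c⁻¹ * w'⁻¹) * (w * (c * (y⁻¹ * r))) := by
            rw [e]; group
          have h4 : c⁻¹ * w'⁻¹ = w'⁻¹ * c⁻¹ := h.Vc (inv_mem hcV) (inv_mem (h.ZV a hw'))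
          have h5 : w * (c * (y⁻¹ * r)) = c * (w * (y⁻¹ * r)) := by
            have h6 : w * c = c * w := h.Vc (h.ZV a hw) hcV
            rw [← mul_assoc, h6, mul_assoc]
          rw [h3, h4, h5]
          have h7 : w'⁻¹ * c⁻¹ * (c * (w * (y⁻¹ * r))) = w'⁻¹ * (w * (y⁻¹ * r)) := by group
          rw [h7]
          exact mul_mem (inv_mem h2) (mul_mem h1 hi')
  obtain ⟨g, hg, hgV, hyJ, -, hys⟩ := key Finset.univ
  refine ⟨g, hg, hgV, ?_⟩
  have h1 := h.C0 _ (mul_mem (inv_mem (h.ZJV hyJ)) (h.ZJV hr)) fun i => hys i (Finset.mem_univ i)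
  exact inv_mul_eq_one.1 h1

variable {S : Sylow 2 G} {P B ZJ : Subgroup G} {k : ℕ} {L W Z C A : Fin k → Subgroup G} {q : ℕ}

/-- **LEMMA LZ for every `r ∈ Z_J` of full support** -/
theorem low_full (h : MulL S P B ZJ L W Z C A q) (ml : MLK.{u, u}) {r : G} (hr : r ∈ ZJ) (hrf : ∀ i, r ∉ C i) :
    zl (S : Subgroup G) P ≤ o2 (centralizer ({r} : Set G)) := by
  obtain ⟨z, hz, hz1⟩ : ∃ z ∈ zc (S : Subgroup G), z ≠ 1 := by
    by_contra hcon
    push Not at hcon
    exact h.cl.hypN.toHyp.zc_ne ((eq_bot_iff_forall _).2 hcon)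
  obtain ⟨g, -, hgV, e⟩ := exists_conj_full h.fr (LowOne.zc_le_ZJ h hz) (LowOne.supp h hz hz1) hr hrf
  intro v hv
  have h1 : g⁻¹ * v * g ∈ zl (S : Subgroup G) P := (mem_normalizer_iff''.1 hgV v).1 hv
  have h2 := QWoFr.o2_cj e (LowOne.low_one h ml hz hz1 h1)
  have e2 : g * (g⁻¹ * v * g) * g⁻¹ = v := by group
  rwa [e2] at h2

/-- **(2') for every `r ∈ Z_J` of full support** -/
theorem ho_full (h : MulL S P B ZJ L W Z C A q) (ml : MLK.{u, u}) {r : G} (hr : r ∈ ZJ) (hrf : ∀ i, r ∉ C i)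
    (i : Fin k) {c : G} (hc : c ∈ Z i) : W i ≤ o2 (centralizer ({r * c} : Set G)) :=
  QWoFr.le_o2_q h.fr h.cl.ctx.char2 h.bg.bau_two (OM.UniPlus.WC.weakNormal h.bg.wc) h.norm_le h.bg.two
    hr hrf (low_full h ml hr hrf) i hc

end Cfsg.Agent.Omega.NO3S.CaseLW.LowFull
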