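import Cfsg.Agent.Involutions.BaerSuzuki
import Mathlib.Algebra.BigOperators.Intervals

/-!
# THEOREM QW for every `q`, line (2): the odd-order lemma (helper276)

`H` normalises the elementary abelian 2-group `N` (additively a module), `O₂(H/C_H(N)) = 1`, `u ∈ H` is an
involution, `z ∈ C_N(u)`.  If `u` moves `N`, then Baer-Suzuki gives a conjugate `w = h u h⁻¹` (`h ∈ H`) with
`⟨u, w⟩` no 2-group and `h` inverted by `u` and of odd order modulo `C_H(N)`.  The norm `z_c := ∏ h^i z h^-i`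
is fixed by `u` and `w`, and `z_c ∈ z [N, u]`.

* `exists_avg` : `∃ c ∈ C, z c` commutes with `u` and `h` (`C` = any subgroup with `n (u n u⁻¹) ∈ C`, `n ∈ N`);
* `exists_conj_avg` : the above together with Baer-Suzuki;
* `le_cent` : if for all `c ∈ C` some 2-group normalised by `C_G(z c)` contains `u`, then `u` centralises `N`.

No transvections, no field: the same lemma serves `q = 2`, `q ≥ 4` and `S_n`.
-/

set_option autoImplicit false

namespace Cfsg.Agent.Omega.NO3S.CaseLW.Odd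

open Subgroup Cfsg

universe u

/-- the norm, in a commutative group -/
theorem avg {A : Type*} [CommGroup A] (U H : A →* A) (hUHUH : ∀ x, U (H (U (H x))) = x)
    (hUU : ∀ x, U (U x) = x) {m : ℕ} (hm : ∀ x, H^[2 * m + 1] x = x) {z : A} (hz : U z = z)
    (D : Subgroup A) (hD : ∀ x, x * U x ∈ D) : ∃ c ∈ D, U (z * c) = z * c ∧ H (z * c) = z * c := by
  have hHU : ∀ x, H (U (H x)) = U x := by
    intro x
    have h1 := hUU (H (U (H x)))
    rw [hUHUH] at h1
    exact h1.symm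
  have hiter : ∀ (i : ℕ) (x : A), H^[i] (U (H^[i] x)) = U x := by
    intro i
    induction i with
    | zero => intro x; rfl
    | succ i ih =>
      intro x
      rw [Function.iterate_succ_apply' H i x, Function.iterate_succ_apply H i, hHU, ih]
  have hUx : ∀ i, i ≤ 2 * m + 1 → U (H^[i] z) = H^[2 * m + 1 - i] z := by
    intro i hi
    have h1 := hm (U (H^[i] z))
    have e : H^[2 * m + 1] (U (H^[i] z)) = H^[2 * m + 1 - i] (H^[i] (U (H^[i] z))) := by
      rw [← Function.iterate_add_apply, Nat.sub_add_cancel hi]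
    rw [← h1, e, hiter, hz]
  refine ⟨∏ i ∈ Finset.range m, (H^[i + 1] z * U (H^[i + 1] z)), ?_, ?_, ?_⟩
  · exact D.prod_mem fun i _ => hD _
  · rw [map_mul, hz, map_prod]
    congr 1
    refine Finset.prod_congr rfl fun i _ => ?_
    rw [map_mul, hUU, mul_comm]
  · set s := ∏ j ∈ Finset.range (2 * m + 1), H^[j] z with hs
    have hs1 : z * ∏ i ∈ Finset.range m, (H^[i + 1] z * U (H^[i + 1] z)) = s := by
      rw [hs, Finset.prod_range_succ', Finset.prod_mul_distrib, mul_comm]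
      have e0 : H^[0] z = z := rfl
      rw [e0]
      congr 1
      rw [two_mul, Finset.prod_range_add]
      congr 1
      rw [← Finset.prod_range_reflect]
      refine Finset.prod_congr rfl fun i hi => ?_
      have hi' := Finset.mem_range.1 hi
      rw [hUx _ (by omega)]
      congr 2
      omega
    rw [hs1, hs, map_prod]
    have e3 : ∀ j, H (H^[j] z) = H^[j + 1] z := fun j => (Function.iterate_succ_apply' H j z).symm
    rw [Finset.prod_congr rfl fun j _ => e3 j]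
    have e4 := Finset.prod_range_succ' (fun j => H^[j] z) (2 * m + 1)
    have e5 := Finset.prod_range_succ (fun j => H^[j] z) (2 * m + 1)
    rw [e5, hm] at e4
    have e6 : H^[0] z = z := rfl
    rw [e6] at e4
    exact (mul_right_cancel e4).symm

variable {G : Type u} [Group G]

/-- conjugation on a subgroup -/
def cjHom {N : Subgroup G} (g : G) (hg : ∀ x ∈ N, g * x * g⁻¹ ∈ N) : N →* N where
  toFun x := ⟨g * x * g⁻¹, hg _ x.2⟩
  map_one' := Subtype.ext (by simp)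
  map_mul' x y := Subtype.ext (by simp [mul_assoc])

theorem cjHom_apply {N : Subgroup G} {g : G} (hg : ∀ x ∈ N, g * x * g⁻¹ ∈ N) (x : N) :
    (cjHom g hg x : G) = g * x * g⁻¹ := rfl

theorem cjHom_iter {N : Subgroup G} {g : G} (hg : ∀ x ∈ N, g * x * g⁻¹ ∈ N) (n : ℕ) (x : N) :
    (((cjHom g hg)^[n] x : N) : G) = g ^ n * x * (g ^ n)⁻¹ := by
  induction n with
  | zero => simp
  | succ n ih =>
    rw [Function.iterate_succ_apply', cjHom_apply, ih, pow_succ']
    group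

/-- **the norm under an element of odd order which is inverted by `u`** -/
theorem exists_avg {N C : Subgroup G} (hab : ∀ x ∈ N, ∀ y ∈ N, x * y = y * x)
    {u h : G} (huu : u * u = 1) (hu : ∀ x ∈ N, u * x * u⁻¹ ∈ N) (hh : ∀ x ∈ N, h * x * h⁻¹ ∈ N)
    (hC : ∀ x ∈ N, x * (u * x * u⁻¹) ∈ C) {m : ℕ} (hm : ∀ x ∈ N, h ^ (2 * m + 1) * x = x * h ^ (2 * m + 1))
    (hi : ∀ x ∈ N, (u * h * u * h) * x = x * (u * h * u * h)) {z : G} (hz : z ∈ N)
    (hzu : u * z = z * u) : ∃ c ∈ N, c ∈ C ∧ u * (z * c) = z * c * u ∧ h * (z * c) = z * c * h := by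
  let _ : CommGroup N := { (inferInstance : Group N) with
    mul_comm := fun x y => Subtype.ext (hab x x.2 y y.2) }
  have hui : u⁻¹ = u := inv_eq_of_mul_eq_one_left huu
  obtain ⟨c, hc, h1, h3⟩ := avg (cjHom u hu) (cjHom h hh) (fun x => Subtype.ext (by
      simp only [cjHom_apply]
      have := hi x x.2
      calc u * (h * (u * (h * x * h⁻¹) * u⁻¹) * h⁻¹) * u⁻¹
          = (u * h * u * h) * x * (h⁻¹ * u⁻¹ * h⁻¹ * u⁻¹) := by group
        _ = x * ((u * h * u * h) * (h⁻¹ * u⁻¹ * h⁻¹ * u⁻¹)) := by rw [this]; group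
        _ = x := by group)) (fun x => Subtype.ext (by
      simp only [cjHom_apply]
      calc u * (u * x * u⁻¹) * u⁻¹ = (u * u) * x * (u * u)⁻¹ := by group
        _ = x := by rw [huu]; group)) (m := m) (fun x => Subtype.ext (by
      have e := cjHom_iter hh (2 * m + 1) x
      refine Eq.trans e ?_
      rw [hm x x.2]
      group)) (z := ⟨z, hz⟩) (Subtype.ext (by
      rw [cjHom_apply]
      change u * z * u⁻¹ = z
      rw [hzu]; group)) (C.subgroupOf N) (fun x => by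
      rw [mem_subgroupOf]
      exact hC x x.2)
  refine ⟨c, c.2, hc, ?_, ?_⟩
  · have := congrArg Subtype.val h1
    change u * (z * c) * u⁻¹ = z * c at this
    rw [mul_inv_eq_iff_eq_mul] at this
    exact this
  · have := congrArg Subtype.val h3
    change h * (z * c) * h⁻¹ = z * c at this
    rw [mul_inv_eq_iff_eq_mul] at this
    exact this

theorem exists_conj_avg [Finite G] {H N C : Subgroup G} (hNH : H ≤ normalizer (N : Set G))
    (hred : ∀ K : Subgroup G, K ≤ H → H ≤ normalizer (K : Set G) →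
      (∀ x ∈ K, ∃ k : ℕ, x ^ 2 ^ k ∈ centralizer (N : Set G)) → K ≤ centralizer (N : Set G))
    (hab : ∀ x ∈ N, ∀ y ∈ N, x * y = y * x)
    {u : G} (hu : u ∈ H) (huu : u * u = 1) (hun : u ∉ centralizer (N : Set G))
    (hC : ∀ x ∈ N, x * (u * x * u⁻¹) ∈ C) {z : G} (hz : z ∈ N) (hzu : u * z = z * u) :
    ∃ h ∈ H, (∀ T : Subgroup G, IsPGroup 2 T → u ∈ T → h * u * h⁻¹ ∈ T → False) ∧
      ∃ c ∈ N, c ∈ C ∧ u * (z * c) = z * c * u ∧ h * (z * c) = z * c * h := by
  have hCn : H ≤ normalizer ((H ⊓ centralizer (N : Set G) : Subgroup G) : Set G) := by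
    intro g hg
    have hg' := hNH hg
    rw [mem_normalizer_iff] at hg' ⊢
    have key : ∀ g ∈ H, (∀ n, n ∈ N ↔ g * n * g⁻¹ ∈ N) → ∀ x, x ∈ H ⊓ centralizer (N : Set G) →
        g * x * g⁻¹ ∈ H ⊓ centralizer (N : Set G) := by
      rintro g hg hgN x ⟨hx, hx'⟩
      refine ⟨H.mul_mem (H.mul_mem hg hx) (H.inv_mem hg), ?_⟩
      replace hx' := mem_centralizer_iff.1 hx'
      refine mem_centralizer_iff.2 fun n hn => ?_
      have hn' : g⁻¹ * n * g ∈ N := by
        rw [hgN]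
        have : g * (g⁻¹ * n * g) * g⁻¹ = n := by group
        rwa [this]
      have := hx' _ hn'
      calc n * (g * x * g⁻¹) = g * ((g⁻¹ * n * g) * x) * g⁻¹ := by group
        _ = g * (x * (g⁻¹ * n * g)) * g⁻¹ := by rw [this]
        _ = _ := by group
    intro x
    refine ⟨fun hx => key g hg hg' x hx, fun hx => ?_⟩
    have h1 := key g⁻¹ (H.inv_mem hg) (by
      have h2 := hNH (H.inv_mem hg)
      rwa [mem_normalizer_iff] at h2) _ hx
    have e : g⁻¹ * (g * x * g⁻¹) * g⁻¹⁻¹ = x := by group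
    rwa [e] at h1
  set D : Subgroup G := H ⊓ centralizer (N : Set G) with hD
  have hn : (D.subgroupOf H).Normal := normal_subgroupOf_of_le_normalizer hCn
  set f := QuotientGroup.mk' (D.subgroupOf H) with hf
  have hf1 : ∀ y : H, f y = 1 → (y : G) ∈ D := by
    intro y hy
    exact (QuotientGroup.eq_one_iff (N := D.subgroupOf H) y).1 hy
  set a := f ⟨u, hu⟩ with ha
  have haa : a * a = 1 := by
    rw [ha, ← map_mul]
    have : (⟨u, hu⟩ : H) * ⟨u, hu⟩ = 1 := Subtype.ext huu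
    rw [this, map_one]
  obtain ⟨g, hg1, hgo, hgi⟩ := Involutions.BaerSuzuki.exists_odd_inverted a haa (by
    intro h1
    have h2 := hred (((normalClosure {a}).comap f).map H.subtype) (map_subtype_le _) ?_ ?_
    · have h3 : u ∈ ((normalClosure {a}).comap f).map H.subtype :=
        ⟨⟨u, hu⟩, subset_normalClosure rfl, rfl⟩
      exact hun (h2 h3)
    · have key : ∀ x ∈ H, ∀ y ∈ ((normalClosure {a}).comap f).map H.subtype,
          x * y * x⁻¹ ∈ ((normalClosure {a}).comap f).map H.subtype := by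
        rintro x hx _ ⟨y, hy, rfl⟩
        refine ⟨⟨x, hx⟩ * y * ⟨x, hx⟩⁻¹, ?_, rfl⟩
        change f _ ∈ normalClosure {a}
        rw [map_mul, map_mul, map_inv]
        exact normalClosure_normal.conj_mem _ hy _
      intro x hx
      rw [mem_normalizer_iff]
      intro y
      refine ⟨fun hy => key x hx y hy, fun hy => ?_⟩
      have h1 := key x⁻¹ (H.inv_mem hx) _ hy
      have e : x⁻¹ * (x * y * x⁻¹) * x⁻¹⁻¹ = y := by group
      rwa [e] at h1
    · rintro _ ⟨y, hy, rfl⟩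
      obtain ⟨k, hk⟩ := h1 ⟨f y, hy⟩
      refine ⟨k, ?_⟩
      have h2 : f (y ^ 2 ^ k) = 1 := by
        rw [map_pow]
        exact congrArg Subtype.val hk
      exact (hf1 _ h2).2)
  obtain ⟨⟨h, hh⟩, rfl⟩ := QuotientGroup.mk'_surjective (D.subgroupOf H) g
  have hainv : a⁻¹ = a := inv_eq_of_mul_eq_one_left haa
  obtain ⟨m, hm⟩ := hgo
  have hN : ∀ g ∈ H, ∀ x ∈ N, g * x * g⁻¹ ∈ N := by
    intro g hg x hx
    exact (mem_normalizer_iff.1 (hNH hg) x).1 hx
  have hcomm : ∀ y ∈ D, ∀ x ∈ N, y * x = x * y := by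
    intro y hy x hx
    exact ((mem_centralizer_iff.1 hy.2) x hx).symm
  refine ⟨h, hh, fun T hT hT1 hT2 => hg1 ?_, ?_⟩
  · obtain ⟨k, hk⟩ := hT ⟨u * (h * u * h⁻¹), T.mul_mem hT1 hT2⟩
    have hk' : (u * (h * u * h⁻¹)) ^ 2 ^ k = 1 := congrArg Subtype.val hk
    have h3 : f ((⟨u, hu⟩ : H) * (⟨h, hh⟩ * ⟨u, hu⟩ * ⟨h, hh⟩⁻¹)) = (f ⟨h, hh⟩)⁻¹ ^ 2 := by
      rw [map_mul, map_mul, map_mul, map_inv, ← ha]
      change a * (f ⟨h, hh⟩ * a * (f ⟨h, hh⟩)⁻¹) = _
      calc a * (f ⟨h, hh⟩ * a * (f ⟨h, hh⟩)⁻¹) = a * f ⟨h, hh⟩ * a * (f ⟨h, hh⟩)⁻¹ := by group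
        _ = a * f ⟨h, hh⟩ * a⁻¹ * (f ⟨h, hh⟩)⁻¹ := by rw [hainv]
        _ = (f ⟨h, hh⟩)⁻¹ * (f ⟨h, hh⟩)⁻¹ := by rw [hgi]
        _ = _ := by rw [sq]
    have h4 : ((⟨u, hu⟩ : H) * (⟨h, hh⟩ * ⟨u, hu⟩ * ⟨h, hh⟩⁻¹)) ^ 2 ^ k = 1 := Subtype.ext hk'
    have h5 : (f ⟨h, hh⟩) ^ 2 ^ (k + 1) = 1 := by
      have := congrArg f h4
      rw [map_pow, h3, map_one, ← pow_mul, inv_pow, inv_eq_one] at this
      rw [pow_succ, mul_comm]
      exact this
    have h6 : orderOf (f ⟨h, hh⟩) ∣ 2 ^ (k + 1) := orderOf_dvd_of_pow_eq_one h5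
    have h7 : Nat.Coprime (orderOf (f ⟨h, hh⟩)) (2 ^ (k + 1)) :=
      Nat.Coprime.pow_right _ (Nat.coprime_two_right.2 ⟨m, hm⟩)
    exact orderOf_eq_one_iff.1 (h7.eq_one_of_dvd h6)
  · refine exists_avg hab huu (hN u hu) (hN h hh) hC (m := m) ?_ ?_ hz hzu
    · have e : f ((⟨h, hh⟩ : H) ^ (2 * m + 1)) = 1 := by
        rw [map_pow]
        have := pow_orderOf_eq_one (f ⟨h, hh⟩)
        rwa [show orderOf (f ⟨h, hh⟩) = 2 * m + 1 from hm] at this
      have h1 := hf1 _ e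
      exact hcomm _ h1
    · have e : f ((⟨u, hu⟩ : H) * ⟨h, hh⟩ * ⟨u, hu⟩ * ⟨h, hh⟩) = 1 := by
        rw [map_mul, map_mul, map_mul, ← ha]
        have : a * f ⟨h, hh⟩ * a = (f ⟨h, hh⟩)⁻¹ := by
          have h8 := hgi
          rwa [hainv] at h8
        rw [this, inv_mul_cancel]
      exact hcomm _ (hf1 _ e)

/-- two elements in a 2-group, the second normalising -/
theorem common {A : Subgroup G} {u w f : G} (hA : IsPGroup 2 A) (hu : u ∈ A) (hww : w * w = 1)
    (hAn : ∀ x, x * f = f * x → ∀ a ∈ A, x * a * x⁻¹ ∈ A) (hw : w * f = f * w) :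
    ∃ T : Subgroup G, IsPGroup 2 T ∧ u ∈ T ∧ w ∈ T := by
  have h1 : zpowers w ≤ normalizer (A : Set G) := by
    rw [zpowers_le, mem_normalizer_iff]
    intro x
    refine ⟨fun hx => hAn w hw x hx, fun hx => ?_⟩
    have hwi : w⁻¹ = w := inv_eq_of_mul_eq_one_left hww
    have h2 := hAn w hw _ hx
    have e : w * (w * x * w⁻¹) * w⁻¹ = (w * w) * x * (w⁻¹ * w⁻¹) := by group
    rw [e, hwi, hww, one_mul, mul_one] at h2
    exact h2
  have h2 : IsPGroup 2 (zpowers w) := by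
    rintro ⟨_, k, rfl⟩
    refine ⟨1, Subtype.ext ?_⟩
    change (w ^ k) ^ 2 ^ 1 = 1
    rw [pow_one, ← zpow_natCast, ← zpow_mul, mul_comm, zpow_mul, zpow_natCast, sq, hww, one_zpow]
  refine ⟨zpowers w ⊔ A, IsPGroup.to_sup_of_normal_right' h2 hA h1, mem_sup_right hu,
    mem_sup_left (mem_zpowers w)⟩

/-- **LINE (2) OF THEOREM QW, EVERY `q`.**  `C` is a subgroup containing the commutators `[n, u]`, `n ∈ N`. -/
theorem mem_cent [Finite G] {H N C : Subgroup G} (hNH : H ≤ normalizer (N : Set G))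
    (hred : ∀ K : Subgroup G, K ≤ H → H ≤ normalizer (K : Set G) →
      (∀ x ∈ K, ∃ k : ℕ, x ^ 2 ^ k ∈ centralizer (N : Set G)) → K ≤ centralizer (N : Set G))
    (hab : ∀ x ∈ N, ∀ y ∈ N, x * y = y * x)
    {u : G} (hu : u ∈ H) (huu : u * u = 1)
    (hC : ∀ x ∈ N, x * (u * x * u⁻¹) ∈ C) {z : G} (hz : z ∈ N) (hzu : u * z = z * u)
    (hA : ∀ c ∈ N, c ∈ C → u * (z * c) = z * c * u → ∃ A : Subgroup G, IsPGroup 2 A ∧ u ∈ A ∧
      ∀ x, x * (z * c) = z * c * x → ∀ a ∈ A, x * a * x⁻¹ ∈ A) :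
    u ∈ centralizer (N : Set G) := by
  by_contra hun
  obtain ⟨h, hh, hT, c, hcN, hcC, h1, h2⟩ := exists_conj_avg hNH hred hab hu huu hun hC hz hzu
  obtain ⟨A, hA1, hA2, hA3⟩ := hA c hcN hcC h1
  have hww : h * u * h⁻¹ * (h * u * h⁻¹) = 1 := by
    calc h * u * h⁻¹ * (h * u * h⁻¹) = h * (u * u) * h⁻¹ := by group
      _ = 1 := by rw [huu]; group
  have hwf : h * u * h⁻¹ * (z * c) = z * c * (h * u * h⁻¹) := by
    have h3 : h⁻¹ * (z * c) = z * c * h⁻¹ := by
      calc h⁻¹ * (z * c) = h⁻¹ * (z * c * h) * h⁻¹ := by group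
        _ = h⁻¹ * (h * (z * c)) * h⁻¹ := by rw [h2]
        _ = _ := by group
    calc h * u * h⁻¹ * (z * c) = h * u * (h⁻¹ * (z * c)) := by group
      _ = h * (u * (z * c)) * h⁻¹ := by rw [h3]; group
      _ = (h * (z * c)) * u * h⁻¹ := by rw [h1]; group
      _ = z * c * (h * u * h⁻¹) := by rw [h2]; group
  obtain ⟨T, hT1, hT2, hT3⟩ := common hA1 hA2 hww hA3 hwf
  exact hT T hT1 hT2 hT3

end Cfsg.Agent.Omega.NO3S.CaseLW.Odd
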