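import Cfsg.Agent.Omega.NO3S.CaseLW.QWa

/-!
# THEOREM QW for `|Z| > 2`: the three-step conjugation (helper360 #25134, helper792 #25398 / #25515)

`X` is an elementary abelian 2-group normalised by `M`, `O₂(M/C_M(X)) = 1`.

* `Rg X A C` : `A` acts on `X` as a "root group" with centre `C`: `[X, A] ≤ C ≤ C_X(A)` and `[x, A] = C` for every
  `x ∈ X` which is moved by `A`;
* `Rg.four` : if `A` centralises `C'` then `(a a')^4` centralises `X`;
* `Rg.move` : three steps: `p ↦ p s ↦ p s c ↦ p c` under `⟨A, A'⟩`;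
* `cent_of_three` : **line (2) of QW with `low` for all of `Z` only** (`A ≤ O₂(C_M(Z))`; for every `z ∈ Z#` some
  `c ∈ C` with `A ≤ O₂(C_G(z c))` and `z c` not `M`-conjugate to `z`): `A ≤ C(X)`;
* `cent_or_move` : the step of LEMMA LZ (`A ≤ O₂(C_G(z))` for one `z`).
-/

set_option autoImplicit false

namespace Cfsg.Agent.Omega.NO3S.CaseLW.Three

open Subgroup Cfsg
open scoped Pointwise
open Cfsg.Agent.Omega.NO3S.CaseLW.QW (exists_odd common')

universe u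

variable {G : Type u} [Group G]

/-- `A` acts on `X` as a root group with centre `C` (or trivially). -/
structure Rg (X A C : Subgroup G) : Prop where
  sqX : ∀ x ∈ X, x * x = 1
  sqA : ∀ a ∈ A, a * a = 1
  CX : C ≤ X
  CA : ∀ c ∈ C, ∀ a ∈ A, a * c = c * a
  cm : ∀ x ∈ X, ∀ a ∈ A, ∃ c ∈ C, a * x * a⁻¹ = x * c
  rg : ∀ x ∈ X, (∀ a ∈ A, a * x = x * a) ∨ ∀ s ∈ C, ∃ a ∈ A, a * x * a⁻¹ = x * s

variable {X A C A' C' : Subgroup G}

theorem Rg.comm (h : Rg X A C) : ∀ x ∈ X, ∀ y ∈ X, x * y = y * x := by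
  intro x hx y hy
  have h1 := h.sqX _ (X.mul_mem hx hy)
  have h2 : x⁻¹ = x := inv_eq_of_mul_eq_one_left (h.sqX x hx)
  have h3 : y⁻¹ = y := inv_eq_of_mul_eq_one_left (h.sqX y hy)
  have h4 : (x * y)⁻¹ = x * y := inv_eq_of_mul_eq_one_left h1
  rw [mul_inv_rev, h2, h3] at h4
  exact h4.symm

/-- conjugate -/
theorem Rg.conj (h : Rg X A C) {m : G} (hm : m ∈ normalizer (X : Set G)) :
    Rg X (MulAut.conj m • A) (MulAut.conj m • C) := by
  have hX : ∀ x, x ∈ X → m⁻¹ * x * m ∈ X := by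
    intro x hx
    have h1 := (mem_normalizer_iff.1 ((normalizer (X : Set G)).inv_mem hm) x).1 hx
    rwa [inv_inv] at h1
  have hX' : ∀ x, x ∈ X → m * x * m⁻¹ ∈ X := fun x hx => (mem_normalizer_iff.1 hm x).1 hx
  refine ⟨h.sqX, ?_, ?_, ?_, ?_, ?_⟩
  · intro a ha
    rw [mem_pointwise_smul_iff_inv_smul_mem, ← map_inv, MulAut.smul_def, MulAut.conj_apply, inv_inv] at ha
    have h1 := h.sqA _ ha
    calc a * a = m * ((m⁻¹ * a * m) * (m⁻¹ * a * m)) * m⁻¹ := by group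
      _ = 1 := by rw [h1]; group
  · intro c hc
    rw [mem_pointwise_smul_iff_inv_smul_mem, ← map_inv, MulAut.smul_def, MulAut.conj_apply, inv_inv] at hc
    have h1 := hX' _ (h.CX hc)
    have e : m * (m⁻¹ * c * m) * m⁻¹ = c := by group
    rwa [e] at h1
  · intro c hc a ha
    rw [mem_pointwise_smul_iff_inv_smul_mem, ← map_inv, MulAut.smul_def, MulAut.conj_apply, inv_inv] at hc ha
    have h1 := h.CA _ hc _ ha
    calc a * c = m * ((m⁻¹ * a * m) * (m⁻¹ * c * m)) * m⁻¹ := by group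
      _ = c * a := by rw [h1]; group
  · intro x hx a ha
    rw [mem_pointwise_smul_iff_inv_smul_mem, ← map_inv, MulAut.smul_def, MulAut.conj_apply, inv_inv] at ha
    obtain ⟨c, hc, h1⟩ := h.cm _ (hX x hx) _ ha
    refine ⟨m * c * m⁻¹, ?_, ?_⟩
    · rw [mem_pointwise_smul_iff_inv_smul_mem, ← map_inv, MulAut.smul_def, MulAut.conj_apply, inv_inv]
      have e : m⁻¹ * (m * c * m⁻¹) * m = c := by group
      rwa [e]
    · calc a * x * a⁻¹ = m * ((m⁻¹ * a * m) * (m⁻¹ * x * m) * (m⁻¹ * a * m)⁻¹) * m⁻¹ := by group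
        _ = x * (m * c * m⁻¹) := by rw [h1]; group
  · intro x hx
    rcases h.rg _ (hX x hx) with h1 | h1
    · refine Or.inl fun a ha => ?_
      rw [mem_pointwise_smul_iff_inv_smul_mem, ← map_inv, MulAut.smul_def, MulAut.conj_apply, inv_inv] at ha
      have h2 := h1 _ ha
      calc a * x = m * ((m⁻¹ * a * m) * (m⁻¹ * x * m)) * m⁻¹ := by group
        _ = x * a := by rw [h2]; group
    · refine Or.inr fun s hs => ?_
      rw [mem_pointwise_smul_iff_inv_smul_mem, ← map_inv, MulAut.smul_def, MulAut.conj_apply, inv_inv] at hs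
      obtain ⟨a, ha, h2⟩ := h1 _ hs
      refine ⟨m * a * m⁻¹, ?_, ?_⟩
      · rw [mem_pointwise_smul_iff_inv_smul_mem, ← map_inv, MulAut.smul_def, MulAut.conj_apply, inv_inv]
        have e : m⁻¹ * (m * a * m⁻¹) * m = a := by group
        rwa [e]
      · calc m * a * m⁻¹ * x * (m * a * m⁻¹)⁻¹ = m * (a * (m⁻¹ * x * m) * a⁻¹) * m⁻¹ := by group
          _ = x * s := by rw [h2]; group

/-- if `A` centralises `C'`, then `(a a')^4` centralises `X` -/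
theorem Rg.four (h : Rg X A C) (h' : Rg X A' C') (hc : ∀ s ∈ C', ∀ a ∈ A, a * s = s * a)
    {a a' : G} (ha : a ∈ A) (ha' : a' ∈ A') : (a * a') ^ 4 ∈ centralizer (X : Set G) := by
  set f := MulAut.conj (a * a') with hf
  have e1 : ∀ n : G, f n = a * (a' * n * a'⁻¹) * a⁻¹ := fun n => by
    rw [hf, MulAut.conj_apply]; group
  have hcj : ∀ {b s : G}, b * s = s * b → b * s * b⁻¹ = s := fun {b s} e => by
    rw [e, mul_assoc, mul_inv_cancel, mul_one]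
  have hmul : ∀ x y : G, a * (x * y) * a⁻¹ = (a * x * a⁻¹) * (a * y * a⁻¹) := fun x y => by group
  have hcm := h.comm
  -- `f` on `C'`
  have f1 : ∀ s ∈ C', f s = s := by
    intro s hs
    rw [e1, hcj (h'.CA s hs a' ha'), hcj (hc s hs a ha)]
  -- `f` on `C`
  have f2 : ∀ c ∈ C, ∃ s ∈ C', f c = c * s := by
    intro c hc1
    obtain ⟨s, hs, h1⟩ := h'.cm c (h.CX hc1) a' ha'
    refine ⟨s, hs, ?_⟩
    rw [e1, h1, hmul, hcj (h.CA c hc1 a ha), hcj (hc s hs a ha)]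
  have f3 : ∀ x ∈ X, ∃ c ∈ C, ∃ s ∈ C', f x = x * c * s := by
    intro x hx
    obtain ⟨s, hs, h1⟩ := h'.cm x hx a' ha'
    obtain ⟨c, hc1, h2⟩ := h.cm x hx a ha
    refine ⟨c, hc1, s, hs, ?_⟩
    rw [e1, h1, hmul, h2, hcj (hc s hs a ha)]
  have f4 : ∀ x ∈ X, ∃ s ∈ C', f (f x) = x * s := by
    intro x hx
    obtain ⟨c, hc1, s, hs, h1⟩ := f3 x hx
    obtain ⟨s', hs', h2⟩ := f2 c hc1
    refine ⟨s', hs', ?_⟩
    rw [h1, map_mul, map_mul, h1, h2, f1 s hs]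
    have hcX := h.CX hc1
    have hsX := h'.CX hs
    have hsX' := h'.CX hs'
    calc x * c * s * (c * s') * s = x * (c * (s * c)) * (s' * s) := by group
      _ = x * (c * (c * s)) * (s * s') := by rw [hcm s hsX c hcX, hcm s' hsX' s hsX]
      _ = x * (c * c) * (s * s) * s' := by group
      _ = x * s' := by rw [h.sqX c hcX, h.sqX s hsX, mul_one, mul_one]
  refine mem_centralizer_iff.2 fun x hx => ?_
  have h5 : (MulAut.conj ((a * a') ^ 4)) x = x := by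
    rw [map_pow, pow_succ, pow_succ, pow_succ, pow_one]
    change f (f (f (f x))) = x
    obtain ⟨s, hs, h1⟩ := f4 x hx
    rw [h1, map_mul, map_mul, f1 s hs, f1 s hs, h1, mul_assoc, h'.sqX s (h'.CX hs), mul_one]
  rw [MulAut.conj_apply, mul_inv_eq_iff_eq_mul] at h5
  exact h5.symm

/-- **three steps** `p ↦ p s ↦ p s c ↦ p c` -/
theorem Rg.move (h : Rg X A C) (h' : Rg X A' C') (hC : ∃ s ∈ C', ∃ a ∈ A, a * s ≠ s * a)
    {p c : G} (hp : p ∈ X) (hc : c ∈ C) (hpA : ∀ a ∈ A, a * p = p * a) (hpA' : ∃ a ∈ A', a * p ≠ p * a)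
    (hqA' : ∃ a ∈ A', a * (p * c) ≠ p * c * a) : ∃ g ∈ A ⊔ A', g * p * g⁻¹ = p * c := by
  obtain ⟨s, hs, a₀, ha₀, hs1⟩ := hC
  have hcX := h.CX hc
  have hsX := h'.CX hs
  have hcm := h.comm
  obtain ⟨b₁, hb₁, e1⟩ : ∃ b ∈ A', b * p * b⁻¹ = p * s := by
    rcases h'.rg p hp with h1 | h1
    · obtain ⟨b, hb, h2⟩ := hpA'
      exact (h2 (h1 b hb)).elim
    · exact h1 s hs
  obtain ⟨a₁, ha₁, e2⟩ : ∃ a ∈ A, a * s * a⁻¹ = s * c := by
    rcases h.rg s hsX with h1 | h1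
    · exact (hs1 (h1 a₀ ha₀)).elim
    · exact h1 c hc
  obtain ⟨b₂, hb₂, e3⟩ : ∃ b ∈ A', b * (p * c) * b⁻¹ = p * c * s := by
    rcases h'.rg (p * c) (X.mul_mem hp hcX) with h1 | h1
    · obtain ⟨b, hb, h2⟩ := hqA'
      exact (h2 (h1 b hb)).elim
    · exact h1 s hs
  refine ⟨b₂ * a₁ * b₁, mul_mem (mul_mem (mem_sup_right hb₂) (mem_sup_left ha₁)) (mem_sup_right hb₁), ?_⟩
  have e4 : a₁ * p * a₁⁻¹ = p := by rw [hpA a₁ ha₁, mul_assoc, mul_inv_cancel, mul_one]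
  have e5 : b₂ * s * b₂⁻¹ = s := by rw [h'.CA s hs b₂ hb₂, mul_assoc, mul_inv_cancel, mul_one]
  calc b₂ * a₁ * b₁ * p * (b₂ * a₁ * b₁)⁻¹ = b₂ * (a₁ * (b₁ * p * b₁⁻¹) * a₁⁻¹) * b₂⁻¹ := by group
    _ = b₂ * ((a₁ * p * a₁⁻¹) * (a₁ * s * a₁⁻¹)) * b₂⁻¹ := by rw [e1]; group
    _ = b₂ * (p * (c * s)) * b₂⁻¹ := by rw [e4, e2, hcm s hsX c hcX]
    _ = (b₂ * (p * c) * b₂⁻¹) * (b₂ * s * b₂⁻¹) := by group
    _ = p * c * (s * s) := by rw [e3, e5]; group
    _ = p * c := by rw [h'.sqX s hsX, mul_one]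

section fin

variable [Finite G] {M Zs : Subgroup G}

/-- **Line (2) of THEOREM QW, `low` for all of `Z` only.** -/
theorem cent_of_three (hMX : M ≤ normalizer (X : Set G))
    (hred : ∀ K : Subgroup G, K ≤ M → M ≤ normalizer (K : Set G) →
      (∀ x ∈ K, ∃ k : ℕ, x ^ 2 ^ k ∈ centralizer (X : Set G)) → K ≤ centralizer (X : Set G))
    (h : Rg X A C) (hAM : A ≤ M) (hZX : Zs ≤ X) (hZA : ∀ z ∈ Zs, ∀ a ∈ A, a * z = z * a)
    (hO : ∀ a ∈ A, ∃ R : Subgroup G, IsPGroup 2 R ∧ a ∈ R ∧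
      ∀ x ∈ M, (∀ z ∈ Zs, x * z = z * x) → ∀ r ∈ R, x * r * x⁻¹ ∈ R)
    (hz : ∀ z ∈ Zs, z ≠ 1 → ∃ c ∈ C, (∀ a ∈ A, ∃ R : Subgroup G, IsPGroup 2 R ∧ a ∈ R ∧
      ∀ x ∈ M, x * (z * c) = z * c * x → ∀ r ∈ R, x * r * x⁻¹ ∈ R) ∧ ∀ m ∈ M, m * z * m⁻¹ ≠ z * c) :
    A ≤ centralizer (X : Set G) := by
  intro a ha
  by_contra hac
  obtain ⟨m, hm, hodd⟩ := exists_odd hMX hred (hAM ha) (h.sqA a ha) hac
  set a' := m * a * m⁻¹ with ha'
  have h' : Rg X (MulAut.conj m • A) (MulAut.conj m • C) := h.conj (hMX hm)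
  have hA' : a' ∈ MulAut.conj m • A := by
    rw [mem_pointwise_smul_iff_inv_smul_mem, ← map_inv, MulAut.smul_def, MulAut.conj_apply, inv_inv, ha']
    have e : m⁻¹ * (m * a * m⁻¹) * m = a := by group
    rwa [e]
  have hA'M : MulAut.conj m • A ≤ M := by
    intro x hx
    rw [mem_pointwise_smul_iff_inv_smul_mem, ← map_inv, MulAut.smul_def, MulAut.conj_apply, inv_inv] at hx
    have e : x = m * (m⁻¹ * x * m) * m⁻¹ := by group
    rw [e]
    exact M.mul_mem (M.mul_mem hm (hAM hx)) (M.inv_mem hm)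
  have ha'M := hA'M hA'
  have haa' : a' * a' = 1 := h'.sqA _ hA'
  have key : ∀ R : Subgroup G, IsPGroup 2 R → a ∈ R → (∀ r ∈ R, a' * r * a'⁻¹ ∈ R) → False := by
    intro R hR haR hn
    obtain ⟨k, hk⟩ := common' hR haR haa' hn
    exact hodd k (by rw [hk]; exact one_mem _)
  obtain ⟨z, hzZ, hza⟩ : ∃ z ∈ Zs, a' * z ≠ z * a' := by
    by_contra hcon
    push Not at hcon
    obtain ⟨R, hR, haR, hn⟩ := hO a ha
    exact key R hR haR (hn a' ha'M hcon)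
  have hz1 : z ≠ 1 := by
    rintro rfl
    exact hza (by rw [mul_one, one_mul])
  obtain ⟨c, hc, hcR, hcm⟩ := hz z hzZ hz1
  have hzc : a' * (z * c) ≠ z * c * a' := by
    intro h1
    obtain ⟨R, hR, haR, hn⟩ := hcR a ha
    exact key R hR haR (hn a' ha'M h1)
  have hs : ∃ s ∈ MulAut.conj m • C, ∃ a ∈ A, a * s ≠ s * a := by
    by_contra hcon
    push Not at hcon
    exact hodd 2 (h.four h' hcon ha hA')
  obtain ⟨g, hg, hgz⟩ := h.move h' hs (hZX hzZ) hc (hZA z hzZ) ⟨a', hA', hza⟩ ⟨a', hA', hzc⟩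
  exact hcm g ((sup_le hAM hA'M) hg) hgz

/-- **The step of LEMMA LZ**: `H ≤ C(z)`, `t, z₀ ∈ C`, `t ≠ 1, z₀`; `A` lies in 2-groups normalised by `C_H(z z₀)`.
Then `A` centralises `X` or `z₀` is `H`-conjugate to another element of `C`. -/
theorem cent_or_move {H : Subgroup G} {z z₀ t : G} (hHX : H ≤ normalizer (X : Set G))
    (hred : ∀ K : Subgroup G, K ≤ H → H ≤ normalizer (K : Set G) →
      (∀ x ∈ K, ∃ k : ℕ, x ^ 2 ^ k ∈ centralizer (X : Set G)) → K ≤ centralizer (X : Set G))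
    (h : Rg X A C) (hAH : A ≤ H) (hHz : ∀ x ∈ H, x * z = z * x) (hz₀ : z₀ ∈ C) (ht : t ∈ C) (ht1 : t ≠ 1)
    (htz : t ≠ z₀)
    (hz : ∀ a ∈ A, ∃ R : Subgroup G, IsPGroup 2 R ∧ a ∈ R ∧
      ∀ x ∈ H, x * (z * z₀) = z * z₀ * x → ∀ r ∈ R, x * r * x⁻¹ ∈ R) :
    A ≤ centralizer (X : Set G) ∨ ∃ g ∈ H, ∃ c ∈ C, c ≠ z₀ ∧ g * z₀ * g⁻¹ = c := by
  by_contra hcon
  push Not at hcon
  obtain ⟨h1, hno⟩ := hcon
  apply h1
  intro a ha
  by_contra hac
  obtain ⟨m, hm, hodd⟩ := exists_odd hHX hred (hAH ha) (h.sqA a ha) hac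
  set a' := m * a * m⁻¹ with ha'
  have h' : Rg X (MulAut.conj m • A) (MulAut.conj m • C) := h.conj (hHX hm)
  have hA' : a' ∈ MulAut.conj m • A := by
    rw [mem_pointwise_smul_iff_inv_smul_mem, ← map_inv, MulAut.smul_def, MulAut.conj_apply, inv_inv, ha']
    have e : m⁻¹ * (m * a * m⁻¹) * m = a := by group
    rwa [e]
  have hA'H : MulAut.conj m • A ≤ H := by
    intro x hx
    rw [mem_pointwise_smul_iff_inv_smul_mem, ← map_inv, MulAut.smul_def, MulAut.conj_apply, inv_inv] at hx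
    have e : x = m * (m⁻¹ * x * m) * m⁻¹ := by group
    rw [e]
    exact H.mul_mem (H.mul_mem hm (hAH hx)) (H.inv_mem hm)
  have ha'H := hA'H hA'
  have haa' : a' * a' = 1 := h'.sqA _ hA'
  have key : ∀ R : Subgroup G, IsPGroup 2 R → a ∈ R → (∀ r ∈ R, a' * r * a'⁻¹ ∈ R) → False := by
    intro R hR haR hn
    obtain ⟨k, hk⟩ := common' hR haR haa' hn
    exact hodd k (by rw [hk]; exact one_mem _)
  have hz₀X := h.CX hz₀
  have htX := h.CX ht
  -- `a'` moves `z₀`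
  have hmz : a' * z₀ ≠ z₀ * a' := by
    intro h2
    obtain ⟨R, hR, haR, hn⟩ := hz a ha
    refine key R hR haR (hn a' ha'H ?_)
    calc a' * (z * z₀) = (a' * z) * z₀ := by group
      _ = z * (a' * z₀) := by rw [hHz a' ha'H]; group
      _ = z * z₀ * a' := by rw [h2]; group
  have hs : ∃ s ∈ MulAut.conj m • C, ∃ a ∈ A, a * s ≠ s * a := by
    by_contra hcon
    push Not at hcon
    exact hodd 2 (h.four h' hcon ha hA')
  -- an element `c ≠ z₀` of `C` moved by `a'`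
  obtain ⟨c, hc, hcz, hcm⟩ : ∃ c ∈ C, c ≠ z₀ ∧ a' * c ≠ c * a' := by
    by_cases h2 : a' * t = t * a'
    · refine ⟨z₀ * t, C.mul_mem hz₀ ht, fun h3 => ht1 ?_, fun h3 => hmz ?_⟩
      · exact mul_left_cancel (h3.trans (mul_one z₀).symm)
      · have h4 : a' * z₀ * t = z₀ * a' * t := by
          calc a' * z₀ * t = a' * (z₀ * t) := by group
            _ = z₀ * (t * a') := by rw [h3]; group
            _ = z₀ * a' * t := by rw [← h2]; group
        exact mul_right_cancel h4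
    · exact ⟨t, ht, htz, h2⟩
  have hcX := h.CX hc
  have e1 : z₀ * (z₀ * c) = c := by rw [← mul_assoc, h.sqX z₀ hz₀X, one_mul]
  obtain ⟨g, hg, hgz⟩ := h.move h' hs hz₀X (C.mul_mem hz₀ hc) (fun b hb => h.CA z₀ hz₀ b hb)
    ⟨a', hA', hmz⟩ ⟨a', hA', by rw [e1]; exact hcm⟩
  rw [e1] at hgz
  exact hno g ((sup_le hAH hA'H) hg) c hc hcz hgz

end fin

end Cfsg.Agent.Omega.NO3S.CaseLW.Three
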