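import Cfsg.Agent.Omega.NO3S.CaseLW.QWoFr
import Cfsg.Agent.Omega.NO3S.CaseLW.Three
import Cfsg.Agent.Omega.NO3S.TwoFar.Node
import Cfsg.Agent.Omega.Node.MulX

/-!
# LEMMA LZ (helper792, #25515 (B)): `V_P ≤ O₂(C_G(z))` for every `1 ≠ z ∈ Z = Ω₁(Z(S))`

In the case (L) (`MulL`), every `q`; `HypC.low` gives only `V_P ≤ O₂(C_G(Z))`.

* `md_onto` : `[b, V] = Z` for an element `b` of `B` which moves the `B`-module `V`, `|Z| = |V / Z| = q`;
* `md_rg` : a `B`-module `W` acts as a root group with centre `Z` on an elementary abelian `X ≤ B` normalised by `W`;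
* `fus_supp` : `G`-conjugate elements of `Z_J` have full support together;
* `best_of_off` : without over-offenders every offender is a best offender;
* `MulL.supp` : the elements of `Z#` have full support;
* `MulL.low_one` : the lemma.
-/

set_option autoImplicit false
set_option linter.unusedSectionVars false

namespace Cfsg.Agent.Omega.NO3S.CaseLW.LowOne

open Subgroup Cfsg Cfsg.Agent.ZN.ChoiceBase
open Cfsg.Agent.ZN (jj zj bau zc zl o2 le_centralizer_zc le_normalizer_zl)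
open Cfsg.Agent.ZN.ChoiceSit (Syl exists_syl syl_conj)
open Cfsg.Agent.Omega.MinPar
open Cfsg.Agent.MinSimple.VModule (o2_isPGroup)
open Cfsg.Agent.Omega.FFThm (ElemM OffM NoOverM relIndex_le_iff)
open Cfsg.Agent.Omega.NO1.BestOff (Best)
open Cfsg.Agent.Omega.OM.WeakCl (WC)
open Cfsg.Agent.Omega.OM.Uni
open Cfsg.Agent.Omega.OM.Lev.Uni (FrL)
open Cfsg.Agent.Omega.NO3S.Level (nxt Lev BO CaseL)
open Cfsg.Agent.Omega.NO3S.EThree.Frame (Bg Fg)
open Cfsg.Agent.Omega.ML.Final (MLK)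
open Cfsg.Agent.Omega.ML.GMod (ZD)
open Cfsg.Agent.Omega.Node.MulX (MulL)
open Cfsg.Agent.Omega.NO3S.CaseLW.Three (Rg cent_or_move)
open Cfsg.Agent.Omega.NO3S.CaseLW.QW (red_zl le_o2_M o2_conj_mem)

universe u

variable {G : Type u} [Group G]

/-! ### Modules -/

section md

variable {B V Z X : Subgroup G} {q : ℕ}

/-- `[b, V] = Z` if `b ∈ B` moves `V`, `|Z| = q`. -/
theorem md_onto [Finite G] (h : Md B V Z q) (hZ : Nat.card Z = q) {b : G} (hb : b ∈ B)
    (hne : ¬ ∀ v ∈ V, b * v = v * b) {s : G} (hs : s ∈ Z) : ∃ v ∈ V, b * v * b⁻¹ * v⁻¹ = s := by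
  classical
  let f : V →* G :=
    { toFun := fun v => b * v * b⁻¹ * (v : G)⁻¹
      map_one' := by simp
      map_mul' := by
        intro v w
        have h1 := h.ZV (h.com b hb w w.2)
        have h2 : (b * w * b⁻¹ * (w : G)⁻¹) * (v : G)⁻¹ = (v : G)⁻¹ * (b * w * b⁻¹ * (w : G)⁻¹) :=
          h.comm h1 (inv_mem v.2)
        change b * (v * w) * b⁻¹ * ((v : G) * w)⁻¹ = (b * v * b⁻¹ * (v : G)⁻¹) * (b * w * b⁻¹ * (w : G)⁻¹)
        calc b * (v * w) * b⁻¹ * ((v : G) * w)⁻¹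
            = b * v * b⁻¹ * ((b * w * b⁻¹ * (w : G)⁻¹) * (v : G)⁻¹) := by group
          _ = _ := by rw [h2]; group }
  have hf : ∀ v : V, f v = b * v * b⁻¹ * (v : G)⁻¹ := fun v => rfl
  have h1 : Nat.card f.ker ≤ q := by
    rw [← hZ]
    refine Nat.card_le_card_of_injective (fun x : f.ker => (⟨(x.1 : G), ?_⟩ : Z)) ?_
    · have h2 : f x.1 = 1 := x.2
      rw [hf] at h2
      exact h.mem_Z hb hne x.1.2 (mul_inv_eq_iff_eq_mul.1 (mul_inv_eq_one.1 h2))
    · intro x y hxy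
      exact Subtype.ext (Subtype.ext (congrArg (fun t : Z => (t : G)) hxy))
  have h2 : f.range ≤ Z := by
    rintro _ ⟨v, rfl⟩
    exact h.com b hb v v.2
  have h3 : Nat.card f.ker * Nat.card f.range = Nat.card V := by
    rw [← Subgroup.index_ker]
    exact Subgroup.card_mul_index _
  have hq : 0 < q := lt_trans Nat.zero_lt_one h.one
  have h4 : q ≤ Nat.card f.range := by
    rw [h.card, hZ] at h3
    refine Nat.le_of_mul_le_mul_left ?_ hq
    rw [← h3]
    exact Nat.mul_le_mul_right _ h1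
  have h5 : f.range = Z := Subgroup.eq_of_le_of_card_ge h2 (by rw [hZ]; exact h4)
  rw [← h5] at hs
  obtain ⟨v, hv⟩ := hs
  exact ⟨v, v.2, hv⟩

/-- **a `B`-module `W` acts as a root group on `X ≤ B`** -/
theorem md_rg [Finite G] (h : Md B V Z q) (hZ : Nat.card Z = q) (hX : ∀ x ∈ X, x * x = 1) (hXB : X ≤ B)
    (hn : V ≤ normalizer (X : Set G)) (hne : ¬ V ≤ centralizer (X : Set G)) : Rg X V Z := by
  have hmv : ∀ x ∈ X, (∀ a ∈ V, a * x = x * a) ∨ ∀ s ∈ Z, ∃ a ∈ V, a * x * a⁻¹ = x * s := by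
    intro x hx
    by_cases h0 : ∀ v ∈ V, x * v = v * x
    · exact Or.inl fun a ha => (h0 a ha).symm
    · refine Or.inr fun s hs => ?_
      have hx2 : x⁻¹ = x := inv_eq_of_mul_eq_one_left (hX x hx)
      obtain ⟨v, hv, e⟩ := md_onto h hZ (hXB hx) h0 hs
      refine ⟨v, hv, ?_⟩
      -- `v x v⁻¹ = x (x v x⁻¹ v⁻¹)`... with `x = x⁻¹`
      calc v * x * v⁻¹ = x * (x⁻¹ * v * x * v⁻¹) := by group
        _ = x * (x * v * x⁻¹ * v⁻¹) := by rw [hx2]
        _ = x * s := by rw [e]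
  refine ⟨hX, fun a ha => ?_, ?_, fun c hc a ha => h.comm ha (h.ZV hc), fun x hx a ha => ?_, hmv⟩
  · have := SQ1.Bau.elem_sq h.el a ha
    rwa [sq] at this
  · intro s hs
    by_contra hsX
    apply hne
    intro a ha
    refine mem_centralizer_iff.2 fun x hx => ?_
    by_contra hax
    rcases hmv x hx with h1 | h1
    · exact hax (h1 a ha).symm
    · obtain ⟨b, hb, e⟩ := h1 s hs
      apply hsX
      have h2 : b * x * b⁻¹ ∈ X := (mem_normalizer_iff.1 (hn hb) x).1 hx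
      rw [e] at h2
      have h3 := X.mul_mem (X.inv_mem hx) h2
      rwa [inv_mul_cancel_left] at h3
  · have h1 := h.com x⁻¹ (B.inv_mem (hXB hx)) a ha
    refine ⟨_, h1, ?_⟩
    group

end md

/-! ### Fusion in `Z_J` -/

section fus

variable {ι : Type*} {B Q V X ZJ : Subgroup G} {L W Z C A : ι → Subgroup G} {q : ℕ}

/-- **`G`-conjugate elements of `Z_J`: if one has full support so has the other.** -/
theorem fus_supp [Finite G] [Finite ι] (h : FrL B Q V X ZJ L W Z C A q) (hB : IsPGroup 2 B) (wc : WC B)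
    (hX : normalizer (B : Set G) ≤ normalizer (X : Set G)) {z e x : G} (hz : z ∈ ZJ) (he : e ∈ ZJ)
    (hf : ∀ i, z ∉ C i) (hx : x * z * x⁻¹ = e) (j : ι) : e ∉ C j := by
  intro hej
  have hB1 : B ≤ centralizer ({e} : Set G) := fun b hb =>
    mem_centralizer_singleton_iff.2 (((h.mem_ZJ e).1 he).2 b hb)
  have hB2 : cj x B ≤ centralizer ({e} : Set G) := by
    rintro _ ⟨b, hb, rfl⟩
    rw [mem_centralizer_singleton_iff, ← hx]
    have h1 := ((h.mem_ZJ z).1 hz).2 b hb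
    change x * b * x⁻¹ * (x * z * x⁻¹) = x * z * x⁻¹ * (x * b * x⁻¹)
    calc x * b * x⁻¹ * (x * z * x⁻¹) = x * (b * z) * x⁻¹ := by group
      _ = x * (z * b) * x⁻¹ := by rw [h1]
      _ = _ := by group
  obtain ⟨T, hT, hBT⟩ := exists_syl hB hB1
  obtain ⟨T', hT', hBT'⟩ := exists_syl (isPGroup_cj x hB) hB2
  obtain ⟨c, hc, rfl⟩ := syl_conj hT hT'
  have h1 : cj (c⁻¹ * x) B = B := by
    refine wc T hT.2.1 hBT _ ?_
    have := cj_mono c⁻¹ hBT'
    rwa [cj_cj, cj_inv_cj] at this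
  have hn : c⁻¹ * x ∈ normalizer (B : Set G) := mem_normalizer_iff_cj.2 h1
  have hn' : (c⁻¹ * x)⁻¹ ∈ normalizer (B : Set G) := inv_mem hn
  have hce : c⁻¹ * e * c = e := by
    rw [mem_centralizer_singleton_iff.1 (inv_mem hc)]; group
  have e2 : (c⁻¹ * x)⁻¹ * e * (c⁻¹ * x)⁻¹⁻¹ = z := by
    calc (c⁻¹ * x)⁻¹ * e * (c⁻¹ * x)⁻¹⁻¹ = x⁻¹ * (c * e * c⁻¹) * x := by group
      _ = x⁻¹ * (c * (c⁻¹ * e * c) * c⁻¹) * x := by rw [hce]
      _ = x⁻¹ * e * x := by group
      _ = z := by rw [← hx]; group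
  obtain ⟨-, hp⟩ := h.norm_of hn' (hX hn')
  obtain ⟨i, hi, -⟩ := hp j
  have h3 := QWoFr.supp_cj h (fun i => (hp i).imp fun m hm => hm.1) hi he hej
  rw [e2] at h3
  exact hf i h3

end fus

/-! ### Offenders -/

/-- without over-offenders every offender is a best offender -/
theorem best_of_off [Finite G] {V A H : Subgroup G} (hno : NoOverM V H) (hA : A ≤ H) (hE : ElemM V A)
    (hoff : Nat.card V * Nat.card ↥(A ⊓ centralizer (V : Set G)) ≤
      Nat.card A * Nat.card ↥(V ⊓ centralizer (A : Set G))) : Best V A where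
  toElemM := hE
  max := fun Y hY _ => by
    refine (hno Y (hY.trans hA) (NO1.BestOff.ElemM.mono hE hY)).trans (le_trans ?_ hoff)
    exact Nat.mul_le_mul_left _ (card_le_of_le (inf_le_inf_right _ hY))

/-! ### The lemma -/

section low

variable [Finite G] {S : Sylow 2 G} {P B ZJ : Subgroup G} {k : ℕ} {L W Z C A : Fin k → Subgroup G} {q : ℕ}
  (h : MulL S P B ZJ L W Z C A q)
include h

theorem zc_le_ZJ : zc (S : Subgroup G) ≤ ZJ := by
  rw [h.eZ]
  exact h.cl.levQ.next.zc_le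

/-- **the elements of `Z#` have full support** -/
theorem supp {z : G} (hz : z ∈ zc (S : Subgroup G)) (hz1 : z ≠ 1) (i : Fin k) : z ∉ C i := by
  intro hi
  refine hz1 (h.fr.C0 z (h.fr.ZJV (zc_le_ZJ h hz)) fun j => ?_)
  obtain ⟨s, hs, e⟩ := h.bg.trans i j
  obtain ⟨σ, hσ⟩ := h.bg.perm_S hs
  have h1 : σ i = j := h.bg.W_inj ((hσ i).1.symm.trans e)
  have h2 : s * z * s⁻¹ ∈ cj s (C i) := ⟨z, hi, rfl⟩
  rw [(hσ i).2.2, h1] at h2
  have h3 : s * z * s⁻¹ = z := by
    rw [(mem_zc.1 hz).2.2 s hs]; group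
  rwa [h3] at h2

/-- `V_H ≤ B` for `H = C_G(z)`, `z ∈ Z#` -/
theorem zl_le_B (ml : MLK.{u, u}) {z : G} (hz : z ∈ zc (S : Subgroup G)) (hz1 : z ≠ 1) :
    zl (S : Subgroup G) (centralizer ({z} : Set G)) ≤ B := by
  have hG := h.cl.ctx.char2
  have hz2 : z ^ 2 = 1 := (mem_zc.1 hz).2.1
  have hSz : (S : Subgroup G) ≤ centralizer ({z} : Set G) := fun s hs =>
    mem_centralizer_singleton_iff.2 ((mem_zc.1 hz).2.2 s hs)
  set H : Subgroup G := centralizer ({z} : Set G) with hH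
  have hloc : IsLoc (S : Subgroup G) H := isLoc_centralizer S hz2 hz1 hSz
  have hVH : zl (S : Subgroup G) H ≤ zc (o2 H) := hloc.zl_le S hG
  have hVS : zl (S : Subgroup G) H ≤ (S : Subgroup G) := (hVH.trans (ZN.zc_le _)).trans (hloc.o2_le S)
  have hsq : ∀ v ∈ zl (S : Subgroup G) H, v * v = 1 := fun v hv => by
    have h1 := (mem_zc.1 (hVH hv)).2.1
    rwa [sq] at h1
  have hcm : ∀ v ∈ zl (S : Subgroup G) H, ∀ w ∈ zl (S : Subgroup G) H, v * w = w * v := fun v hv w hw =>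
    (mem_zc.1 (hVH hw)).2.2 v (ZN.zc_le _ (hVH hv))
  have hCz : centralizer (zc (S : Subgroup G) : Set G) ≤ H := centralizer_le (Set.singleton_subset_iff.2 hz)
  have hV2 : ∀ v ∈ zl (S : Subgroup G) P, v * v = 1 := fun v hv => by
    have := h.bg.fr.Vsq hv
    rwa [sq] at this
  have D : ZD H (zl (S : Subgroup G) H) (zc (S : Subgroup G)) (S : Subgroup G) (zl (S : Subgroup G) P) :=
    { nV := le_normalizer_zl _ _
      sq := hsq
      ZV := MinSimple.VModule.zc_le_zl _ _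
      gen := fun X h1 h2 => MinSimple.VModule.zl_le h1 h2
      TL := hSz
      two := S.isPGroup'
      odd := MinSimple.Basic.not_dvd_relIndex S hSz
      TZ := le_centralizer_zc _
      AO := by
        rw [inf_eq_right.2 hCz]
        exact h.cl.hypN.low P h.cl.pss.par
      Asq := fun a ha => by rw [hV2 a ha]; exact one_mem _ }
  have h1 := D.gml ml (TwoFar.isKGroup_centralizer_pt h.cl.hypN.toHyp hz1)
  have h2 := (relIndex_le_iff (V := zl (S : Subgroup G) P) (A := zl (S : Subgroup G) H)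
    (B := centralizer (zl (S : Subgroup G) P : Set G)) (D := centralizer (zl (S : Subgroup G) H : Set G))).2 h1
  have hno := (h.cl.hypN.toHyp.ff FF.Glob.ffthmM (h.cl.ff P h.cl.pss)).1
  have h3 : Best (zl (S : Subgroup G) P) (zl (S : Subgroup G) H) := by
    refine best_of_off hno (hVS.trans h.cl.pss.par.isLoc.le) ⟨fun a ha => ?_, fun a ha b hb => ?_⟩ h2
    · rw [sq, hsq a ha]; exact one_mem _
    · rw [hcm a ha b hb, mul_assoc, mul_assoc, mul_inv_cancel_left, mul_inv_cancel]; exact one_mem _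
  have h4 : zl (S : Subgroup G) H ∈ BO (S : Subgroup G) (o2 P) := ⟨hVS, by rw [h.cl.zc_eq]; exact h3⟩
  rw [h.eqB]
  exact (NO3S.Level.BO.le_nxt h4).trans (le_inf (NO3S.Level.nxt_le _ _) (NO3S.Level.le_centralizer_zc _))

/-- `q ≥ 4` : another nontrivial element of `Z j` -/
theorem exists_ne_ne (hq : 4 ≤ q) (j : Fin k) (z₀ : G) : ∃ t ∈ Z j, t ≠ 1 ∧ t ≠ z₀ := by
  by_contra hcon
  push Not at hcon
  have h1 : Nat.card (Z j) ≤ 2 := by
    have h2 : ((Z j : Subgroup G) : Set G) ⊆ {1, z₀} := by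
      intro t ht
      by_cases h3 : t = 1
      · exact Or.inl h3
      · exact Or.inr (hcon t ht h3)
    have h3 := Set.ncard_le_ncard h2 (Set.toFinite _)
    have h4 : ({1, z₀} : Set G).ncard ≤ 2 := by
      have h5 := Set.ncard_insert_le (1 : G) ({z₀} : Set G)
      rwa [Set.ncard_singleton] at h5
    exact h3.trans h4
  rw [h.fr.cardZ j] at h1
  omega

/-- **LEMMA LZ**, `q ≥ 4` -/
theorem low_one_four (ml : MLK.{u, u}) (hq : 4 ≤ q) {z : G} (hz : z ∈ zc (S : Subgroup G)) (hz1 : z ≠ 1) :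
    zl (S : Subgroup G) P ≤ o2 (centralizer ({z} : Set G)) := by
  have hG := h.cl.ctx.char2
  have hz2 : z ^ 2 = 1 := (mem_zc.1 hz).2.1
  have hSz : (S : Subgroup G) ≤ centralizer ({z} : Set G) := fun s hs =>
    mem_centralizer_singleton_iff.2 ((mem_zc.1 hz).2.2 s hs)
  have hzB := zl_le_B h ml hz hz1
  set H : Subgroup G := centralizer ({z} : Set G) with hH
  have hloc : IsLoc (S : Subgroup G) H := isLoc_centralizer S hz2 hz1 hSz
  have hVH : zl (S : Subgroup G) H ≤ zc (o2 H) := hloc.zl_le S hG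
  have hsq : ∀ v ∈ zl (S : Subgroup G) H, v * v = 1 := fun v hv => by
    have h1 := (mem_zc.1 (hVH hv)).2.1
    rwa [sq] at h1
  have hS : (S : Subgroup G) ≠ ⊥ := h.cl.hypN.toHyp.ne
  have hBS : B ≤ (S : Subgroup G) := h.bg.BS
  have hB : IsPGroup 2 B := h.bg.bau_two
  have hVB : zl (S : Subgroup G) P ≤ B := h.bg.fr.VB
  have hzJ : z ∈ ZJ := zc_le_ZJ h hz
  have hf : ∀ i, z ∉ C i := supp h hz hz1
  have hWj : ∀ j, W j ≤ o2 H := by
    intro j
    have hWS : W j ≤ (S : Subgroup G) := ((h.fr.WV j).trans hVB).trans hBS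
    have hWH : W j ≤ H := hWS.trans hSz
    have hWO : W j ≤ o2 (centralizer (zc (S : Subgroup G) : Set G)) :=
      (h.fr.WV j).trans (h.cl.hypN.low P h.cl.pss.par)
    by_cases hc : W j ≤ centralizer (zl (S : Subgroup G) H : Set G)
    · exact le_o2_M S hSz hS hc hWO
    have hrg : Rg (zl (S : Subgroup G) H) (W j) (Z j) :=
      md_rg (h.fr.blk j).toMd (h.fr.cardZ j) hsq hzB (hWH.trans (le_normalizer_zl _ _)) hc
    obtain ⟨z₀, hz₀, c', hc', hcJ, e⟩ := h.fr.split_ZJ j hzJ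
    have hz₀V := h.fr.ZV j hz₀
    have hz₀2 : z₀ * z₀ = 1 := by
      have := h.bg.fr.Vsq hz₀V
      rwa [sq] at this
    have hz₀1 : z₀ ≠ 1 := fun h1 => hf j (by rw [e, h1, one_mul]; exact hc')
    have hzz : z * z₀ = c' := by
      have h1 : z₀ * c' = c' * z₀ := h.fr.Vc hz₀V (h.fr.CV j hc')
      rw [e, h1, mul_assoc, hz₀2, mul_one]
    obtain ⟨t, ht, ht1, htz⟩ := exists_ne_ne h hq j z₀
    -- `e := z z₀ = c' ∈ C j`
    have hfi : ∀ i, i ≠ j → c' ∉ C i := by
      intro i hij h1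
      apply hf i
      rw [e]
      exact mul_mem (QWoFr.Z_C h.fr hij hz₀) h1
    have hc1 : c' ≠ 1 := by
      obtain ⟨i, hi⟩ := h.bg.two j
      exact fun h1 => hfi i hi (by rw [h1]; exact one_mem _)
    have hO : W j ≤ o2 (centralizer ({c'} : Set G)) :=
      QWoFr.le_o2_zero h.fr hG hB (OM.UniPlus.WC.weakNormal h.bg.wc) h.norm_le hcJ hc1 hc' hfi
    rcases cent_or_move (H := H) (z := z) (z₀ := z₀) (t := t) (le_normalizer_zl _ _) (red_zl S hSz) hrg hWH
      (fun x hx => mem_centralizer_singleton_iff.1 hx) hz₀ ht ht1 htz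
      (fun a ha => ⟨o2 (centralizer ({c'} : Set G)), o2_isPGroup _, hO ha, fun x hx hxz r hr => by
        rw [hzz] at hxz
        exact o2_conj_mem (mem_centralizer_singleton_iff.2 hxz) hr⟩) with h1 | ⟨g, hg, c, hcZ, hcne, hgc⟩
    · exact absurd h1 hc
    · exfalso
      -- `g c' g⁻¹ = z c`, conjugate to `z` under `L j`
      have hgz : g * z * g⁻¹ = z := by
        rw [mem_centralizer_singleton_iff.1 hg]; group
      have hzc : z₀ * c ≠ 1 := fun h1 => hcne (by
        have h2 : z₀ * (z₀ * c) = z₀ * 1 := by rw [h1]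
        rwa [← mul_assoc, hz₀2, one_mul, mul_one] at h2)
      obtain ⟨l, hl, e3⟩ := QWoFr.Z_conj h.fr hz₀ (mul_mem hz₀ hcZ) hz₀1 hzc
      have e4 : l * z * l⁻¹ = g * c' * g⁻¹ := by
        have h1 := h.fr.LC j l hl c' hcJ hc'
        have h2 : c' * c = c * c' := h.fr.Vc (h.fr.CV j hc') (h.fr.ZV j hcZ)
        calc l * z * l⁻¹ = (l * z₀ * l⁻¹) * (l * c' * l⁻¹) := by rw [e]; group
          _ = (z₀ * c) * c' := by rw [e3, h1]; group
          _ = z₀ * c' * c := by rw [mul_assoc, ← h2, ← mul_assoc]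
          _ = z * c := by rw [← e]
          _ = (g * z * g⁻¹) * (g * z₀ * g⁻¹) := by rw [hgz, hgc]
          _ = g * (z * z₀) * g⁻¹ := by group
          _ = g * c' * g⁻¹ := by rw [hzz]
      refine fus_supp h.fr hB h.bg.wc h.norm_le hzJ hcJ hf (x := g⁻¹ * l) ?_ j hc'
      calc g⁻¹ * l * z * (g⁻¹ * l)⁻¹ = g⁻¹ * (l * z * l⁻¹) * g := by group
        _ = g⁻¹ * (g * c' * g⁻¹) * g := by rw [e4]
        _ = c' := by group
  rw [h.fr.V_eq]
  exact iSup_le hWj

/-- `q = 2` : `Z = ⟨z⟩` -/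
theorem low_one_two (hq : q = 2) {z : G} (hz : z ∈ zc (S : Subgroup G)) (hz1 : z ≠ 1) (i : Fin k) :
    zl (S : Subgroup G) P ≤ o2 (centralizer ({z} : Set G)) := by
  have key : ∀ y ∈ zc (S : Subgroup G), y ≠ 1 → y = z := by
    intro y hy hy1
    by_contra hne
    have hyz1 : y * z ≠ 1 := fun h1 => hne (by
      have h2 : z * z = 1 := by
        have := (mem_zc.1 hz).2.1
        rwa [sq] at this
      have h3 : y * z = z * z := by rw [h1, h2]
      exact mul_right_cancel h3)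
    obtain ⟨w, hw, c, hc, -, e⟩ := h.fr.split_ZJ i (zc_le_ZJ h hz)
    obtain ⟨w', hw', c', hc', -, e'⟩ := h.fr.split_ZJ i (zc_le_ZJ h hy)
    have hw1 : w ≠ 1 := fun h1 => supp h hz hz1 i (by rw [e, h1, one_mul]; exact hc)
    have hw1' : w' ≠ 1 := fun h1 => supp h hy hy1 i (by rw [e', h1, one_mul]; exact hc')
    have hww : w' = w := by
      by_contra hwn
      have h3 : ({1, w, w'} : Set G) ⊆ ((Z i : Subgroup G) : Set G) := by
        rintro x (rfl | rfl | rfl)
        · exact one_mem _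
        · exact hw
        · exact hw'
      have h4 := Set.ncard_le_ncard h3 (Set.toFinite _)
      have h5 : ({1, w, w'} : Set G).ncard = 3 := by
        rw [Set.ncard_eq_three]
        exact ⟨1, w, w', hw1.symm, hw1'.symm, fun h6 => hwn h6.symm, rfl⟩
      have h6 : ((Z i : Subgroup G) : Set G).ncard = 2 := by
        rw [← hq, ← h.fr.cardZ i]
        rfl
      omega
    refine supp h (mul_mem hy hz) hyz1 i ?_
    have hw2 : w * w = 1 := by
      have := h.bg.fr.Vsq (h.fr.ZV i hw)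
      rwa [sq] at this
    have h2 : c' * w = w * c' := h.fr.Vc (h.fr.CV i hc') (h.fr.ZV i hw)
    have h3 : y * z = c' * c := by
      calc y * z = w * (c' * w) * c := by rw [e, e', hww]; group
        _ = (w * w) * (c' * c) := by rw [h2]; group
        _ = c' * c := by rw [hw2, one_mul]
    rw [h3]
    exact mul_mem hc' hc
  have h1 : centralizer ({z} : Set G) = centralizer (zc (S : Subgroup G) : Set G) := by
    refine le_antisymm (fun x hx => mem_centralizer_iff.2 fun y hy => ?_)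
      (centralizer_le (Set.singleton_subset_iff.2 hz))
    by_cases hy1 : y = 1
    · rw [hy1, one_mul, mul_one]
    · rw [key y hy hy1]
      exact (mem_centralizer_singleton_iff.1 hx).symm
  rw [h1]
  exact h.cl.hypN.low P h.cl.pss.par

/-- **LEMMA LZ** -/
theorem low_one (ml : MLK.{u, u}) {z : G} (hz : z ∈ zc (S : Subgroup G)) (hz1 : z ≠ 1) :
    zl (S : Subgroup G) P ≤ o2 (centralizer ({z} : Set G)) := by
  obtain ⟨i⟩ : Nonempty (Fin k) := by
    by_contra hcon
    exact hz1 (h.fr.C0 z (h.fr.ZJV (zc_le_ZJ h hz)) fun i => absurd ⟨i⟩ hcon)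
  have h2 : 2 ∣ q := h.fr.cardZ i ▸ QWoFr.two_dvd h.fr i
  have h1 : 1 < q := (h.fr.blk i).one
  by_cases hq : 4 ≤ q
  · exact low_one_four h ml hq hz hz1
  · exact low_one_two h (by omega) hz hz1 i

end low

end Cfsg.Agent.Omega.NO3S.CaseLW.LowOne
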