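import Cfsg.Agent.Involutions.BaerSuzuki
import Cfsg.Agent.MinSimple.VModule

/-!
# The pure lemma of `hUM` (helper439, OMEGA #26026)

`N` elementary abelian, `M ≤ N_G(N)`, `z ∈ N`, `v ∈ M` an involution which centralises `z`.  If
`v ∈ O₂(C_G(z r))` for all `r ∈ [N, v]`, then `v ∈ O₂(M)`.

Proof: otherwise (Baer-Suzuki) `v` inverts some `g ∈ M` of odd order `≠ 1`; `ν = ∏_{h ∈ ⟨g⟩} h z h⁻¹` is centralised by
`g` and `v`, and `ν = z r` with `r ∈ [N, v]` (pair `h` with `h⁻¹`); so `[v, g] = g⁻²` lies in a `2`-group.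
-/

set_option autoImplicit false

namespace Cfsg.Agent.Omega.NO3S.CaseLW.HUM

open Subgroup Cfsg Cfsg.Agent.ZN
open Cfsg.Agent.MinSimple.VModule (o2_isPGroup o2_le le_normalizer_o2)

universe u

variable {G : Type u} [Group G]

/-- The averaging: `v` inverts `g` of odd order and centralises `z`; then some `z r`, `r ∈ [N, v]`, is centralised by `g`. -/
theorem exists_fix [Finite G] {N : Subgroup G} (hsq : ∀ x ∈ N, x * x = 1) {z v g : G} (hz : z ∈ N)
    (hv : v ∈ normalizer (N : Set G)) (hvz : v * z = z * v) (hg : g ∈ normalizer (N : Set G))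
    (hgo : Odd (orderOf g)) (hvg : v * g * v⁻¹ = g⁻¹) :
    ∃ n ∈ N, g * (z * (n * (v * n * v⁻¹))) = z * (n * (v * n * v⁻¹)) * g := by
  classical
  have hcm : ∀ x y : N, x * y = y * x := by
    intro x y
    have e : ∀ w : N, w⁻¹ = w := fun w => inv_eq_of_mul_eq_one_left (Subtype.ext (hsq w w.2))
    calc x * y = (x * y)⁻¹ := (e _).symm
      _ = y⁻¹ * x⁻¹ := mul_inv_rev _ _
      _ = y * x := by rw [e, e]
  let _ : CommGroup N := { (inferInstance : Group N) with mul_comm := hcm }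
  -- conjugation
  have hcj : ∀ {x : G}, x ∈ normalizer (N : Set G) → ∀ n ∈ N, x * n * x⁻¹ ∈ N := fun {x} hx n hn =>
    (mem_normalizer_iff.1 hx n).1 hn
  let κ : (x : G) → x ∈ normalizer (N : Set G) → N →* N := fun x hx =>
    { toFun := fun n => ⟨x * n * x⁻¹, hcj hx n n.2⟩
      map_one' := Subtype.ext (by simp)
      map_mul' := fun a b => Subtype.ext (by simp [mul_assoc]) }
  -- `θ n = n * (v n v⁻¹)`
  let θ : N →* N :=
    { toFun := fun n => n * κ v hv n
      map_one' := by rw [map_one, mul_one]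
      map_mul' := fun a b => by
        rw [map_mul]
        exact mul_mul_mul_comm _ _ _ _ }
  have hzp : ∀ h ∈ zpowers g, h ∈ normalizer (N : Set G) := fun h hh =>
    (zpowers_le.2 hg) hh
  let f : zpowers g → N := fun h => κ h (hzp h h.2) ⟨z, hz⟩
  let _ : Fintype (zpowers g) := Fintype.ofFinite _
  set ν : N := ∏ h, f h with hν
  -- `ν` is fixed by `g`
  have h1 : κ g hg ν = ν := by
    rw [hν, map_prod]
    refine Fintype.prod_equiv (Equiv.mulLeft (⟨g, mem_zpowers g⟩ : zpowers g)) _ _ fun h => ?_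
    refine Subtype.ext ?_
    change g * (h * z * (h : G)⁻¹) * g⁻¹ = (g * h : G) * z * (g * h : G)⁻¹
    group
  -- modulo `[N, v]`
  have h2 : (QuotientGroup.mk' θ.range) ν = (QuotientGroup.mk' θ.range) ⟨z, hz⟩ := by
    rw [hν, map_prod, ← Finset.mul_prod_erase Finset.univ _ (Finset.mem_univ (1 : zpowers g))]
    have e1 : f 1 = ⟨z, hz⟩ := Subtype.ext (by
      change ((1 : zpowers g) : G) * z * ((1 : zpowers g) : G)⁻¹ = z
      simp)
    rw [e1]
    have e2 : ∏ h ∈ Finset.univ.erase (1 : zpowers g), (QuotientGroup.mk' θ.range) (f h) = 1 := by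
      refine Finset.prod_involution (fun h _ => h⁻¹) ?_ ?_ ?_ ?_
      · intro h _
        rw [← map_mul]
        refine (QuotientGroup.eq_one_iff _).2 ⟨f h, ?_⟩
        refine Subtype.ext ?_
        obtain ⟨k, hk⟩ := mem_zpowers_iff.1 h.2
        have e3 : v * (h : G) * v⁻¹ = (h : G)⁻¹ := by
          rw [← hk, ← MulAut.conj_apply, map_zpow, MulAut.conj_apply, hvg, inv_zpow]
        have e3' : v * (h : G) = (h : G)⁻¹ * v := by rw [← e3]; group
        have e4 : (h : G)⁻¹ * v⁻¹ = v⁻¹ * (h : G) := by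
          have := congrArg (fun t => t⁻¹) e3'
          simp only [mul_inv_rev, inv_inv] at this
          exact this
        have e5 : v * z * v⁻¹ = z := by rw [hvz]; group
        change (h * z * (h : G)⁻¹) * (v * (h * z * (h : G)⁻¹) * v⁻¹) =
          (h * z * (h : G)⁻¹) * (((h⁻¹ : zpowers g) : G) * z * (((h⁻¹ : zpowers g) : G))⁻¹)
        congr 1
        rw [Subgroup.coe_inv, inv_inv]
        calc v * (h * z * (h : G)⁻¹) * v⁻¹ = (v * h) * z * ((h : G)⁻¹ * v⁻¹) := by group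
          _ = ((h : G)⁻¹ * v) * z * (v⁻¹ * h) := by rw [e3', e4]
          _ = (h : G)⁻¹ * (v * z * v⁻¹) * h := by group
          _ = _ := by rw [e5]
      · intro h hh _ hc
        have hh1 : h ≠ 1 := (Finset.mem_erase.1 hh).1
        apply hh1
        have e3 : h * h = 1 := by
          nth_rewrite 1 [← hc]
          rw [inv_mul_cancel]
        have e4 : orderOf h ∣ 2 := orderOf_dvd_of_pow_eq_one (by rw [sq]; exact e3)
        have e5 : orderOf h ∣ orderOf g := by
          rw [← Subgroup.orderOf_coe]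
          exact orderOf_dvd_of_mem_zpowers h.2
        have e6 : Nat.Coprime (orderOf h) 2 := (Nat.coprime_two_right.2 (Odd.of_dvd_nat hgo e5))
        exact orderOf_eq_one_iff.1 (e6.eq_one_of_dvd e4)
      · intro h hh
        exact Finset.mem_erase.2 ⟨fun hc => (Finset.mem_erase.1 hh).1 (inv_eq_one.1 hc), Finset.mem_univ _⟩
      · intro h _
        exact inv_inv h
    rw [e2, mul_one]
  have h3 : (⟨z, hz⟩ : N)⁻¹ * ν ∈ θ.range := by
    rw [← QuotientGroup.eq]
    exact h2.symm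
  obtain ⟨n, hn⟩ := h3
  refine ⟨n, n.2, ?_⟩
  have e1 : (ν : G) = z * (n * (v * n * v⁻¹)) := by
    have e2 := congrArg Subtype.val hn
    change (n : G) * (v * n * v⁻¹) = z⁻¹ * ν at e2
    rw [e2]; group
  rw [← e1]
  have e3 := congrArg Subtype.val h1
  change g * (ν : G) * g⁻¹ = ν at e3
  exact mul_inv_eq_iff_eq_mul.1 e3

/-- **The pure lemma.** -/
theorem mem_o2_of_fix [Finite G] {M N : Subgroup G} (hMN : M ≤ normalizer (N : Set G)) (hsq : ∀ x ∈ N, x * x = 1)
    {z v : G} (hz : z ∈ N) (hv : v ∈ M) (hvv : v * v = 1) (hvz : v * z = z * v)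
    (ho : ∀ n ∈ N, v ∈ o2 (centralizer ({z * (n * (v * n * v⁻¹))} : Set G))) : v ∈ o2 M := by
  by_contra hcon
  obtain ⟨g, hg1, hgo, hgi⟩ := Involutions.BaerSuzuki.exists_odd_inverted (⟨v, hv⟩ : M) (Subtype.ext hvv) (by
    intro h1
    apply hcon
    have h2 : (normalClosure {(⟨v, hv⟩ : M)}).map M.subtype ≤ o2 M :=
      MinSimple.VModule.le_o2 (map_subtype_le _) (h1.map _)
        (MinSimple.VModule.le_normalizer_map_of_normal inferInstance)
    exact h2 ⟨⟨v, hv⟩, subset_normalClosure rfl, rfl⟩)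
  have hgi' : v * (g : G) * v⁻¹ = (g : G)⁻¹ := congrArg Subtype.val hgi
  have hgo' : Odd (orderOf (g : G)) := by rwa [Subgroup.orderOf_coe]
  obtain ⟨n, hn, hc⟩ := exists_fix hsq hz (hMN hv) hvz (hMN g.2) hgo' hgi'
  set ν := z * (n * (v * n * v⁻¹)) with hν
  have h1 : (g : G) ∈ centralizer ({ν} : Set G) := mem_centralizer_singleton_iff.2 hc
  have h2 := ho n hn
  rw [← hν] at h2
  have h3 : (g : G) * v⁻¹ * (g : G)⁻¹ ∈ o2 (centralizer ({ν} : Set G)) :=
    (mem_normalizer_iff.1 (le_normalizer_o2 _ h1) _).1 (inv_mem h2)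
  have h4 : v * ((g : G) * v⁻¹ * (g : G)⁻¹) ∈ o2 (centralizer ({ν} : Set G)) := mul_mem h2 h3
  have h5 : v * ((g : G) * v⁻¹ * (g : G)⁻¹) = ((g : G)⁻¹) ^ 2 := by
    calc v * ((g : G) * v⁻¹ * (g : G)⁻¹) = (v * g * v⁻¹) * (g : G)⁻¹ := by group
      _ = (g : G)⁻¹ * (g : G)⁻¹ := by rw [hgi']
      _ = _ := (sq _).symm
  rw [h5] at h4
  obtain ⟨k, hk⟩ := (o2_isPGroup (centralizer ({ν} : Set G))) ⟨_, h4⟩
  have h6 : (((g : G)⁻¹) ^ 2) ^ 2 ^ k = 1 := congrArg Subtype.val hk
  have h7 : (g : G) ^ (2 * 2 ^ k) = 1 := by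
    rw [← pow_mul, inv_pow, inv_eq_one] at h6
    exact h6
  have h8 : orderOf (g : G) ∣ 2 ^ (k + 1) := orderOf_dvd_of_pow_eq_one (by rw [pow_succ, mul_comm]; exact h7)
  have h9 : Nat.Coprime (orderOf (g : G)) (2 ^ (k + 1)) := Nat.Coprime.pow_right _ (Nat.coprime_two_right.2 hgo')
  apply hg1
  exact Subtype.ext (orderOf_eq_one_iff.1 (h9.eq_one_of_dvd h8))

end Cfsg.Agent.Omega.NO3S.CaseLW.HUM
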