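import Cfsg.Agent.Omega.NO3S.CaseLW.QWc
import Cfsg.Agent.Omega.NO3S.CaseLW.QWo2
import Cfsg.Agent.Omega.OM.Lev.Uni

/-!
# THEOREM QW (helper866 #24897, helper276 #25131), the producer of `hex` over `FrL`, every `q` (helper353)

`U = ⟨V_P^Y⟩`, `Z_M = ⟨Z^M⟩`, `P ≤ M`.

* `exists_blk` : a subgroup of `B` which moves `V` moves some `W i`;
* `zl_le_o2P` : `Z_M ≤ O₂(P)`; `zl_ex` : `Z_M` is `Ex` (exact on `U`) as soon as it offends on `U`;
* `line` : some conjugate `A' = Z_M^(y⁻¹)` is `Ex`, a best offender on `V_P`, lies in `B` and moves some `W i`;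
* `hex` : the hypothesis `hex` of `QW.cent_zl_q`.
-/

set_option autoImplicit false
set_option linter.unusedSectionVars false
set_option linter.dupNamespace false

namespace Cfsg.Agent.Omega.NO3S.CaseLW.QWex

open Subgroup Cfsg Cfsg.Agent.ZN Cfsg.Agent.ZN.ChoiceBase Cfsg.Agent.Omega.MinPar Cfsg.Agent.Omega.Frame
open Cfsg.Agent.Omega.FrameNOFF (CZ)
open Cfsg.Agent.Omega.NO3b.EZero (cl cl_le le_cl cj_le_cl le_normalizer_cl)
open Cfsg.Agent.Omega.NO3S.Level
open Cfsg.Agent.Omega.NO3S.WY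
open Cfsg.Agent.Omega.FFThm (ElemM)
open Cfsg.Agent.Omega.OM.Lev.Uni (FrL)
open Cfsg.Agent.Omega.NO3S.CaseLW.QWc
open scoped Pointwise

universe u

variable {G : Type u} [Group G]

/-- A subgroup of `B` which moves `V` moves some block. -/
theorem exists_blk {ι : Type*} {B Q V X ZJ : Subgroup G} {L W Z C A : ι → Subgroup G} {q : ℕ}
    (fr : FrL B Q V X ZJ L W Z C A q) {D : Subgroup G} (hD : D ≤ B) (hne : ¬ D ≤ centralizer (V : Set G)) :
    ∃ i, ¬ W i ≤ centralizer (D : Set G) := by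
  by_contra hcon
  push Not at hcon
  refine hne fun x hx => mem_centralizer_iff.2 fun v hv => ?_
  have key : ∀ i, x * v * x⁻¹ * v⁻¹ ∈ C i := by
    intro i
    obtain ⟨w, hw, c, hc, rfl⟩ := fr.WC i v hv
    have h1 : x * w = w * x := mem_centralizer_iff.1 (hcon i hw) x hx
    have h2 : x * c * x⁻¹ ∈ C i := fr.BC i x (hD hx) c hc
    have h3 : x * c * x⁻¹ * c⁻¹ ∈ C i := mul_mem h2 (inv_mem hc)
    have h4 := fr.Vc (fr.CV i h3) (fr.WV i hw)
    have e : x * (w * c) * x⁻¹ * (w * c)⁻¹ = x * c * x⁻¹ * c⁻¹ := by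
      calc x * (w * c) * x⁻¹ * (w * c)⁻¹ = (x * w) * (c * x⁻¹ * c⁻¹) * w⁻¹ := by group
        _ = w * (x * c * x⁻¹ * c⁻¹) * w⁻¹ := by rw [h1]; group
        _ = (x * c * x⁻¹ * c⁻¹) * w * w⁻¹ := by rw [← h4]
        _ = _ := by group
    rw [e]
    exact h3
  have hv2 : x * v * x⁻¹ ∈ V := by
    by_cases hι : Nonempty ι
    · obtain ⟨i⟩ := hι
      exact fr.LV i x ((fr.blk i).BL (hD hx)) v hv
    · have : v = 1 := fr.C0 v hv fun i => absurd ⟨i⟩ hι
      rw [this]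
      simp
  have h5 : x * v * x⁻¹ * v⁻¹ = 1 := fr.C0 _ (mul_mem hv2 (inv_mem hv)) key
  have h6 : x * v * x⁻¹ = v := mul_inv_eq_one.1 h5
  exact (mul_inv_eq_iff_eq_mul.1 h6).symm

variable [Finite G]

section zm

variable {S : Sylow 2 G} {P T Y M : Subgroup G} (h : WQ S P T Y) (hM : IsLoc (S : Subgroup G) M) (hPM : P ≤ M)
include h hM

theorem zl_sq {v : G} (hv : v ∈ zl (S : Subgroup G) M) : v ^ 2 = 1 :=
  (ChoiceBase.mem_zc.1 (hM.zl_le S h.hG hv)).2.1

theorem zl_comm {v w : G} (hv : v ∈ zl (S : Subgroup G) M) (hw : w ∈ zl (S : Subgroup G) M) : v * w = w * v := by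
  have h1 := ChoiceBase.mem_zc.1 (hM.zl_le S h.hG hv)
  exact (h1.2.2 w (ZN.zc_le _ (hM.zl_le S h.hG hw))).symm

include hPM

theorem zlP_le : zl (S : Subgroup G) P ≤ zl (S : Subgroup G) M :=
  MinSimple.VModule.zl_le (MinSimple.VModule.zc_le_zl _ _) (hPM.trans (MinSimple.VModule.le_normalizer_zl _ _))

/-- `Z_M ≤ O₂(P)` -/
theorem zl_le_o2P : zl (S : Subgroup G) M ≤ o2 P := by
  rw [← h.parP.inf_centralizer S h.hG]
  refine le_inf (((hM.zl_le S h.hG).trans (ZN.zc_le _)).trans (hM.o2_le S)) fun v hv => ?_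
  exact mem_centralizer_iff.2 fun w hw => zl_comm h hM (zlP_le h hM hPM hw) hv

theorem zl_le_T : zl (S : Subgroup G) M ≤ T := (zl_le_o2P h hM hPM).trans h.QT

/-- `Z_M` is exact on `U` as soon as it offends on `U`. -/
theorem zl_ex {U : Subgroup G} (off : (centralizer (zl (S : Subgroup G) M : Set G)).relIndex U ≤
    (centralizer (U : Set G)).relIndex (zl (S : Subgroup G) M)) : Ex T U (zl (S : Subgroup G) M) := by
  refine Ex.of_rel (zl_le_T h hM hPM) ⟨fun a ha => ?_, fun a ha b hb => ?_⟩ off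
  · rw [zl_sq h hM ha]
    exact one_mem _
  · have e : a * b * a⁻¹ * b⁻¹ = 1 := by
      rw [zl_comm h hM ha hb]
      group
    rw [e]
    exact one_mem _

variable (neg : Neg T Y (cl (zl (S : Subgroup G) P) Y)) {ι : Type*} {X ZJ₀ : Subgroup G}
  {L W Z C A : ι → Subgroup G} {q : ℕ}
  (fr : FrL (BB (S : Subgroup G) P) (o2 P) (zl (S : Subgroup G) P) X ZJ₀ L W Z C A q)
include neg fr

/-- **the line** : `A' = Z_M^(y⁻¹)` is exact, lies in `B` and moves some `W i`. -/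
theorem line (off : (centralizer (zl (S : Subgroup G) M : Set G)).relIndex (cl (zl (S : Subgroup G) P) Y) ≤
      (centralizer (cl (zl (S : Subgroup G) P) Y : Set G)).relIndex (zl (S : Subgroup G) M))
    (hne : ¬ cl (zl (S : Subgroup G) P) Y ≤ centralizer (zl (S : Subgroup G) M : Set G)) :
    ∃ y ∈ Y, ∃ i, Ex T (cl (zl (S : Subgroup G) P) Y) (cj y⁻¹ (zl (S : Subgroup G) M)) ∧
      cj y⁻¹ (zl (S : Subgroup G) M) ≤ BB (S : Subgroup G) P ∧
      cj y⁻¹ (zl (S : Subgroup G) M) ∈ BO (S : Subgroup G) (o2 P) ∧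
      ¬ W i ≤ centralizer (cj y⁻¹ (zl (S : Subgroup G) M) : Set G) := by
  have x := zl_ex h hM hPM off
  obtain ⟨y, hy, hyV⟩ := exists_line (S := S) (P := P) (Y := Y) (A := zl (S : Subgroup G) M)
    fun h1 => hne (le_centralizer_iff.1 h1)
  have x' := Ex.cj h neg x (Y.inv_mem hy)
  have hB := Ex.le_BB h neg x'
  obtain ⟨i, hi⟩ := exists_blk fr hB fun h1 => hyV (by
    have h2 := cj_mono y h1
    rwa [cj_cj_inv, cj_centralizer] at h2)
  exact ⟨y, hy, i, x', hB, Ex.mem_BO h neg x', hi⟩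

variable (hY : Y ≤ CZ (S : Subgroup G)) {z : G} (hz : z ∈ zc (S : Subgroup G))
include hY hz

/-- **`hex`** of `QW.cent_zl_q`, from (2') `ho`. -/
theorem hex (ho : ∀ i, ∀ c ∈ Z i, W i ≤ o2 (centralizer ({z * c} : Set G)))
    (off : (centralizer (zl (S : Subgroup G) M : Set G)).relIndex (cl (zl (S : Subgroup G) P) Y) ≤
      (centralizer (cl (zl (S : Subgroup G) P) Y : Set G)).relIndex (zl (S : Subgroup G) M))
    (hne : ¬ cl (zl (S : Subgroup G) P) Y ≤ centralizer (zl (S : Subgroup G) M : Set G)) :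
    ∃ w ∈ cl (zl (S : Subgroup G) P) Y, ∃ C₀ : Subgroup G, w ∉ centralizer (zl (S : Subgroup G) M : Set G) ∧
      w * z = z * w ∧ (∀ x ∈ zl (S : Subgroup G) M, x * (w * x * w⁻¹) ∈ C₀) ∧
      ∀ c ∈ zl (S : Subgroup G) M, c ∈ C₀ → w * (z * c) = z * c * w →
        w ∈ o2 (centralizer ({z * c} : Set G)) := by
  obtain ⟨y, hy, i, -, hB, -, hi⟩ := line h hM hPM neg fr off hne
  obtain ⟨w, hw, hwn⟩ := SetLike.not_le_iff_exists.1 hi
  have hyz : y * z = z * y := (mem_centralizer_iff.1 (hY hy) z hz).symm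
  have hwz : w * z = z * w := by
    have h1 := (ChoiceBase.mem_zc.1 hz).2.2 w (h.TS (h.QT (ZN.zc_le _ (by
      have h2 := fr.WV i hw
      rwa [← h.cl.zc_eq] at h2))))
    exact h1
  refine ⟨y * w * y⁻¹, cj_le_cl hy ⟨w, fr.WV i hw, rfl⟩, cj y (Z i), fun h1 => hwn ?_, ?_, ?_, ?_⟩
  · rw [← cj_centralizer, mem_cj]
    have e : y⁻¹⁻¹ * w * y⁻¹ = y * w * y⁻¹ := by group
    rwa [e]
  · calc y * w * y⁻¹ * z = y * w * (y⁻¹ * z * y) * y⁻¹ := by group
      _ = y * w * z * y⁻¹ := by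
        have e : y⁻¹ * z * y = z := by
          calc y⁻¹ * z * y = y⁻¹ * (z * y) := by group
            _ = z := by rw [← hyz]; group
        rw [e]
      _ = y * z * w * y⁻¹ := by rw [mul_assoc y, hwz]; group
      _ = z * (y * w * y⁻¹) := by rw [hyz]; group
  · intro x hx
    rw [mem_cj]
    have hx' : y⁻¹ * x * y ∈ BB (S : Subgroup G) P := hB (by
      rw [mem_cj]
      have e : y⁻¹⁻¹ * (y⁻¹ * x * y) * y⁻¹ = x := by group
      rwa [e])
    have h1 := (fr.blk i).com _ hx' w hw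
    have hxx : x⁻¹ = x := inv_eq_of_mul_eq_one_left (by
      have := zl_sq h hM hx
      rwa [sq] at this)
    have e : y⁻¹ * (x * (y * w * y⁻¹ * x * (y * w * y⁻¹)⁻¹)) * y =
        (y⁻¹ * x * y) * w * (y⁻¹ * x * y)⁻¹ * w⁻¹ := by
      have e2 : (y⁻¹ * x * y)⁻¹ = y⁻¹ * x * y := by
        calc (y⁻¹ * x * y)⁻¹ = y⁻¹ * x⁻¹ * y := by group
          _ = _ := by rw [hxx]
      rw [e2]
      group
    rw [e]
    exact h1
  · intro c hc hcC _
    rw [mem_cj] at hcC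
    have h1 := QWo2.conj_mem_o2 (g := y) (ho i _ hcC hw)
    have e : y * (z * (y⁻¹ * c * y)) * y⁻¹ = z * c := by
      calc y * (z * (y⁻¹ * c * y)) * y⁻¹ = (y * z) * y⁻¹ * c := by group
        _ = z * c := by rw [hyz]; group
    rwa [e] at h1

end zm

end Cfsg.Agent.Omega.NO3S.CaseLW.QWex
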