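import Cfsg.Agent.Omega.NO3S.CaseLW.QWa
import Cfsg.Agent.Omega.NO3S.CaseLW.Odd

/-!
# THEOREM QW, step (2) for every `q` (helper866, #24897; helper276, #25131)

* `cent_zl_q` : `Z_M = ⟨Z^M⟩` centralises `U ≤ O₂(C_M(Z))`: (ML) and `Odd.mem_cent`; `C` is a subgroup (`Z_j^y`), `|Z|` is
  arbitrary, `z ∈ Z`;
* `oz_le_of` : `O₂(C_G(z)) ≤ O₂(C_M(Z))`.
-/

set_option autoImplicit false

namespace Cfsg.Agent.Omega.NO3S.CaseLW.QW

open Subgroup Cfsg Cfsg.Agent.ZN Cfsg.Agent.Omega.MinPar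
open Cfsg.Agent.MinSimple.VModule (o2_isPGroup)
open Cfsg.Agent.Omega.HOne.TvHSide (le_normalizer_of)
open Cfsg.Agent.Omega.ML.Final (MLK)
open Cfsg.Agent.Omega.ML.GMod (ZD)

universe u

variable {G : Type u} [Group G] [Finite G] (S : Sylow 2 G) {M : Subgroup G}

/-- **(2)**, every `q`: `Z_M` centralises `U ≤ O₂(C_M(Z))`. -/
theorem cent_zl_q (hG : IsCharacteristicTwoType G) (ml : MLK.{u, u}) (h : IsLoc (S : Subgroup G) M) (hK : IsKGroup M)
    {z : G} (hz : z ∈ zl (S : Subgroup G) M) {U : Subgroup G} (hU2 : ∀ x ∈ U, x * x = 1)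
    (hUO : U ≤ o2 (M ⊓ centralizer (zc (S : Subgroup G) : Set G)))
    (hex : (centralizer (zl (S : Subgroup G) M : Set G)).relIndex U ≤
        (centralizer (U : Set G)).relIndex (zl (S : Subgroup G) M) →
      ¬ U ≤ centralizer (zl (S : Subgroup G) M : Set G) →
        ∃ w ∈ U, ∃ C : Subgroup G, w ∉ centralizer (zl (S : Subgroup G) M : Set G) ∧ w * z = z * w ∧
          (∀ x ∈ zl (S : Subgroup G) M, x * (w * x * w⁻¹) ∈ C) ∧
          ∀ c ∈ zl (S : Subgroup G) M, c ∈ C → w * (z * c) = z * c * w → w ∈ o2 (centralizer ({z * c} : Set G))) :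
    U ≤ centralizer (zl (S : Subgroup G) M : Set G) := by
  by_contra hn
  have hsq : ∀ v ∈ zl (S : Subgroup G) M, v * v = 1 := fun v hv => by
    have h1 := (ChoiceBase.mem_zc.1 (IsLoc.zl_le S hG h hv)).2.1
    rwa [sq] at h1
  have D : ZD M (zl (S : Subgroup G) M) (zc (S : Subgroup G)) (S : Subgroup G) U :=
    { nV := le_normalizer_zl _ _
      sq := hsq
      ZV := MinSimple.VModule.zc_le_zl _ _
      gen := fun X h1 h2 => MinSimple.VModule.zl_le h1 h2
      TL := h.le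
      two := S.isPGroup'
      odd := MinSimple.Basic.not_dvd_relIndex S h.le
      TZ := le_centralizer_zc _
      AO := hUO
      Asq := fun a ha => by rw [hU2 a ha]; exact one_mem _ }
  obtain ⟨w, hw, C, hwn, hwz, hC, hwo⟩ := hex (D.gml ml hK) hn
  have hcm : ∀ x ∈ zl (S : Subgroup G) M, ∀ y ∈ zl (S : Subgroup G) M, x * y = y * x := by
    intro x hx y hy
    have h2 : x⁻¹ = x := inv_eq_of_mul_eq_one_left (hsq x hx)
    have h3 : y⁻¹ = y := inv_eq_of_mul_eq_one_left (hsq y hy)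
    have h4 : (x * y)⁻¹ = x * y := inv_eq_of_mul_eq_one_left (hsq _ (mul_mem hx hy))
    rw [mul_inv_rev, h2, h3] at h4
    exact h4.symm
  refine hwn (Odd.mem_cent (H := M) (C := C) (le_normalizer_zl _ _) (red_zl S h.le) hcm
    (((hUO.trans (o2_le _)).trans inf_le_left) hw) (hU2 w hw) hC hz hwz fun c hcN hcC hcw =>
      ⟨o2 (centralizer ({z * c} : Set G)), o2_isPGroup _, hwo c hcN hcC hcw, fun x hx a ha => ?_⟩)
  exact o2_conj_mem (mem_centralizer_singleton_iff.2 hx) ha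

/-- `O₂(C_G(z)) ≤ O₂(C_M(Z))`, `z ∈ Z` -/
theorem oz_le_of (hM : (S : Subgroup G) ≤ M) {z : G} (hz : z ∈ zc (S : Subgroup G)) (hz1 : z ≠ 1) :
    o2 (centralizer ({z} : Set G)) ≤ o2 (M ⊓ centralizer (zc (S : Subgroup G) : Set G)) := by
  have hz2 : z ^ 2 = 1 := (ChoiceBase.mem_zc.1 hz).2.1
  have hSz : (S : Subgroup G) ≤ centralizer ({z} : Set G) := fun s hs =>
    mem_centralizer_singleton_iff.2 ((ChoiceBase.mem_zc.1 hz).2.2 s hs)
  have h1 : o2 (centralizer ({z} : Set G)) ≤ (S : Subgroup G) := (isLoc_centralizer S hz2 hz1 hSz).o2_le S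
  refine MinSimple.VModule.le_o2 (le_inf (h1.trans hM) (h1.trans (le_centralizer_zc _))) (o2_isPGroup _)
    (inf_le_right.trans ?_)
  have h2 : centralizer (zc (S : Subgroup G) : Set G) ≤ centralizer ({z} : Set G) :=
    centralizer_le (Set.singleton_subset_iff.2 hz)
  exact h2.trans (MinSimple.VModule.le_normalizer_o2 _)

/-- **(3)**, from `U ≤ O₂(C_G(z))` -/
theorem le_o2_M_of (h : (S : Subgroup G) ≤ M) {z : G} (hz : z ∈ zc (S : Subgroup G)) (hz1 : z ≠ 1) {U : Subgroup G}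
    (hU : U ≤ centralizer (zl (S : Subgroup G) M : Set G)) (hUQ : U ≤ o2 (centralizer ({z} : Set G))) : U ≤ o2 M := by
  have hS : (S : Subgroup G) ≠ ⊥ := fun hb => hz1 (by
    have h1 := ZN.zc_le _ hz
    rw [hb] at h1
    exact mem_bot.1 h1)
  refine le_o2_M S h hS hU (hUQ.trans ?_)
  have h1 := oz_le_of S (M := ⊤) le_top hz hz1
  rwa [top_inf_eq] at h1

end Cfsg.Agent.Omega.NO3S.CaseLW.QW
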