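import Cfsg.Agent.Omega.NO3S.CaseLW.LowOne
import Cfsg.Agent.Omega.NO3S.CaseLW.QWPlug

/-!
# THEOREM QW: (2') over `MulL`, every `q`, and `OffHQ` from `MLK`

* `ho` : `W i ≤ O₂(C_G(z c))` for every `1 ≠ z ∈ Z`, `c ∈ Z i` (`LowOne.low_one`, `QWoFr.le_o2_q`);
* `hoQ : MLK → HoQ K`, **`offHQ : MLK → OmTopQ.OffHQ K`** (`QWPlug.offHQ_of_ho`).
-/

set_option autoImplicit false

namespace Cfsg.Agent.Omega.NO3S.CaseLW.HoQOf

open Subgroup Cfsg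
open Cfsg.Agent.ZN (zc zl o2)
open Cfsg.Agent.Omega.Frame
open Cfsg.Agent.Omega.ML.Final (MLK)
open Cfsg.Agent.Omega.Node.MulX (MulL)
open Cfsg.Agent.Omega.Node.OmTopQ (OffHQ)
open Cfsg.Agent.Omega.NO3S.CaseLW.QWPlug (HoQ offHQ_of_ho)

universe u

/-- **(2')**, every `q` -/
theorem ho {G : Type u} [Group G] [Finite G] {S : Sylow 2 G} {P B ZJ : Subgroup G} {k : ℕ}
    {L W Z C A : Fin k → Subgroup G} {q : ℕ} (h : MulL S P B ZJ L W Z C A q) (ml : MLK.{u, u}) {z : G}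
    (hz : z ∈ zc (S : Subgroup G)) (hz1 : z ≠ 1) (i : Fin k) {c : G} (hc : c ∈ Z i) :
    W i ≤ o2 (centralizer ({z * c} : Set G)) :=
  QWoFr.le_o2_q h.fr h.cl.ctx.char2 h.bg.bau_two (OM.UniPlus.WC.weakNormal h.bg.wc) h.norm_le h.bg.two
    (LowOne.zc_le_ZJ h hz) (LowOne.supp h hz hz1) (LowOne.low_one h ml hz hz1) i hc

theorem exists_zc {G : Type u} [Group G] [Finite G] {S : Sylow 2 G} {P B ZJ : Subgroup G} {k : ℕ}
    {L W Z C A : Fin k → Subgroup G} {q : ℕ} (h : MulL S P B ZJ L W Z C A q) :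
    ∃ z ∈ zc (S : Subgroup G), z ≠ 1 := by
  by_contra hcon
  push Not at hcon
  exact h.cl.hypN.toHyp.zc_ne ((eq_bot_iff_forall _).2 hcon)

theorem hoQ (ml : MLK.{u, u}) (K : Cls.{u}) : HoQ K := by
  intro G _ _ _ S P B ZJ k L W Z C A q _ _ h
  obtain ⟨z, hz, hz1⟩ := exists_zc h
  exact ⟨z, hz, hz1, fun i c hc => ho h ml hz hz1 i hc⟩

/-- **THEOREM QW, `q ≥ 4`, over `MulL`** -/
theorem offHQ (ml : MLK.{u, u}) (K : Cls.{u}) : OffHQ K := offHQ_of_ho ml (hoQ ml K)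

end Cfsg.Agent.Omega.NO3S.CaseLW.HoQOf
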