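import Cfsg.Agent.Omega.OM.Lev.GLev

/-!
# THEOREM LAMBDA (helper417 #24622), step (4): the offenders fix the centres

`GE T H X AA`: `T` Sylow in the minimal parabolic `H`, `X` elementary abelian and normal in `H`, `AA` = best offenders
of `T` on `X`.  `Cen H X AA Om` : a relation `Om w z`, `w ∈ X`, closed under conjugation by `H`, such that every
`r ∈ A ∈ AA`, `A ≤ O₂(H)`, has `[r, w] ∈ {1, z}` (`w` in a block, `z` = the centre of the block).

* **`fix`** : if `w ∉ Y0 H X AA` (some such `r` moves `w`) then every member of `AA` centralises `z`;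
* `Cen.of` : the relation generated by blocks `W j` with centres `z j`;
* `fix_all`, **`mem_cent`** : `W j ≰ Y0` : `⟨A^g : A ∈ AA, g ∈ H⟩` centralises `z j`.

No dual basis, no counting over `⟨A ∈ AA | A ≤ O₂(H)⟩`: `C_X(C_{A₁}(w)) = ⟨w⟩ C_X(A₁)` for `A₁ = A ∩ O₂(H)`.

Author: helper182.
-/

set_option autoImplicit false
set_option linter.unusedSectionVars false

namespace Cfsg.Agent.Omega.NO3S.CaseLW.LamFix

open Subgroup Cfsg Cfsg.Agent.ZN Cfsg.Agent.ZN.ChoiceBase Cfsg.Agent.ZN.ChoiceSit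
open Cfsg.Agent.PLocal.ThompsonJ
open Cfsg.Agent.Omega.SQ1.Bau (mem_sup_comm card_sup_comm)
open Cfsg.Agent.Omega.OM.GLev (GE Y0 mem_Y0)
open Cfsg.Agent.Omega.FFThm (ElemM OffM NoOverM)

universe u

variable {G : Type u} [Group G]

theorem card_le [Finite G] {K L : Subgroup G} {r : G} (hr : r ∈ L) (hKL : K ≤ L)
    (h : ∀ x ∈ L, x ∈ K ∨ r⁻¹ * x ∈ K) : Nat.card L ≤ 2 * Nat.card K := by
  let f : Bool × K → L := fun p =>
    if p.1 then ⟨r * p.2, mul_mem hr (hKL p.2.2)⟩ else ⟨p.2, hKL p.2.2⟩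
  have hf : Function.Surjective f := by
    rintro ⟨x, hx⟩
    rcases h x hx with h1 | h1
    · exact ⟨(false, ⟨x, h1⟩), rfl⟩
    · exact ⟨(true, ⟨r⁻¹ * x, h1⟩), Subtype.ext (by simp [f])⟩
  calc Nat.card L ≤ Nat.card (Bool × K) := Nat.card_le_card_of_surjective f hf
    _ = 2 * Nat.card K := by rw [Nat.card_prod]; simp

theorem mem_or [Finite G] {K L : Subgroup G} (hKL : K ≤ L) (h : Nat.card L ≤ 2 * Nat.card K) {w x : G}
    (hw : w ∈ L) (hwK : w ∉ K) (hx : x ∈ L) : x ∈ K ∨ w⁻¹ * x ∈ K := by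
  by_contra hcon
  push Not at hcon
  have h1 : K.relIndex L * Nat.card K = Nat.card L := by
    have := relIndex_mul_relIndex (⊥ : Subgroup G) K L bot_le hKL
    rw [relIndex_bot_left, relIndex_bot_left] at this
    rw [← this, mul_comm]
  have hp : 0 < Nat.card K := Nat.card_pos
  have h2 : K.relIndex L ≤ 2 := Nat.le_of_mul_le_mul_right (h1.le.trans h) hp
  have h3 : K.relIndex L ≠ 1 := fun h4 => hwK ((relIndex_eq_one.1 h4) hw)
  have h0 : K.relIndex L ≠ 0 := by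
    intro h4
    rw [h4, zero_mul] at h1
    exact (Nat.card_pos (α := L)).ne h1
  have h4 : (K.subgroupOf L).index = 2 := by
    have : K.relIndex L = 2 := by omega
    exact this
  have h5 := (mul_mem_iff_of_index_two h4 (a := (⟨w⁻¹, inv_mem hw⟩ : L)) (b := ⟨x, hx⟩)).2
  have h6 : (⟨w⁻¹, inv_mem hw⟩ : L) ∉ K.subgroupOf L := fun h7 => hwK (by
    have := mem_subgroupOf.1 h7
    simpa using inv_mem this)
  have h7 : (⟨x, hx⟩ : L) ∉ K.subgroupOf L := fun h8 => hcon.1 (mem_subgroupOf.1 h8)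
  exact hcon.2 (mem_subgroupOf.1 (h5 ⟨fun h8 => absurd h8 h6, fun h8 => absurd h8 h7⟩))

/-- pairs (element of a block, centre of the block) -/
structure Cen (H X : Subgroup G) (AA : Set (Subgroup G)) (Om : G → G → Prop) : Prop where
  le : ∀ w z, Om w z → w ∈ X
  conj : ∀ w z, Om w z → ∀ g ∈ H, Om (g * w * g⁻¹) (g * z * g⁻¹)
  com : ∀ w z, Om w z → ∀ A ∈ AA, A ≤ o2 H → ∀ r ∈ A,
    r * w * r⁻¹ * w⁻¹ = 1 ∨ r * w * r⁻¹ * w⁻¹ = z

variable [Finite G] {T H X : Subgroup G} {AA : Set (Subgroup G)} {Om : G → G → Prop}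

/-- modulo `C(X)`, `A ∩ O₂(H)` is a member of `AA` below `O₂(H)` -/
theorem exists_cut (h : GE T H X AA) {A : Subgroup G} (hA : A ∈ AA) :
    ∃ B ∈ AA, B ≤ o2 H ∧ ∀ r ∈ A, r ∈ o2 H → ∃ b ∈ B, ∀ x ∈ X, r * x * r⁻¹ = b * x * b⁻¹ := by
  have hAS := h.fam.le A hA
  have hc := h.cut hA
  obtain ⟨B', hB', e⟩ := h.fam.cut A hA (A ⊓ o2 H) (by
    rw [← h.inf_cent hAS]
    exact inf_le_inf_left _ (centralizer_le h.VX)) inf_le_left hc.1
  have hB'V : B' ≤ centralizer (zl T H : Set G) := by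
    have h1 : B' ≤ (A ⊓ o2 H) ⊔ centralizer (X : Set G) := by rw [← e]; exact le_sup_left
    refine h1.trans (sup_le ?_ (centralizer_le h.VX))
    exact fun x hx => mem_centralizer_iff.2 fun v hv => (h.comm_Q x hx.2 v hv).symm
  have hB'Q : B' ≤ o2 H := (le_inf (h.fam.le B' hB') hB'V).trans h.QC
  refine ⟨B', hB', hB'Q, fun r hr hrQ => ?_⟩
  have hrm : r ∈ B' ⊔ centralizer (X : Set G) := by
    rw [e]
    exact mem_sup_left ⟨hr, hrQ⟩
  have hn : B' ≤ normalizer ((centralizer (X : Set G) : Subgroup G) : Set G) := by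
    intro x hx
    have hxN : x ∈ normalizer (X : Set G) := h.norm (h.TH (h.fam.le B' hB' hx))
    rw [mem_normalizer_iff]
    intro c
    constructor
    · intro hc
      refine mem_centralizer_iff.2 fun y hy => ?_
      have h1 : x⁻¹ * y * x ∈ X := (mem_normalizer_iff''.1 hxN y).1 hy
      have h2 := mem_centralizer_iff.1 hc _ h1
      calc y * (x * c * x⁻¹) = x * ((x⁻¹ * y * x) * c) * x⁻¹ := by group
        _ = x * (c * (x⁻¹ * y * x)) * x⁻¹ := by rw [h2]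
        _ = x * c * x⁻¹ * y := by group
    · intro hc
      refine mem_centralizer_iff.2 fun y hy => ?_
      have h1 : x * y * x⁻¹ ∈ X := (mem_normalizer_iff.1 hxN y).1 hy
      have h2 := mem_centralizer_iff.1 hc _ h1
      calc y * c = x⁻¹ * ((x * y * x⁻¹) * (x * c * x⁻¹)) * x := by group
        _ = x⁻¹ * ((x * c * x⁻¹) * (x * y * x⁻¹)) * x := by rw [h2]
        _ = c * y := by group
  have hrm' : r ∈ ((B' ⊔ centralizer (X : Set G) : Subgroup G) : Set G) := hrm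
  rw [coe_mul_of_left_le_normalizer_right _ _ hn] at hrm'
  obtain ⟨b, hb, c, hc', rfl⟩ := Set.mem_mul.1 hrm'
  refine ⟨b, hb, fun x hx => ?_⟩
  have h1 : c * x = x * c := (mem_centralizer_iff.1 hc' x hx).symm
  calc b * c * x * (b * c)⁻¹ = b * (c * x) * c⁻¹ * b⁻¹ := by group
    _ = b * (x * c) * c⁻¹ * b⁻¹ := by rw [h1]
    _ = _ := by group

/-- **Step (4) of THEOREM LAMBDA.** -/
theorem fix (h : GE T H X AA) (c : Cen H X AA Om) {A : Subgroup G} (hA : A ∈ AA) {w z : G} (hw : Om w z)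
    (hn : w ∉ Y0 H X AA) {a : G} (ha : a ∈ A) : a * z = z * a := by
  have hAT := h.fam.le A hA
  have hAH : A ≤ H := hAT.trans h.TH
  have hXc := h.Xc
  have hwX : w ∈ X := c.le w z hw
  have hXn : ∀ g ∈ H, ∀ x ∈ X, g * x * g⁻¹ ∈ X := fun g hg x hx => (mem_normalizer_iff.1 (h.norm hg) x).1 hx
  have hw' := c.conj w z hw a (hAH ha)
  -- it is enough to find `r` in a member below `O₂(H)` moving `w` with the same commutator on `w` and `w^a`
  obtain ⟨B, hB, hBQ, hBc⟩ := exists_cut h hA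
  have key : ∀ r : G, (∀ u v, Om u v → r * u * r⁻¹ * u⁻¹ = 1 ∨ r * u * r⁻¹ * u⁻¹ = v) →
      r * w * r⁻¹ * w⁻¹ ≠ 1 →
      r * (a * w * a⁻¹) * r⁻¹ * (a * w * a⁻¹)⁻¹ = r * w * r⁻¹ * w⁻¹ → a * z = z * a := by
    intro r hr hne he
    have h1 : r * w * r⁻¹ * w⁻¹ = z := (hr w z hw).resolve_left hne
    have h2 : r * (a * w * a⁻¹) * r⁻¹ * (a * w * a⁻¹)⁻¹ = a * z * a⁻¹ :=
      (hr _ _ hw').resolve_left (by rw [he]; exact hne)
    have h3 : a * z * a⁻¹ = z := by rw [← h2, he, h1]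
    calc a * z = a * z * a⁻¹ * a := by group
      _ = z * a := by rw [h3]
  have hA1com : ∀ r ∈ A ⊓ o2 H, ∀ u v, Om u v → r * u * r⁻¹ * u⁻¹ = 1 ∨ r * u * r⁻¹ * u⁻¹ = v := by
    intro r hr u v huv
    obtain ⟨b, hb, hbx⟩ := hBc r hr.1 hr.2
    rw [hbx u (c.le u v huv)]
    exact c.com u v huv B hB hBQ b hb
  have hcut := h.cut hA
  by_cases hm : ∃ r ∈ A ⊓ o2 H, r * w * r⁻¹ * w⁻¹ ≠ 1
  · obtain ⟨r, hr, hne⟩ := hm
    -- `Xw = C_{A₁}(w)`
    have hr1 : r * w * r⁻¹ * w⁻¹ = z := (hA1com r hr w z hw).resolve_left hne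
    let A1 : Subgroup G := A ⊓ o2 H
    let Aw : Subgroup G := A1 ⊓ centralizer {w}
    have hAw : Nat.card A1 ≤ 2 * Nat.card Aw := by
      refine card_le (r := r) hr inf_le_left fun x hx => ?_
      by_cases hxw : x * w * x⁻¹ * w⁻¹ = 1
      · left
        refine ⟨hx, mem_centralizer_singleton_iff.2 ?_⟩
        calc x * w = x * w * x⁻¹ * w⁻¹ * (w * x) := by group
          _ = w * x := by rw [hxw, one_mul]
      · right
        have h1 : x * w * x⁻¹ * w⁻¹ = z := (hA1com x hx w z hw).resolve_left hxw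
        refine ⟨A1.mul_mem (A1.inv_mem hr) hx, mem_centralizer_singleton_iff.2 ?_⟩
        have h2 : x * w * x⁻¹ = r * w * r⁻¹ := mul_right_cancel (h1.trans hr1.symm)
        calc r⁻¹ * x * w = r⁻¹ * (x * w * x⁻¹) * x := by group
          _ = r⁻¹ * (r * w * r⁻¹) * x := by rw [h2]
          _ = w * (r⁻¹ * x) := by group
    have hbest : Nat.card Aw * Nat.card ↥(X ⊓ centralizer (Aw : Set G)) ≤
        Nat.card A * Nat.card ↥(X ⊓ centralizer (A : Set G)) := by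
      refine h.fam.best A hA Aw ?_ (inf_le_left.trans inf_le_left)
      refine le_inf ?_ (inf_le_right.trans (centralizer_le ?_))
      · rw [show A1 = A ⊓ o2 H from rfl, ← h.inf_cent hAT]
        exact inf_le_inf_left _ (centralizer_le h.VX)
      · intro x hx
        rw [Set.mem_singleton_iff] at hx
        rw [hx]
        exact hwX
    have hcard : Nat.card ↥(X ⊓ centralizer (Aw : Set G)) ≤ 2 * Nat.card ↥(X ⊓ centralizer (A1 : Set G)) := by
      rw [← hcut.1] at hbest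
      have hp : 0 < Nat.card Aw := Nat.card_pos
      refine Nat.le_of_mul_le_mul_left (hbest.trans ?_) hp
      calc Nat.card ↥(A ⊓ o2 H) * Nat.card ↥(X ⊓ centralizer ((A ⊓ o2 H : Subgroup G) : Set G))
          ≤ (2 * Nat.card Aw) * Nat.card ↥(X ⊓ centralizer ((A ⊓ o2 H : Subgroup G) : Set G)) :=
            Nat.mul_le_mul_right _ hAw
        _ = Nat.card Aw * (2 * Nat.card ↥(X ⊓ centralizer (A1 : Set G))) := by
            rw [show A1 = A ⊓ o2 H from rfl]; ring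
    have hle : X ⊓ centralizer (A1 : Set G) ≤ X ⊓ centralizer (Aw : Set G) :=
      inf_le_inf_left _ (centralizer_le inf_le_left)
    have hwL : w ∈ X ⊓ centralizer (Aw : Set G) :=
      ⟨hwX, mem_centralizer_iff.2 fun t ht => mem_centralizer_singleton_iff.1 ht.2⟩
    have hwK : w ∉ X ⊓ centralizer (A1 : Set G) := by
      intro h1
      have h2 : r * w = w * r := mem_centralizer_iff.1 h1.2 r hr
      exact hne (by rw [h2]; group)
    -- conjugation by `a` is trivial on `A / C_A(X)`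
    have hcj : ∀ t ∈ A, ∀ x ∈ X, (a⁻¹ * t * a) * x * (a⁻¹ * t * a)⁻¹ = t * x * t⁻¹ := by
      intro t ht x hx
      have h1 := (h.fam.elem A hA).comm t⁻¹ (inv_mem ht) a⁻¹ (inv_mem ha)
      have h2 : t⁻¹ * a⁻¹ * t⁻¹⁻¹ * a⁻¹⁻¹ * x = x * (t⁻¹ * a⁻¹ * t⁻¹⁻¹ * a⁻¹⁻¹) :=
        (mem_centralizer_iff.1 h1 x hx).symm
      have e : a⁻¹ * t * a = t * (t⁻¹ * a⁻¹ * t⁻¹⁻¹ * a⁻¹⁻¹) := by group
      generalize t⁻¹ * a⁻¹ * t⁻¹⁻¹ * a⁻¹⁻¹ = d at h2 e
      rw [e]
      calc t * d * x * (t * d)⁻¹ = t * (d * x) * d⁻¹ * t⁻¹ := by group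
        _ = t * (x * d) * d⁻¹ * t⁻¹ := by rw [h2]
        _ = _ := by group
    have hxa : ∀ t ∈ A, (t * w = w * t ↔ t * (a * w * a⁻¹) = (a * w * a⁻¹) * t) := by
      intro t ht
      have h1 := hcj t ht w hwX
      constructor
      · intro h2
        have h3 : (a⁻¹ * t * a) * w * (a⁻¹ * t * a)⁻¹ = w := by
          rw [h1, h2]; group
        calc t * (a * w * a⁻¹) = a * ((a⁻¹ * t * a) * w * (a⁻¹ * t * a)⁻¹) * (a⁻¹ * t * a) * a⁻¹ := by group
          _ = a * w * (a⁻¹ * t * a) * a⁻¹ := by rw [h3]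
          _ = _ := by group
      · intro h2
        have h3 : (a⁻¹ * t * a) * w * (a⁻¹ * t * a)⁻¹ = w := by
          calc (a⁻¹ * t * a) * w * (a⁻¹ * t * a)⁻¹ = a⁻¹ * (t * (a * w * a⁻¹)) * t⁻¹ * a := by group
            _ = a⁻¹ * ((a * w * a⁻¹) * t) * t⁻¹ * a := by rw [h2]
            _ = w := by group
        rw [h1] at h3
        calc t * w = t * w * t⁻¹ * t := by group
          _ = w * t := by rw [h3]
    have hxL : a * w * a⁻¹ ∈ X ⊓ centralizer (Aw : Set G) := by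
      refine ⟨hXn a (hAH ha) w hwX, mem_centralizer_iff.2 fun t ht => ?_⟩
      exact (hxa t ht.1.1).1 (mem_centralizer_singleton_iff.1 ht.2)
    have hxK : a * w * a⁻¹ ∉ X ⊓ centralizer (A1 : Set G) := by
      intro h1
      have h2 := (hxa r hr.1).2 (mem_centralizer_iff.1 h1.2 r hr)
      exact hne (by rw [h2]; group)
    have hd := (mem_or hle hcard hwL hwK hxL).resolve_left hxK
    have hrd : r * (w⁻¹ * (a * w * a⁻¹)) = (w⁻¹ * (a * w * a⁻¹)) * r := mem_centralizer_iff.1 hd.2 r hr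
    refine key r (hA1com r hr) hne ?_
    have e : a * w * a⁻¹ = w * (w⁻¹ * (a * w * a⁻¹)) := by group
    generalize w⁻¹ * (a * w * a⁻¹) = d at hrd e
    rw [e]
    calc r * (w * d) * r⁻¹ * (w * d)⁻¹ = r * w * r⁻¹ * (r * d) * r⁻¹ * d⁻¹ * w⁻¹ := by group
      _ = r * w * r⁻¹ * (d * r) * r⁻¹ * d⁻¹ * w⁻¹ := by rw [hrd]
      _ = _ := by group
  · push Not at hm
    -- `A₁` centralises `w`: `w ∈ V C_X(A)`
    have h1 : w ∈ X ⊓ centralizer ((A ⊓ o2 H : Subgroup G) : Set G) := by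
      refine ⟨hwX, mem_centralizer_iff.2 fun r hr => ?_⟩
      calc r * w = r * w * r⁻¹ * w⁻¹ * (w * r) := by group
        _ = w * r := by rw [hm r hr, one_mul]
    rw [← hcut.2] at h1
    obtain ⟨v, hv, x, hx, e⟩ := mem_sup_comm (A := zl T H) (B := X ⊓ centralizer (A : Set G))
      (fun v hv x hx => h.Xc v (h.VX hv) x hx.1) h1
    have hax : a * x = x * a := mem_centralizer_iff.1 hx.2 a ha
    -- `w^a = v' w`, `v' ∈ V`
    have hVn : a * v * a⁻¹ ∈ zl T H := (mem_normalizer_iff.1 (le_normalizer_zl T H (hAH ha)) v).1 hv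
    have hv' : a * v * a⁻¹ * v⁻¹ ∈ zl T H := mul_mem hVn (inv_mem hv)
    have e2 : a * w * a⁻¹ = (a * v * a⁻¹ * v⁻¹) * w := by
      rw [e]
      calc a * (v * x) * a⁻¹ = a * v * a⁻¹ * (a * x) * a⁻¹ := by group
        _ = a * v * a⁻¹ * (x * a) * a⁻¹ := by rw [hax]
        _ = _ := by group
    -- a member of `AA` below `O₂(H)` moving `w`
    have h2 : ∃ B' ∈ AA, B' ≤ o2 H ∧ ∃ r ∈ B', r * w ≠ w * r := by
      by_contra hcon
      push Not at hcon
      exact hn (mem_Y0.2 ⟨hwX, fun A' hA' hA'Q r hr => hcon A' hA' hA'Q r hr⟩)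
    obtain ⟨B', hB', hB'Q, r, hr, hrw⟩ := h2
    refine key r (fun u v huv => c.com u v huv B' hB' hB'Q r hr) ?_ ?_
    · intro h3
      apply hrw
      calc r * w = r * w * r⁻¹ * w⁻¹ * (w * r) := by group
        _ = w * r := by rw [h3, one_mul]
    · generalize a * v * a⁻¹ * v⁻¹ = d at hv' e2
      rw [e2]
      have hrd : r * d = d * r := h.comm_Q r (hB'Q hr) d hv'
      have hrX : r * w * r⁻¹ * w⁻¹ ∈ X := mul_mem (hXn r (h.TH (h.fam.le B' hB' hr)) w hwX) (inv_mem hwX)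
      have hdX : d ∈ X := h.VX hv'
      calc r * (d * w) * r⁻¹ * (d * w)⁻¹ = (r * d) * w * r⁻¹ * w⁻¹ * d⁻¹ := by group
        _ = (d * r) * w * r⁻¹ * w⁻¹ * d⁻¹ := by rw [hrd]
        _ = d * (r * w * r⁻¹ * w⁻¹) * d⁻¹ := by group
        _ = (r * w * r⁻¹ * w⁻¹) * d * d⁻¹ := by rw [hXc d hdX _ hrX]
        _ = _ := by group

/-- The relation generated by the blocks `W j` with centres `z j`. -/
def Rel {ι : Type*} (H : Subgroup G) (W : ι → Subgroup G) (z : ι → G) (w' z' : G) : Prop :=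
  ∃ y ∈ H, ∃ j, ∃ w ∈ W j, w' = y * w * y⁻¹ ∧ z' = y * z j * y⁻¹

theorem Cen.of {ι : Type*} {W : ι → Subgroup G} {z : ι → G} (h : GE T H X AA) (hWX : ∀ j, W j ≤ X)
    (com : ∀ A ∈ AA, A ≤ o2 H → ∀ r ∈ A, ∀ j, ∀ w ∈ W j,
      r * w * r⁻¹ * w⁻¹ = 1 ∨ r * w * r⁻¹ * w⁻¹ = z j) : Cen H X AA (Rel H W z) where
  le := by
    rintro _ _ ⟨y, hy, j, w, hw, rfl, rfl⟩
    exact (mem_normalizer_iff.1 (h.norm hy) w).1 (hWX j hw)
  conj := by
    rintro _ _ ⟨y, hy, j, w, hw, rfl, rfl⟩ g hg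
    exact ⟨g * y, mul_mem hg hy, j, w, hw, by group, by group⟩
  com := by
    rintro _ _ ⟨y, hy, j, w, hw, rfl, rfl⟩ A hA hAQ r hr
    have hQ : cj y⁻¹ A ≤ o2 H := by
      have h1 := cj_mono y⁻¹ hAQ
      rwa [cj_eq_of_mem_normalizer (ChoiceSit.le_normalizer_o2 H (inv_mem hy))] at h1
    have hA' := h.fam.conj A hA y⁻¹ (h.norm (inv_mem hy)) (hQ.trans h.QT)
    have e : r * (y * w * y⁻¹) * r⁻¹ * (y * w * y⁻¹)⁻¹ =
        y * ((y⁻¹ * r * y) * w * (y⁻¹ * r * y)⁻¹ * w⁻¹) * y⁻¹ := by group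
    rw [e]
    rcases com _ hA' hQ (y⁻¹ * r * y) ⟨r, hr, by simp⟩ j w hw with h1 | h1
    · left; rw [h1]; group
    · right; rw [h1]

/-- Step (4), for all conjugates: the centre of a block which is not in `Y0` is centralised by `⟨A^H⟩`. -/
theorem fix_all {ι : Type*} {W : ι → Subgroup G} {z : ι → G} (h : GE T H X AA) (hWX : ∀ j, W j ≤ X)
    (com : ∀ A ∈ AA, A ≤ o2 H → ∀ r ∈ A, ∀ j, ∀ w ∈ W j,
      r * w * r⁻¹ * w⁻¹ = 1 ∨ r * w * r⁻¹ * w⁻¹ = z j) {j : ι} (hj : ¬ W j ≤ Y0 H X AA)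
    {A : Subgroup G} (hA : A ∈ AA) {a : G} (ha : a ∈ A) {g : G} (hg : g ∈ H) :
    (g * a * g⁻¹) * z j = z j * (g * a * g⁻¹) := by
  obtain ⟨w, hw, hwY⟩ := SetLike.not_le_iff_exists.1 hj
  have hg' := inv_mem hg
  have h1 : g⁻¹ * w * g ∉ Y0 H X AA := fun h2 => hwY (by
    have := (mem_normalizer_iff.1 (h.norm_Y0 hg) _).1 h2
    simpa [mul_assoc] using this)
  have h3 := fix h (Cen.of h hWX com) hA (w := g⁻¹ * w * g) (z := g⁻¹ * z j * g)
    ⟨g⁻¹, hg', j, w, hw, by group, by group⟩ h1 ha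
  calc (g * a * g⁻¹) * z j = g * (a * (g⁻¹ * z j * g)) * g⁻¹ := by group
    _ = g * ((g⁻¹ * z j * g) * a) * g⁻¹ := by rw [h3]
    _ = _ := by group

/-- Step (4): `z j ∈ C(⟨A^g : A ∈ AA, g ∈ H⟩)`. -/
theorem mem_cent {ι : Type*} {W : ι → Subgroup G} {z : ι → G} (h : GE T H X AA) (hWX : ∀ j, W j ≤ X)
    (com : ∀ A ∈ AA, A ≤ o2 H → ∀ r ∈ A, ∀ j, ∀ w ∈ W j,
      r * w * r⁻¹ * w⁻¹ = 1 ∨ r * w * r⁻¹ * w⁻¹ = z j) {j : ι} (hj : ¬ W j ≤ Y0 H X AA) :
    z j ∈ centralizer ((sSup {B | ∃ A ∈ AA, ∃ g ∈ H, B = cj g A} : Subgroup G) : Set G) := by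
  have h1 : (sSup {B | ∃ A ∈ AA, ∃ g ∈ H, B = cj g A} : Subgroup G) ≤ centralizer {z j} := by
    refine sSup_le ?_
    rintro _ ⟨A, hA, g, hg, rfl⟩
    rintro _ ⟨a, ha, rfl⟩
    exact mem_centralizer_singleton_iff.2 (fix_all h hWX com hj hA ha hg)
  exact mem_centralizer_iff.2 fun x hx => mem_centralizer_singleton_iff.1 (h1 hx)

end Cfsg.Agent.Omega.NO3S.CaseLW.LamFix
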