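import Cfsg.Agent.Omega.OM.Lev.Low.FrTwo
import Cfsg.Agent.Omega.NO3S.CaseLW.LamFix

/-!
# THEOREM LAMBDA (#24622): weird parabolics over `T ≥ B` with an offender on `⟨V^Y⟩` outside `O₂(Y)`

`FrL B Q V X₀ Z_J L W Z C A 2`; `B ≤ T`, `GE T Y U AA` (`AA` = best offenders of `T` on `U`), `V ≤ U`, all members
of `AA` lie in `B`.

* `YD T Y U AA N c` : the blocks of `Y` on `X = C_U(⟨AA⟩)` (`CaseLW/YBX.lean`);
* `fixZ` : (4) (`CaseLW/LamFix.lean`): `Z i` is centralised by all conjugates of the members of `AA`, if `W i ≰ Y0`;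
* `Z_cp` : `Z i ≤ ∏ c l` if `W i ≤ Y0` and some member of `AA` moves `W i`;
* `Z_or` : `Z i ≤ ∏ c l` or `Z i ≤ ⋂ N l` if all members of `AA` centralise `W i`;
* `core` : if `z ∈ Z_J` of full support is centralised by `Y`, then `Z_J ≤ N l` for all `l`.
-/

set_option autoImplicit false
set_option linter.unusedSectionVars false

namespace Cfsg.Agent.Omega.NO3S.CaseLW.Lam

open Subgroup Cfsg Cfsg.Agent.ZN Cfsg.Agent.ZN.ChoiceBase Cfsg.Agent.ZN.ChoiceSit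
open Cfsg.Agent.Omega.OM.GLev
open Cfsg.Agent.Omega.OM.Lev.Uni (FrL)
open Cfsg.Agent.Omega.OM.Lev.Low
open Cfsg.Agent.Omega.SQ1.Bau (elem_comm elem_sq mem_sup_comm)

universe u

variable {G : Type u} [Group G] {ι Λ : Type*}

/-- The blocks of `Y` on `X = C_U(⟨AA⟩)`. -/
structure YD (T Y U : Subgroup G) (AA : Set (Subgroup G)) (N c : Λ → Subgroup G) : Prop where
  yb : YB T (U ⊓ centralizer ((sSup AA : Subgroup G) : Set G)) N c
  mv : ∃ l, ¬ zc T ≤ N l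
  cen : ∀ x ∈ U ⊓ centralizer ((sSup AA : Subgroup G) : Set G),
    (∀ A ∈ AA, ∀ y ∈ Y, ∀ a ∈ A, y * a * y⁻¹ * x = x * (y * a * y⁻¹)) → ∀ l, x ∈ N l
  line : ∀ A ∈ AA, ∀ v ∈ zl T Y, ∀ z : G, (∀ a ∈ A, a * v * a⁻¹ * v⁻¹ = 1 ∨ a * v * a⁻¹ * v⁻¹ = z) →
    ∀ a ∈ A, a * v * a⁻¹ * v⁻¹ ∈ YB.Cp c Set.univ

theorem mem_X [Finite G] {U : Subgroup G} {AA : Set (Subgroup G)} {x : G} :
    x ∈ U ⊓ centralizer ((sSup AA : Subgroup G) : Set G) ↔ x ∈ U ∧ ∀ A ∈ AA, ∀ a ∈ A, a * x = x * a := by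
  rw [mem_inf, NO3S.OneLine.mem_cent_sSup]

variable {B Q V X₀ ZJ : Subgroup G} {L W Z C A₀ : ι → Subgroup G} {T Y U : Subgroup G} {AA : Set (Subgroup G)}
  {N c : Λ → Subgroup G}

/-- `[W i, b] ≤ Z i` -/
theorem com_W (h : FrL B Q V X₀ ZJ L W Z C A₀ 2) {i : ι} {b : G} (hb : b ∈ B) {w : G} (hw : w ∈ W i) :
    b * w * b⁻¹ * w⁻¹ ∈ Z i := (h.blk i).com b hb w hw

/-- the generator of `Z i` -/
theorem exists_z [Finite G] (h : FrL B Q V X₀ ZJ L W Z C A₀ 2) (i : ι) : ∃ z ∈ Z i, z ≠ 1 ∧ ∀ x ∈ Z i, x = 1 ∨ x = z := by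
  obtain ⟨z, hz, hz1⟩ : ∃ z ∈ Z i, z ≠ 1 := by
    by_contra hcon
    push Not at hcon
    have h1 : Z i = ⊥ := (Subgroup.eq_bot_iff_forall _).2 hcon
    have hcard := h.cardZ i
    rw [h1, Subgroup.card_bot] at hcard
    omega
  refine ⟨z, hz, hz1, fun x hx => ?_⟩
  by_cases hx1 : x = 1
  · exact Or.inl hx1
  · exact Or.inr (eq_of_two (h.cardZ i) hx hz hx1 hz1)

section fin

variable [Finite G] (h : FrL B Q V X₀ ZJ L W Z C A₀ 2) (ge : GE T Y U AA) (hBT : B ≤ T) (hVU : V ≤ U)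
  (hAB : ∀ A ∈ AA, A ≤ B)
include h ge hBT hVU hAB

/-- **(b)** -/
theorem Z_cp (yd : YD T Y U AA N c) {i : ι} (hR : W i ≤ Y0 Y U AA)
    {A : Subgroup G} (hA : A ∈ AA) (hne : ¬ ∀ a ∈ A, ∀ w ∈ W i, a * w = w * a) : Z i ≤ YB.Cp c Set.univ := by
  push Not at hne
  obtain ⟨a, ha, w, hw, hne⟩ := hne
  obtain ⟨v, hv, e⟩ := ge.Y0_comm hA (hR hw)
  obtain ⟨z, hz, hz1, hall⟩ := exists_z h i
  have key : ∀ a ∈ A, a * v * a⁻¹ * v⁻¹ = 1 ∨ a * v * a⁻¹ * v⁻¹ = z := fun a ha => by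
    rw [← e a ha]
    exact hall _ (com_W h (hAB A hA ha) hw)
  have h1 := yd.line A hA v hv z key a ha
  rw [← e a ha] at h1
  have h2 : a * w * a⁻¹ * w⁻¹ = z := by
    rcases hall _ (com_W h (hAB A hA ha) hw) with h3 | h3
    · exfalso
      apply hne
      exact mul_inv_eq_iff_eq_mul.1 (mul_inv_eq_one.1 h3)
    · exact h3
  rw [h2] at h1
  intro x hx
  rcases hall x hx with rfl | rfl
  · exact one_mem _
  · exact h1

/-- **(c)** -/
theorem Z_or [Finite Λ] (yd : YD T Y U AA N c)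
    (hV : YB.QV T (U ⊓ centralizer ((sSup AA : Subgroup G) : Set G)) Q
      (V ⊓ (U ⊓ centralizer ((sSup AA : Subgroup G) : Set G)))) {i : ι}
    (hW : ∀ A ∈ AA, ∀ a ∈ A, ∀ w ∈ W i, a * w = w * a) :
    Z i ≤ YB.Cp c Set.univ ∨ Z i ≤ YB.Np (U ⊓ centralizer ((sSup AA : Subgroup G) : Set G)) N Set.univ := by
  have hY := yd.yb
  obtain ⟨b, hb, hne⟩ : ∃ b ∈ A₀ i, ¬ ∀ v ∈ W i, b * v = v * b := by
    by_contra hcon
    push Not at hcon
    exact h.Ane i hcon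
  have r := rt h hBT hb hne
  obtain ⟨z, hz, hz1, hall⟩ := exists_z h i
  obtain ⟨v, hvW, e⟩ := exists_comm h (h.AB i hb) hne hz
  have hv : v ∈ V ⊓ (U ⊓ centralizer ((sSup AA : Subgroup G) : Set G)) :=
    mem_inf.2 ⟨h.WV i hvW, mem_X.2 ⟨hVU (h.WV i hvW), fun A hA a ha => hW A hA a ha v hvW⟩⟩
  obtain ⟨a, haV, d, hdV, ha, hd, rfl⟩ := hY.restr hV (p := Set.univ) (fun _ _ _ _ _ => by simp) hv
  have hac : a * (b * a * b⁻¹) ∈ YB.Cp c Set.univ := mul_mem ha (hY.Cp_conj r.bT (fun _ _ _ _ => Set.mem_univ _) ha)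
  have hdc : d * (b * d * b⁻¹) ∈
      YB.Np (U ⊓ centralizer ((sSup AA : Subgroup G) : Set G)) N Set.univ :=
    mul_mem hd (hY.Np_conj r.bT (fun _ _ _ _ => Set.mem_univ _) hd)
  have hra := YB.QV.memV hY hV r.bT haV
  have e2 : a * (b * a * b⁻¹) * (d * (b * d * b⁻¹)) = z := by
    rw [← e]
    calc a * (b * a * b⁻¹) * (d * (b * d * b⁻¹)) = a * ((b * a * b⁻¹) * d) * (b * d * b⁻¹) := by group
      _ = a * d * (b * (a * d) * b⁻¹) := by rw [hY.cm (hV.VX hra) (hV.VX hdV)]; group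
  by_cases h1 : a * (b * a * b⁻¹) = 1
  · right
    rw [h1, one_mul] at e2
    intro x hx
    rcases hall x hx with rfl | rfl
    · exact one_mem _
    · rw [← e2]
      exact hdc
  · left
    intro x hx
    rcases hall x hx with rfl | rfl
    · exact one_mem _
    · rw [eq_of_two (h.cardZ i) hz (r.com a (mem_inf.1 haV).1) hz1 h1]
      exact hac

/-- **(4)** -/
theorem fixZ {i : ι} (hi : ¬ W i ≤ Y0 Y U AA) {A : Subgroup G} (hA : A ∈ AA) {y a z : G} (hy : y ∈ Y) (ha : a ∈ A)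
    (hz : z ∈ Z i) : y * a * y⁻¹ * z = z * (y * a * y⁻¹) := by
  choose z₀ hz₀ hz₁ hall using fun i => exists_z h i
  have h1 := LamFix.fix_all (W := W) (z := z₀) ge (fun j => (h.WV j).trans hVU)
    (fun A hA _ r hr j w hw => hall j _ (com_W h (hAB A hA hr) hw)) hi hA ha hy
  rcases hall i z hz with rfl | rfl
  · simp
  · exact h1

/-- **The end of THEOREM LAMBDA** from (4). -/
theorem core [Finite ι] [Finite Λ] (yd : YD T Y U AA N c)
    (hV : YB.QV T (U ⊓ centralizer ((sSup AA : Subgroup G) : Set G)) Q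
      (V ⊓ (U ⊓ centralizer ((sSup AA : Subgroup G) : Set G))))
    {z : G} (hz : z ∈ ZJ) (hzC : ∀ i, z ∉ C i) (hzY : ∀ y ∈ Y, y * z = z * y) (l : Λ) : ZJ ≤ N l := by
  classical
  have hY := yd.yb
  have hJX : ∀ x ∈ ZJ, x ∈ U ⊓ centralizer ((sSup AA : Subgroup G) : Set G) := fun x hx =>
    mem_X.2 ⟨hVU (h.ZJV hx), fun A hA a ha => ((h.mem_ZJ x).1 hx).2 a (hAB A hA ha)⟩
  have hor : ∀ i, Z i ≤ YB.Cp c Set.univ ∨
      Z i ≤ YB.Np (U ⊓ centralizer ((sSup AA : Subgroup G) : Set G)) N Set.univ := by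
    intro i
    by_cases hR : W i ≤ Y0 Y U AA
    · by_cases hW : ∀ A ∈ AA, ∀ a ∈ A, ∀ w ∈ W i, a * w = w * a
      · exact Z_or h ge hBT hVU hAB yd hV hW
      · push Not at hW
        obtain ⟨A, hA, a, ha, w, hw, hne⟩ := hW
        exact Or.inl (Z_cp h ge hBT hVU hAB yd hR hA fun h1 => hne (h1 a ha w hw))
    · refine Or.inr fun x hx => YB.mem_Np.2 ⟨hJX x (h.Z_le i hx), fun m _ => ?_⟩
      exact yd.cen x (hJX x (h.Z_le i hx)) (fun A hA y hy a ha =>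
        fixZ h ge hBT hVU hAB hR hA hy ha hx) m
  have hzN : ∀ l, z ∈ N l := yd.cen z (hJX z hz) fun A hA y hy a ha => hzY _
    (mul_mem (mul_mem hy (ge.TH (ge.fam.le A hA ha))) (inv_mem hy))
  have hall : ∀ i, Z i ≤ YB.Np (U ⊓ centralizer ((sSup AA : Subgroup G) : Set G)) N Set.univ := by
    by_contra hcon
    push Not at hcon
    obtain ⟨i₀, hi₀⟩ := hcon
    set p : Set ι := {i | ¬ Z i ≤ YB.Np (U ⊓ centralizer ((sSup AA : Subgroup G) : Set G)) N Set.univ} with hp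
    have h1 : ZJ ≤ (⨆ i ∈ p, Z i) ⊔ ⨆ i ∈ pᶜ, Z i := by
      refine zj_le h fun i => ?_
      by_cases hi : i ∈ p
      · exact le_sup_of_le_left (le_iSup₂_of_le i hi le_rfl)
      · exact le_sup_of_le_right (le_iSup₂_of_le i hi le_rfl)
    have hC : (⨆ i ∈ p, Z i) ≤ YB.Cp c Set.univ := iSup₂_le fun i hi => (hor i).resolve_right hi
    have hN : (⨆ i ∈ pᶜ, Z i) ≤
        YB.Np (U ⊓ centralizer ((sSup AA : Subgroup G) : Set G)) N Set.univ := iSup₂_le fun i hi => not_not.1 hi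
    obtain ⟨a, ha, d, hd, e⟩ := hY.mem_sup_cm (hC.trans (hY.Cp_le _)) (hN.trans (YB.Np_le _)) (h1 hz)
    have h2 : a = 1 := by
      refine hY.eq_one (hC ha) fun m _ => ?_
      have h3 : a = z * d⁻¹ := by rw [e]; group
      rw [h3]
      exact mul_mem (hzN m) (inv_mem ((YB.mem_Np.1 (hN hd)).2 m (Set.mem_univ m)))
    rw [h2, one_mul] at e
    apply hzC i₀
    rw [e]
    refine (iSup₂_le fun i hi => ?_ : (⨆ i ∈ pᶜ, Z i) ≤ C i₀) hd
    exact ((h.blk i).ZV).trans (h.WjC i₀ i fun e => hi (e ▸ hi₀))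
  have h2 := zj_le h hall
  exact fun x hx => (YB.mem_Np.1 (h2 hx)).2 l (Set.mem_univ l)

end fin

end Cfsg.Agent.Omega.NO3S.CaseLW.Lam
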