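import Cfsg.Agent.Omega.NO3S.CaseLW.LamFixQ

/-!
# THEOREM LAMBDA: the normal closure `AH = ⟨A^g : A ∈ AA, g ∈ H⟩`

* `AH`, `AH_le`, `AH_norm` : normal in `H`; `AH_sup` : `AH ⊔ T = H` if some member of `AA` is not in `O₂(H)`;
* `Y0_sub` : `AH` centralises `Y0 / V` (`V = zl T H`);
* **`AH_cent`** : `W j ≰ Y0`, the members of `AA` centralise `Z j` ⟹ `AH` centralises `Z j` (blocks of any order);
* `AH_cent_one` : the same for `|Z j| = 2` (`LamFix.mem_cent`).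

Author: helper182.
-/

set_option autoImplicit false
set_option linter.unusedSectionVars false

namespace Cfsg.Agent.Omega.NO3S.CaseLW.LamFix

open Subgroup Cfsg Cfsg.Agent.ZN Cfsg.Agent.ZN.ChoiceBase Cfsg.Agent.ZN.ChoiceSit
open Cfsg.Agent.PLocal.ThompsonJ
open Cfsg.Agent.Omega.OM.GLev (GE Y0 mem_Y0)

universe u

variable {G : Type u} [Group G]

/-- `⟨A^g : A ∈ AA, g ∈ H⟩` -/
def AH (H : Subgroup G) (AA : Set (Subgroup G)) : Subgroup G :=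
  sSup {B | ∃ A ∈ AA, ∃ g ∈ H, B = cj g A}

variable {T H X : Subgroup G} {AA : Set (Subgroup G)}

theorem le_AH {A : Subgroup G} (hA : A ∈ AA) : A ≤ AH H AA :=
  le_sSup ⟨A, hA, 1, one_mem H, (cj_one A).symm⟩

/-- induction over the normal closure -/
theorem AH_le_of {K : Subgroup G} (h : ∀ A ∈ AA, ∀ g ∈ H, cj g A ≤ K) : AH H AA ≤ K :=
  sSup_le (by rintro _ ⟨A, hA, g, hg, rfl⟩; exact h A hA g hg)

theorem AH_conj {g x : G} (hg : g ∈ H) (hx : x ∈ AH H AA) : g * x * g⁻¹ ∈ AH H AA := by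
  have h1 : AH H AA ≤ (AH H AA).comap (MulAut.conj g).toMonoidHom := by
    refine AH_le_of fun A hA y hy => ?_
    rintro _ ⟨a, ha, rfl⟩
    have h2 : cj (g * y) A ≤ AH H AA := le_sSup ⟨A, hA, g * y, mul_mem hg hy, rfl⟩
    refine mem_comap.2 (h2 ⟨a, ha, ?_⟩)
    simp [mul_assoc]
  exact mem_comap.1 (h1 hx)

variable [Finite G] (h : GE T H X AA)
include h

theorem AH_le : AH H AA ≤ H := AH_le_of fun A hA g hg => by
  rintro _ ⟨a, ha, rfl⟩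
  exact mul_mem (mul_mem hg (h.TH (h.fam.le A hA ha))) (inv_mem hg)

theorem AH_norm : H ≤ normalizer (AH H AA : Set G) := fun g hg => mem_normalizer_of_cj_le (by
  rintro _ ⟨x, hx, rfl⟩
  exact AH_conj hg hx)

/-- `⟨A^H⟩ T = H` if some member of `AA` is not in `O₂(H)`. -/
theorem AH_sup (hout : ∃ A ∈ AA, ¬ A ≤ o2 H) : AH H AA ⊔ T = H := by
  by_contra hne
  obtain ⟨A, hA, hAQ⟩ := hout
  exact hAQ ((le_inf (h.fam.le A hA) (le_AH hA)).trans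
    (h.hm.inf_le (AH_le h) (fun g hg n hn => AH_conj hg hn) hne))

/-- `[Y0, ⟨A^H⟩] ≤ V`. -/
theorem Y0_sub {y x : G} (hy : y ∈ Y0 H X AA) (hx : x ∈ AH H AA) : x * y * x⁻¹ * y⁻¹ ∈ zl T H := by
  have hV : ∀ g ∈ H, ∀ v ∈ zl T H, g * v * g⁻¹ ∈ zl T H := fun g hg v hv =>
    (mem_normalizer_iff.1 (le_normalizer_zl T H hg) v).1 hv
  have hgen : ∀ A ∈ AA, ∀ g ∈ H, ∀ a ∈ A, ∀ y ∈ Y0 H X AA,
      (g * a * g⁻¹) * y * (g * a * g⁻¹)⁻¹ * y⁻¹ ∈ zl T H := by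
    intro A hA g hg a ha y hy
    have h1 : g⁻¹ * y * g ∈ Y0 H X AA := by
      have := (mem_normalizer_iff.1 (h.norm_Y0 (inv_mem hg)) y).1 hy
      simpa using this
    obtain ⟨v, hv, h2⟩ := h.Y0_comm hA h1
    have h3 : a * (g⁻¹ * y * g) * a⁻¹ * (g⁻¹ * y * g)⁻¹ ∈ zl T H := by
      rw [h2 a ha]
      exact mul_mem (hV a (h.TH (h.fam.le A hA ha)) v hv) (inv_mem hv)
    have h4 := hV g hg _ h3
    have e : g * (a * (g⁻¹ * y * g) * a⁻¹ * (g⁻¹ * y * g)⁻¹) * g⁻¹ =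
        (g * a * g⁻¹) * y * (g * a * g⁻¹)⁻¹ * y⁻¹ := by group
    rwa [e] at h4
  -- the elements of `H` acting trivially on `Y0 / V` form a subgroup
  let K : Subgroup G :=
    { carrier := {x | x ∈ H ∧ ∀ y ∈ Y0 H X AA, x * y * x⁻¹ * y⁻¹ ∈ zl T H}
      one_mem' := ⟨one_mem H, fun y _ => by simpa using one_mem (zl T H)⟩
      mul_mem' := by
        rintro s t ⟨hs, hs'⟩ ⟨ht, ht'⟩
        refine ⟨mul_mem hs ht, fun y hy => ?_⟩
        have e : s * t * y * (s * t)⁻¹ * y⁻¹ = s * (t * y * t⁻¹ * y⁻¹) * s⁻¹ * (s * y * s⁻¹ * y⁻¹) := by group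
        rw [e]
        exact mul_mem (hV s hs _ (ht' y hy)) (hs' y hy)
      inv_mem' := by
        rintro s ⟨hs, hs'⟩
        refine ⟨inv_mem hs, fun y hy => ?_⟩
        have e : s⁻¹ * y * s⁻¹⁻¹ * y⁻¹ = s⁻¹ * (s * y * s⁻¹ * y⁻¹)⁻¹ * s⁻¹⁻¹ := by group
        rw [e]
        exact hV _ (inv_mem hs) _ (inv_mem (hs' y hy)) }
  have hK : AH H AA ≤ K := AH_le_of fun A hA g hg => by
    rintro _ ⟨a, ha, rfl⟩
    exact ⟨mul_mem (mul_mem hg (h.TH (h.fam.le A hA ha))) (inv_mem hg), hgen A hA g hg a ha⟩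
  exact (hK hx).2 y hy

/-- **The centre of a block which is not in `Y0` is centralised by `⟨A^H⟩`** (any order of `Z j`). -/
theorem AH_cent {ι : Type*} {W Z : ι → Subgroup G} (c : CenQ H X AA (RelQ H W Z)) {j : ι}
    (hj : ¬ W j ≤ Y0 H X AA) (hc : ∀ A ∈ AA, ∀ a ∈ A, ∀ z ∈ Z j, a * z = z * a)
    (hout : ∃ A ∈ AA, ¬ A ≤ o2 H) : ∀ x ∈ AH H AA, ∀ z ∈ Z j, x * z = z * x := by
  have hn : AH H AA ≤ normalizer (Z j : Set G) := le_norm h c hj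
  have h1 : AH H AA ≤ centralizer (Z j : Set G) := by
    refine AH_le_of fun A hA g hg => ?_
    rintro _ ⟨a, ha, rfl⟩
    -- `g = n t`
    have hgm : g ∈ ((AH H AA ⊔ T : Subgroup G) : Set G) := by
      rw [AH_sup h hout]; exact hg
    rw [coe_mul_of_right_le_normalizer_left (AH H AA) T (h.TH.trans (AH_norm h))] at hgm
    obtain ⟨n, hn', t, ht, rfl⟩ := Set.mem_mul.1 hgm
    have hA' : cj t A ∈ AA := h.fam.conj A hA t (h.norm (h.TH ht)) (by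
      rintro _ ⟨b, hb, rfl⟩
      exact mul_mem (mul_mem ht (h.fam.le A hA hb)) (inv_mem ht))
    refine mem_centralizer_iff.2 fun z hz => ?_
    have hz' : n⁻¹ * z * n ∈ Z j := (mem_normalizer_iff''.1 (hn hn') z).1 hz
    have h2 := hc _ hA' (t * a * t⁻¹) ⟨a, ha, rfl⟩ _ hz'
    have e : (MulAut.conj (n * t)).toMonoidHom a = n * (t * a * t⁻¹) * n⁻¹ := by
      simp [mul_assoc]
    rw [e]
    generalize t * a * t⁻¹ = b at h2
    calc z * (n * b * n⁻¹) = n * ((n⁻¹ * z * n) * b) * n⁻¹ := by group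
      _ = n * (b * (n⁻¹ * z * n)) * n⁻¹ := by rw [h2]
      _ = _ := by group
  exact fun x hx z hz => (mem_centralizer_iff.1 (h1 hx) z hz).symm

/-- `|Z j| = 2`. -/
theorem AH_cent_one {ι : Type*} {W : ι → Subgroup G} {z : ι → G} (hWX : ∀ j, W j ≤ X)
    (com : ∀ A ∈ AA, A ≤ o2 H → ∀ r ∈ A, ∀ j, ∀ w ∈ W j,
      r * w * r⁻¹ * w⁻¹ = 1 ∨ r * w * r⁻¹ * w⁻¹ = z j) {j : ι} (hj : ¬ W j ≤ Y0 H X AA) {x : G}
    (hx : x ∈ AH H AA) : x * z j = z j * x :=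
  mem_centralizer_iff.1 (mem_cent h hWX com hj) x hx

end Cfsg.Agent.Omega.NO3S.CaseLW.LamFix
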