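import Cfsg.Agent.Omega.NO3S.CaseLW.Lam
import Cfsg.Agent.Omega.NO3S.CaseLW.YBX
import Cfsg.Agent.Omega.OM.SwapT.QuietL
import Cfsg.Agent.Omega.OM.SwapT.Plug

/-!
# THEOREM LAMBDA in the case (L): the socket `LowT` of THEOREM SW from `OffW`

`CaseL S P`, `K₀ = O₂(P)`, `Lt S P (O₂(P)) L W Z C A 2` (natural `SL₂(2)`-blocks, symmetric types), `c ∈ Z_J` of full
support.

* `qvX` : `QV T X O₂(P) (V_P ∩ X)` for `T`-invariant `X ≤ Ω₁Z(lim S)`;
* `low_lev` : minimal parabolics `Y ≤ C_G(c)` over `T ≥ B` with `lim S ≰ O₂(Y)` centralise `Ω₁Z(T)`;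
* `low_off` : minimal parabolics `Y ≤ C_G(c)` over `T ≥ B` with `lim S ≤ O₂(Y)` and a best offender of `T` on
  `⟨V_P^Y⟩` outside `O₂(Y)` centralise `Ω₁Z(T)`;
* **`lowT_of_off`** : `LowT S (O₂(P)) M (C_G(c))` from `OffLow`;
* `zc_le_of_trans` : `Ω₁Z(S) ≤ ⟨c⟩` if `S` is transitive on the `Z i`;
* **`lowT_of_offW`** : `LowT` from `QuietL.OffW`, if `Ω₁Z(S) ≤ ⟨c⟩`; **`sockets`** : all three sockets of THEOREM SW;
* `false_of_wy`, **`le_of_offW`** : the weird parabolics `WY S P T Y` inside `C_G(Z)` lie in `M` (440's `LamH`).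
-/

set_option autoImplicit false
set_option linter.unusedSectionVars false

namespace Cfsg.Agent.Omega.NO3S.CaseLW.Lam

open Subgroup Cfsg Cfsg.Agent.ZN.ChoiceBase Cfsg.Agent.ZN.ChoiceSit
open Cfsg.Agent.ZN (jj zj bau zc zl o2)
open Cfsg.Agent.MinSimple.MinParabolic (IsMinPar)
open Cfsg.Agent.Omega.OM.GLev
open Cfsg.Agent.Omega.OM.Lev.Low
open Cfsg.Agent.Omega.NO1.BestOff (Best)
open Cfsg.Agent.Omega.NO3S.Level
open Cfsg.Agent.Omega.NO3S.OneLine (bo bo_fam elemM_mono)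
open Cfsg.Agent.Omega.FFThm (NatKM SymKM OffM)
open Cfsg.Agent.Omega.FrameFF (cv)
open Cfsg.Agent.Omega.OM.SwapK (VF elab_VF V_le_VF VF_le_lim norm_lim_of best_of_le wl_caseL WL)
open Cfsg.Agent.Omega.OM.SwapT (ZT BT Lt LowT)
open Cfsg.Agent.Omega.SQ1.Bau (elem_comm elem_sq)

universe u

variable {G : Type u} [Group G] [Finite G] {S : Sylow 2 G} {P : Subgroup G} {ι : Type}
  {L W Z C A : ι → Subgroup G} {T Y : Subgroup G}

section two

variable {q : ℕ}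

theorem T_norm (h : CaseL S P) (hT : IsPGroup 2 T) (hB : BT (S : Subgroup G) (o2 P) ≤ T) :
    T ≤ normalizer (o2 P : Set G) :=
  ((OM.SwapT.lb h.wc).two_le hT hB).trans (OM.SwapT.norm_K h.wc)

theorem V_lim (h : CaseL S P) : zl (S : Subgroup G) P ≤ zc (lim (S : Subgroup G)) := OM.SwapK.V_le_lim h h.lim_le

/-- **`QV`** -/
theorem qvX (h : CaseL S P) (lt : Lt S P (o2 P) L W Z C A q) (hT : IsPGroup 2 T)
    (hB : BT (S : Subgroup G) (o2 P) ≤ T) {X K : Subgroup G} (hK : K ≤ o2 P) (hX : X ≤ K)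
    (hsq : ∀ x ∈ X, x ^ 2 = 1) :
    YB.QV T X (o2 P) (zl (S : Subgroup G) P ⊓ X) where
  QT := lt.fr.QB.trans hB
  TQ := T_norm h hT hB
  mem := by
    intro x
    constructor
    · exact fun hx => ⟨hx.2, fun q hq => lt.fr.cQ hq hx.1⟩
    · rintro ⟨hx, hxQ⟩
      exact ⟨lt.fr.zcQ x (hK (hX hx)) (hsq x hx) fun y hy => (hxQ y hy).symm, hx⟩
  two := hT

theorem zc_T_le (h : CaseL S P) (hT : IsPGroup 2 T) (hB : BT (S : Subgroup G) (o2 P) ≤ T) :
    zc T ≤ ZT (S : Subgroup G) (o2 P) :=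
  (OM.SwapT.lev_T (wc_nxt h.wc) h.levQ.next hT ((OM.SwapT.lb h.wc).KB.trans hB)).zc_le

/-- a stage of `Y` below `O₂(P)` -/
theorem BL_le (h : CaseL S P) (j : ℕ) : OM.LevB.BL (S : Subgroup G) j ≤ BT (S : Subgroup G) (o2 P) := by
  refine inf_le_inf_left _ (centralizer_le ?_)
  exact (lev_isLev (S : Subgroup G) j).zc_le_zc (((lev_le_lim _ j).trans h.lim_le).trans (le_nxt h.levQ.le))
    (nxt_le _ _)

end two

variable [Finite ι]

/-- **LL at the levels inside `C_G(c)`.** -/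
theorem low_lev (h : CaseL S P) (lt : Lt S P (o2 P) L W Z C A 2) {c : G} (hc : c ∈ ZT (S : Subgroup G) (o2 P))
    (hcf : ∀ i, c ∉ C i) (hT : Syl T Y) (hB : BT (S : Subgroup G) (o2 P) ≤ T) (hP : IsMinPar T Y)
    (hYc : Y ≤ centralizer ({c} : Set G)) (hch : Y ⊓ centralizer (o2 Y : Set G) ≤ o2 Y)
    (hn : ¬ lim (S : Subgroup G) ≤ o2 Y) : Y ≤ centralizer (zc T : Set G) := by
  by_contra hZ
  obtain ⟨j, -, hlow, hnj⟩ := exists_stg (S : Subgroup G) (n := Nat.card G) hn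
  obtain ⟨Λ, _, N, c', hy, ⟨l, hl⟩, hcN⟩ := exists_ybj_cent S hT ((BL_le h j).trans hB) hP hch hlow hnj hZ
  have hle : lev (S : Subgroup G) j ≤ o2 P := (lev_le_lim _ j).trans h.lim_le
  have hVX : zl (S : Subgroup G) P ≤ zc (lev (S : Subgroup G) j) := by
    rw [← h.zc_eq]
    exact (lev_isLev (S : Subgroup G) j).zc_le_zc hle h.levQ.le
  have hV := qvX h lt hT.2.1 hB (X := zc (lev (S : Subgroup G) j)) hle (zc_le _) fun x hx => (mem_zc.1 hx).2.1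
  rw [inf_eq_left.2 hVX] at hV
  have hcX : c ∈ zc (lev (S : Subgroup G) j) := hV.VX (lt.fr.ZJV hc)
  have h1 := no_low_two lt.fr hy hV hB hc hcf
    (hcN c hcX fun y hy' => mem_centralizer_singleton_iff.1 (hYc hy')) l
  exact hl ((zc_T_le h hT.2.1 hB).trans h1)

/-- **THEOREM LAMBDA** -/
theorem low_off (h : CaseL S P) (lt : Lt S P (o2 P) L W Z C A 2) {c : G}
    (hc : c ∈ ZT (S : Subgroup G) (o2 P))
    (hcf : ∀ i, c ∉ C i) (hT : Syl T Y) (hB : BT (S : Subgroup G) (o2 P) ≤ T) (hP : IsMinPar T Y)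
    (hYc : Y ≤ centralizer ({c} : Set G)) (hch : Y ⊓ centralizer (o2 Y : Set G) ≤ o2 Y)
    (hl : lim (S : Subgroup G) ≤ o2 Y) (hoff : ∃ A, A ≤ T ∧ Best (VF S P Y) A ∧ ¬ A ≤ o2 Y) :
    Y ≤ centralizer (zc T : Set G) := by
  by_contra hZ
  set U := VF S P Y with hU
  have hFN := norm_lim_of S hl
  have hel : IsElementaryAbelian 2 U := elab_VF h h.lim_le hFN
  have hUlim : U ≤ zc (lim (S : Subgroup G)) := VF_le_lim h h.lim_le hFN
  have hVU : zl (S : Subgroup G) P ≤ U := V_le_VF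
  have hUn : Y ≤ normalizer (U : Set G) := OmThm.XD.X_le_normalizer_W
  have hJU : ZT (S : Subgroup G) (o2 P) ≤ U := (fun x hx => hVU (lt.fr.ZJV hx))
  have hzU : zl T Y ≤ U := ZN.zl_le ((zc_T_le h hT.2.1 hB).trans hJU) hUn
  have hQC := OM.BlkGen.inf_cent hT hP hZ
  obtain ⟨A₁, hA₁T, hb₁, hA₁O⟩ := hoff
  have hA₁ : A₁ ∈ bo T U := ⟨hA₁T, hb₁.toElemM, fun B h1 h2 => hb₁.max B h2 h1⟩
  have hoffM : OffM (zl T Y) A₁ :=
    { toElemM := elemM_mono hb₁.toElemM hzU le_rfl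
      ne := fun h1 => hA₁O ((le_inf hA₁T h1).trans hQC)
      le := (bo_fam T U).off (elem_comm hel) hzU hA₁ }
  obtain ⟨hno, hcon⟩ := FF.Glob.ffthmM G T Y hT hP hch ⟨A₁, hA₁T.trans hT.1, hoffM⟩
  have ge : GE T Y U (bo T U) :=
    { hm := SQ1.FFOne.minH_of hT hP hch
      fam := bo_fam T U
      elem := hel
      norm := hUn
      VX := hzU
      QC := hQC
      noOver := hno }
  have hAB : ∀ A ∈ bo T U, A ≤ BT (S : Subgroup G) (o2 P) := by
    intro A hA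
    have hb : Best U A := { toElemM := hA.2.1, max := fun B h1 h2 => hA.2.2 B h2 h1 }
    have hb' : Best (zc (o2 P)) A := best_of_le (elem_comm hel) hb (h.zc_eq.trans_le hVU)
    exact ((wl_caseL h).le_nxt_of_best hT.2.1 ((wl_caseL h).lb.KB.trans hB) hA.1 hb').trans (wl_caseL h).lb.KB
  have hUT : U ≤ T :=
    (((hUlim.trans (zc_le _)).trans h.lim_le).trans (OM.SwapT.K_le h.wc)).trans hB
  obtain ⟨Λ, _, N, c', yx⟩ := YBX.exists_ybx ge hUT hcon ⟨A₁, hA₁, hA₁O⟩ hZ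
  have yd : YD T Y U (bo T U) N c' := ⟨yx.yb, yx.ex, fun x hx => yx.cen x hx.1, yx.com⟩
  obtain ⟨l, hll⟩ := yd.mv
  have hV := qvX h lt hT.2.1 hB (X := U ⊓ centralizer ((sSup (bo T U) : Subgroup G) : Set G))
    (K := lim (S : Subgroup G)) h.lim_le ((inf_le_left.trans hUlim).trans (zc_le _)) fun x hx =>
      (mem_zc.1 (hUlim hx.1)).2.1
  have h1 := core lt.fr ge hB hVU hAB yd hV hc hcf
    (fun y hy => mem_centralizer_singleton_iff.1 (hYc hy)) l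
  exact hll ((zc_T_le h hT.2.1 hB).trans h1)

/-- **`OffW`** for the minimal parabolics `Y ≤ C_G(c)` over `T ≥ B` outside `M` which move `Ω₁Z(T)` -/
def OffLow (S : Sylow 2 G) (P M H : Subgroup G) : Prop :=
  ∀ T Y : Subgroup G, Syl T Y → BT (S : Subgroup G) (o2 P) ≤ T → IsMinPar T Y → Y ≤ H →
    Y ⊓ centralizer (o2 Y : Set G) ≤ o2 Y → lim (S : Subgroup G) ≤ o2 Y → ¬ o2 P ≤ o2 Y →
    ¬ Y ≤ centralizer (zc T : Set G) → ¬ Y ≤ M → ∃ A, A ≤ T ∧ Best (VF S P Y) A ∧ ¬ A ≤ o2 Y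

/-- **`LowT` from `OffW`.** -/
theorem lowT_of_off (h : CaseL S P) (lt : Lt S P (o2 P) L W Z C A 2) {c : G}
    (hc : c ∈ ZT (S : Subgroup G) (o2 P)) (hcf : ∀ i, c ∉ C i) {M : Subgroup G}
    (hoff : OffLow S P M (centralizer ({c} : Set G))) :
    LowT S (o2 P) M (centralizer ({c} : Set G)) := by
  intro T Y hT hB hP hYc hch hK hZ
  by_contra hM
  by_cases hn : lim (S : Subgroup G) ≤ o2 Y
  · exact hZ (low_off h lt hc hcf hT hB hP hYc hch hn (hoff T Y hT hB hP hYc hch hn hK hZ hM))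
  · exact hZ (low_lev h lt hc hcf hT hB hP hYc hch hn)

omit [Finite ι] in
/-- `Ω₁Z(S) ≤ ⟨c⟩` if `S` is transitive on the `Z i` -/
theorem zc_le_of_trans [Finite ι] (h : CaseL S P) (lt : Lt S P (o2 P) L W Z C A 2) {c : G}
    (hc : c ∈ ZT (S : Subgroup G) (o2 P)) (hcf : ∀ i, c ∉ C i)
    (htr : ∀ i j, ∃ s ∈ (S : Subgroup G), cj s (Z i) = Z j) : zc (S : Subgroup G) ≤ zpowers c := by
  intro x hx
  have hB : BT (S : Subgroup G) (o2 P) ≤ (S : Subgroup G) := (OM.SwapT.lb h.wc).BS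
  have hxZ : x ∈ ZT (S : Subgroup G) (o2 P) := zc_T_le h S.isPGroup' hB hx
  have hinv : ∀ i j, x ∈ C i → x ∈ C j := by
    intro i j hi
    obtain ⟨s, hs, e⟩ := htr i j
    have h1 := OM.SwapT.supp_cj lt ((OM.SwapT.lb h.wc).two_le S.isPGroup' hB hs) e hxZ
    have h2 : s * x * s⁻¹ = x := by rw [(mem_zc.1 hx).2.2 s hs]; group
    rw [h2] at h1
    exact h1.2 hi
  by_cases hex : ∃ i, x ∈ C i
  · obtain ⟨i, hi⟩ := hex
    rw [lt.fr.C0 x (lt.fr.ZJV hxZ) fun j => hinv i j hi]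
    exact one_mem _
  · push Not at hex
    have : x = c := OM.SwapT.eq_of_supp lt hxZ hc fun i =>
      ⟨fun h1 => absurd h1 (hex i), fun h1 => absurd h1 (hcf i)⟩
    rw [this]
    exact mem_zpowers c

/-- **`LowT` from THEOREM QW.** -/
theorem lowT_of_offW (h : CaseL S P) (lt : Lt S P (o2 P) L W Z C A 2) {c : G}
    (hc : c ∈ ZT (S : Subgroup G) (o2 P)) (hcf : ∀ i, c ∉ C i) (hzS : zc (S : Subgroup G) ≤ zpowers c)
    {M : Subgroup G} (ho : OM.SwapT.QuietL.OffW S P M)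
    (hD : centralizer (ZT (S : Subgroup G) (o2 P) : Set G) ≤ M)
    (hN : normalizer (BT (S : Subgroup G) (o2 P) : Set G) ≤ M) :
    LowT S (o2 P) M (centralizer ({c} : Set G)) := by
  refine lowT_of_off h lt hc hcf fun T Y hT hB hP hYc hch hl hK hZ hM => ?_
  obtain ⟨g, hg, hle, -⟩ := OM.SwapT.QuietL.exists_norm_B h.wc h.levQ hT.2.1 hB
  have hgc : g * c = c * g := OM.SwapT.comm_of_supp lt hg hc fun i j _ =>
    ⟨fun h1 => absurd h1 (hcf i), fun h1 => absurd h1 (hcf j)⟩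
  refine ho.gen h (OM.SwapT.QuietL.S_le h.wc hN)
    ((centralizer_le (by exact_mod_cast fun x hx => lt.fr.ZJV hx)).trans hD) hN hT hB
    (T₁ := cj g (S : Subgroup G)) (isPGroup_cj g S.isPGroup') hle hP hch hl hK ?_ hM
  intro y hy
  rw [mem_centralizer_iff]
  intro z hz
  rw [SetLike.mem_coe, NO3S.Level.zc_cj, mem_cj] at hz
  obtain ⟨n, hn⟩ := mem_zpowers_iff.1 (hzS hz)
  have h1 : z = c ^ n := by
    have h2 : z = g * (g⁻¹ * z * g) * g⁻¹ := by group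
    have h3 : Commute g (c ^ n) := (show Commute g c from hgc).zpow_right n
    rw [h2, ← hn, h3.eq]
    group
  have h4 : Commute y c := mem_centralizer_singleton_iff.1 (hYc hy)
  rw [h1]
  exact (h4.zpow_right n).eq.symm

/-- **The three sockets of THEOREM SW** (`OM/SwapT/Plug.lean`, `noOm`) from THEOREM QW. -/
theorem sockets (h : CaseL S P) (lt : Lt S P (o2 P) L W Z C A 2) {c : G}
    (hc : c ∈ ZT (S : Subgroup G) (o2 P)) (hcf : ∀ i, c ∉ C i) (hzS : zc (S : Subgroup G) ≤ zpowers c)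
    {M : Subgroup G} (ho : OM.SwapT.QuietL.OffW S P M)
    (hD : centralizer (ZT (S : Subgroup G) (o2 P) : Set G) ≤ M)
    (hN : normalizer (BT (S : Subgroup G) (o2 P) : Set G) ≤ M) :
    LowT S (o2 P) M (centralizer ({c} : Set G)) ∧ OM.SwapT.QFix S (o2 P) M (centralizer ({c} : Set G)) ∧
      OM.SwapT.QFam S P (o2 P) M (centralizer ({c} : Set G)) :=
  ⟨lowT_of_offW h lt hc hcf hzS ho hD hN,
    OM.SwapT.QuietL.qFix_of h ho hD (fun _ hx => lt.fr.ZJV hx) hN _,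
    OM.SwapT.QuietL.qFam_of h ho hD (fun _ hx => lt.fr.ZJV hx) hN _⟩

open Cfsg.Agent.Omega.NO3S.WY (WY) in
/-- **THEOREM LAMBDA**, weird parabolics of the frame `WY` inside `C_G(Z)`, `Z = Ω₁Z(S)`. -/
theorem false_of_wy (h : CaseL S P) (lt : Lt S P (o2 P) L W Z C A 2) (hw : WY S P T Y)
    (hB : BT (S : Subgroup G) (o2 P) ≤ T) (hl : lim (S : Subgroup G) ≤ o2 Y)
    (hYZ : Y ≤ centralizer (zc (S : Subgroup G) : Set G))
    (hoff : ∃ A, A ≤ T ∧ Best (VF S P Y) A ∧ ¬ A ≤ o2 Y) : False := by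
  obtain ⟨c, hc, hcf⟩ := OM.SwapT.exists_full lt
  have hBS : BT (S : Subgroup G) (o2 P) ≤ (S : Subgroup G) := (OM.SwapT.lb h.wc).BS
  have hcS : c ∈ zc (S : Subgroup G) := mem_zc.2 ⟨hBS ((OM.SwapT.lb h.wc).ZB hc), (OM.SwapT.lb h.wc).sq c hc,
    fun s hs => OM.SwapT.full_cent lt hc hcf S.isPGroup' hBS hs⟩
  exact hw.mv (low_off h lt hc hcf hw.syl hB hw.min
    (hYZ.trans (centralizer_le (Set.singleton_subset_iff.2 hcS))) hw.c2 hl hoff)

open Cfsg.Agent.Omega.NO3S.WY (WY) in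
/-- **`LamH`** (the socket of `Node/OmXOf.lean`): weird parabolics `Y ≤ C_G(Z)` lie in `M`. -/
theorem le_of_offW (h : CaseL S P) (lt : Lt S P (o2 P) L W Z C A 2) {M : Subgroup G}
    (ho : OM.SwapT.QuietL.OffW S P M) (hw : WY S P T Y) (hB : BT (S : Subgroup G) (o2 P) ≤ T)
    (hl : lim (S : Subgroup G) ≤ o2 Y) (hYZ : Y ≤ centralizer (zc (S : Subgroup G) : Set G)) : Y ≤ M := by
  by_contra hM
  exact false_of_wy h lt hw hB hl hYZ (ho T Y hw.toWQ hB hl hYZ hM)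

end Cfsg.Agent.Omega.NO3S.CaseLW.Lam
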