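import Cfsg.Agent.Omega.OM.Lev.Uni
import Cfsg.Agent.Omega.OM.WeakCl
import Cfsg.Agent.MinSimple.Basic

/-!
# THEOREM QW, (2') for every `q` (helper866 #24897, helper276 #25131, helper360 #25134)

`FrL B Q V X ZJ L W Z C A q` (at least two blocks), `B` weakly closed, `N_G(B) ≤ N_G(X)`, `z ∈ Z_J` of full support with
`V ≤ O₂(C_G(z))`. Then `W j ≤ O₂(C_G(z c))` for every `c ∈ Z j`:

* the `j`-component of `z c` is not trivial: `z c = z^g`, `g ∈ L j`;
* the `j`-component of `z c` is trivial: a Sylow 2-subgroup `T ≥ B` of `C_G(z c)` normalises `B`, so it permutes the `Z i` and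
  fixes `Z j`; it fixes some `1 ≠ d ∈ Z j`, `d ∈ Z(O₂(C_G(z c)))`, and `L j ≤ C_G(z c)`.
-/

set_option autoImplicit false
set_option linter.unusedSectionVars false

namespace Cfsg.Agent.Omega.NO3S.CaseLW.QWoFr

open Subgroup Cfsg Cfsg.Agent.PLocal.ThompsonJ Cfsg.Agent.ZN Cfsg.Agent.ZN.ChoiceBase
open Cfsg.Agent.Omega.SQ1.Bau (mem_sup_comm card_sup_comm elem_comm elem_sq)
open Cfsg.Agent.Omega.OM.BlockUniq Cfsg.Agent.Omega.OM.Uni Cfsg.Agent.Omega.OM.Lev.Uni
open Cfsg.Agent.ZN.ChoiceSit (Syl exists_syl o2_le_syl)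
open Cfsg.Agent.MinSimple.VModule (o2_isPGroup)

universe u

variable {G : Type u} [Group G] [Finite G] {ι : Type*} {B Q V X ZJ : Subgroup G} {L W Z C A : ι → Subgroup G} {q : ℕ}

/-- a 2-group normalising a nontrivial 2-group fixes a nontrivial element -/
theorem exists_fix {U N : Subgroup G} (hU : IsPGroup 2 U) (hn : ∀ u ∈ U, ∀ n ∈ N, u * n * u⁻¹ ∈ N)
    (hN : 2 ∣ Nat.card N) : ∃ v ∈ N, v ≠ 1 ∧ ∀ u ∈ U, u * v * u⁻¹ = v := by
  have : Fact (Nat.Prime 2) := ⟨Nat.prime_two⟩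
  let act : MulAction U N :=
    { smul := fun u n => ⟨(u : G) * n * (u : G)⁻¹, hn u u.2 n n.2⟩
      one_smul := fun n => Subtype.ext (by
        change (1 : G) * n * (1 : G)⁻¹ = n
        group)
      mul_smul := fun a b n => Subtype.ext (by
        change ((a : G) * b) * n * ((a : G) * b)⁻¹ = (a : G) * ((b : G) * n * (b : G)⁻¹) * (a : G)⁻¹
        group) }
  have hone : (1 : N) ∈ MulAction.fixedPoints U N := by
    intro u
    apply Subtype.ext
    change (u : G) * 1 * (u : G)⁻¹ = 1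
    group
  obtain ⟨v, hv, hv1⟩ := hU.exists_fixed_point_of_prime_dvd_card_of_fixed_point N hN hone
  refine ⟨v, v.2, fun h => hv1 (Subtype.ext h.symm), ?_⟩
  intro u hu
  exact congrArg Subtype.val (hv ⟨u, hu⟩)

theorem Z_ne (h : FrL B Q V X ZJ L W Z C A q) (i : ι) : ∃ z ∈ Z i, z ≠ 1 := by
  have h1 : 1 < Nat.card (Z i) := by rw [h.cardZ i]; exact (h.blk i).one
  have : Nontrivial (Z i) := Finite.one_lt_card_iff_nontrivial.1 h1
  obtain ⟨z, hz⟩ := exists_ne (1 : Z i)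
  exact ⟨z, z.2, fun h => hz (Subtype.ext h)⟩

theorem Z_C (h : FrL B Q V X ZJ L W Z C A q) {i j : ι} (hij : i ≠ j) : Z j ≤ C i :=
  (h.blk j).ZV.trans (h.WjC i j hij)

theorem not_mem_C (h : FrL B Q V X ZJ L W Z C A q) {i : ι} {z : G} (hz : z ∈ Z i) (h1 : z ≠ 1) : z ∉ C i := by
  intro hc
  have h2 : z ∈ W i ⊓ C i := mem_inf.2 ⟨(h.blk i).ZV hz, hc⟩
  rw [h.dir i, mem_bot] at h2
  exact h1 h2

/-- `Z` is injective. -/
theorem Z_inj (h : FrL B Q V X ZJ L W Z C A q) {i j : ι} (e : Z i = Z j) : i = j := by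
  by_contra hne
  obtain ⟨z, hz, hz1⟩ := Z_ne h i
  exact not_mem_C h hz hz1 (Z_C h hne (e ▸ hz))

theorem two_dvd (h : FrL B Q V X ZJ L W Z C A q) (i : ι) : 2 ∣ Nat.card (Z i) := by
  obtain ⟨z, hz, hz1⟩ := Z_ne h i
  have h2 : z ^ 2 = 1 := elem_sq h.elX z (h.VX (h.ZV i hz))
  have h3 : orderOf (⟨z, hz⟩ : Z i) = 2 := by
    rw [orderOf_eq_prime_iff]
    exact ⟨Subtype.ext h2, fun h4 => hz1 (congrArg Subtype.val h4)⟩
  rw [← h3]
  exact orderOf_dvd_natCard _

/-- an element of `Z_J` is in the product of the `Z i` over its support -/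
theorem mem_sup_supp (h : FrL B Q V X ZJ L W Z C A q) [Finite ι] (s : Finset ι) :
    ∀ x ∈ ZJ, (∀ i, i ∉ s → x ∈ C i) → x ∈ ⨆ i ∈ s, Z i := by
  classical
  induction s using Finset.induction_on with
  | empty =>
    intro x hx hs
    rw [h.C0 x (h.ZJV hx) fun i => hs i (Finset.notMem_empty i)]
    exact one_mem _
  | insert a s ha ih =>
    intro x hx hs
    obtain ⟨w, hw, c, hc, hcJ, e⟩ := h.split_ZJ a hx
    have h1 : c ∈ ⨆ i ∈ s, Z i := by
      refine ih c hcJ fun i hi => ?_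
      by_cases hia : i = a
      · rw [hia]; exact hc
      · have h2 : x ∈ C i := hs i (by
          rw [Finset.mem_insert]
          push Not
          exact ⟨hia, hi⟩)
        have h3 : w ∈ C i := Z_C h hia hw
        have h4 : c = w⁻¹ * x := by rw [e]; group
        rw [h4]
        exact mul_mem (inv_mem h3) h2
    rw [e]
    refine mul_mem ?_ ?_
    · exact (le_iSup₂_of_le (f := fun i (_ : i ∈ insert a s) => Z i) a (Finset.mem_insert_self a s) le_rfl) hw
    · refine (iSup₂_le fun i hi => ?_ : (⨆ i ∈ s, Z i) ≤ _) h1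
      exact le_iSup₂_of_le (f := fun i (_ : i ∈ insert a s) => Z i) i (Finset.mem_insert_of_mem hi) le_rfl

/-- an element permuting the `Z i` permutes the supports -/
theorem supp_cj (h : FrL B Q V X ZJ L W Z C A q) [Finite ι] {g : G} (hg : ∀ i, ∃ j, cj g (Z i) = Z j) {i j : ι}
    (e : cj g (Z j) = Z i) {x : G} (hx : x ∈ ZJ) (hxj : x ∈ C j) : g * x * g⁻¹ ∈ C i := by
  classical
  cases nonempty_fintype ι
  have h1 : x ∈ ⨆ l ∈ (Finset.univ.erase j), Z l := by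
    refine mem_sup_supp h _ x hx fun l hl => ?_
    rw [Finset.mem_erase] at hl
    push Not at hl
    by_cases hlj : l = j
    · rw [hlj]; exact hxj
    · exact absurd (Finset.mem_univ l) (hl hlj)
  have h2 : (⨆ l ∈ (Finset.univ.erase j), Z l) ≤ (C i).comap (MulAut.conj g).toMonoidHom := by
    refine iSup₂_le fun l hl => ?_
    rw [Finset.mem_erase] at hl
    intro y hy
    obtain ⟨m, hm⟩ := hg l
    have hmi : m ≠ i := by
      intro h3
      rw [h3, ← e] at hm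
      have h4 : Z l = Z j := by
        have := congrArg (cj g⁻¹) hm
        rwa [cj_inv_cj, cj_inv_cj] at this
      exact hl.1 (Z_inj h h4)
    rw [mem_comap]
    change g * y * g⁻¹ ∈ C i
    exact Z_C h hmi.symm (by rw [← hm]; exact ⟨y, hy, rfl⟩)
  exact h2 h1

theorem Z_conj (h : FrL B Q V X ZJ L W Z C A q) {j : ι} {x y : G} (hx : x ∈ Z j) (hy : y ∈ Z j) (hx1 : x ≠ 1)
    (hy1 : y ≠ 1) : ∃ l ∈ L j, l * x * l⁻¹ = y := by
  obtain ⟨k, hk, hne⟩ := h.exists_mv j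
  have key : ∀ t ∈ Z j, t ∈ centralizer (L j : Set G) → t = 1 := by
    intro t ht htc
    have h1 : t ∈ cj k (Z j) ⊓ Z j := by
      refine mem_inf.2 ⟨?_, ht⟩
      rw [mem_cj]
      have h2 := mem_centralizer_iff.1 htc k hk
      have h3 : k⁻¹ * t * k = t := by
        calc k⁻¹ * t * k = k⁻¹ * (t * k) := by group
          _ = k⁻¹ * (k * t) := by rw [h2]
          _ = t := by group
      rwa [h3]
    rw [h.tri' hk hne, mem_bot] at h1
    exact h1
  obtain ⟨l, hl, hlB, h1⟩ := (h.blk j).tor x hx (fun h2 => hx1 (key x hx h2)) y hy fun h2 => hy1 (key y hy h2)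
  refine ⟨l, hl, ?_⟩
  have h2 : l * x * l⁻¹ ∈ Z j := by
    refine (h.blk j).mem_Z_iff.2 ⟨(h.blk j).nV l hl x ((h.blk j).ZV hx), fun b hb => ?_⟩
    have h3 : l⁻¹ * b * l ∈ B := by
      have := (mem_normalizer_iff.1 (inv_mem hlB) b).1 hb
      rwa [inv_inv] at this
    have h4 := (h.blk j).cZ _ h3 x hx
    calc b * (l * x * l⁻¹) = l * ((l⁻¹ * b * l) * x) * l⁻¹ := by group
      _ = l * (x * (l⁻¹ * b * l)) * l⁻¹ := by rw [h4]
      _ = l * x * l⁻¹ * b := by group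
  exact mul_inv_eq_one.1 (key _ (mul_mem h2 (inv_mem hy)) h1)

/-- `W j` is generated by the conjugates of `1 ≠ d ∈ Z j` under `L j` -/
theorem W_le (h : FrL B Q V X ZJ L W Z C A q) {j : ι} {d : G} (hd : d ∈ Z j) (hd1 : d ≠ 1) {K : Subgroup G}
    (hK : ∀ l ∈ L j, l * d * l⁻¹ ∈ K) : W j ≤ K := by
  obtain ⟨k, hk, hs⟩ := (h.blk j).sup
  have h2 : ⁅W j, B⁆ ≤ Z j := (h.blk j).comm_le le_rfl
  refine hs.trans (sup_le ?_ ?_)
  · intro x hx
    by_cases hx1 : x = 1
    · rw [hx1]; exact one_mem _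
    obtain ⟨l, hl, e⟩ := Z_conj h hd (h2 hx) hd1 hx1
    rw [← e]
    exact hK l hl
  · rintro _ ⟨x, hx, rfl⟩
    change k * x * k⁻¹ ∈ K
    by_cases hx1 : x = 1
    · rw [hx1]; simp
    obtain ⟨l, hl, e⟩ := Z_conj h hd (h2 hx) hd1 hx1
    rw [← e]
    have h3 := hK (k * l) (mul_mem hk hl)
    have e2 : k * (l * d * l⁻¹) * k⁻¹ = k * l * d * (k * l)⁻¹ := by group
    rwa [e2]

/-- conjugation of `O₂(C_G(r))` -/
theorem o2_cj {r r' d x : G} (h : d * r * d⁻¹ = r') (hx : x ∈ o2 (centralizer ({r} : Set G))) :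
    d * x * d⁻¹ ∈ o2 (centralizer ({r'} : Set G)) := by
  have e1 : cj d (centralizer ({r} : Set G)) = centralizer ({r'} : Set G) := by
    ext x
    rw [mem_cj, mem_centralizer_singleton_iff, mem_centralizer_singleton_iff, ← h]
    constructor
    · intro h1
      calc x * (d * r * d⁻¹) = d * (d⁻¹ * x * d * r) * d⁻¹ := by group
        _ = d * (r * (d⁻¹ * x * d)) * d⁻¹ := by rw [h1]
        _ = d * r * d⁻¹ * x := by group
    · intro h1
      calc d⁻¹ * x * d * r = d⁻¹ * (x * (d * r * d⁻¹)) * d := by group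
        _ = d⁻¹ * (d * r * d⁻¹ * x) * d := by rw [h1]
        _ = r * (d⁻¹ * x * d) := by group
  have e2 : o2 (cj d (centralizer ({r} : Set G))) = cj d (o2 (centralizer ({r} : Set G))) :=
    ZN.o2_map _ (MulAut.conj d).injective _
  rw [← e1, e2, mem_cj]
  have e3 : d⁻¹ * (d * x * d⁻¹) * d = x := by group
  rw [e3]
  exact hx

variable [Finite ι]

/-- **(2'), the `j`-component of `e` is trivial, the others are not.** -/
theorem le_o2_zero (h : FrL B Q V X ZJ L W Z C A q) (hG : IsCharacteristicTwoType G) (hB : IsPGroup 2 B)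
    (wc : ∀ R : Subgroup G, IsPGroup 2 R → B ≤ R → R ≤ normalizer (B : Set G))
    (hX : normalizer (B : Set G) ≤ normalizer (X : Set G)) {e : G} (he : e ∈ ZJ) (he1 : e ≠ 1) {j : ι} (hej : e ∈ C j)
    (hf : ∀ i, i ≠ j → e ∉ C i) : W j ≤ o2 (centralizer ({e} : Set G)) := by
  set H : Subgroup G := centralizer ({e} : Set G) with hH
  have hBH : B ≤ H := fun b hb => mem_centralizer_singleton_iff.2 (((h.mem_ZJ e).1 he).2 b hb)
  have hLH : L j ≤ H := fun l hl => mem_centralizer_singleton_iff.2 (h.LC j l hl e he hej)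
  obtain ⟨T, hT, hBT⟩ := exists_syl hB hBH
  have hTB := wc T hT.2.1 hBT
  have hTZ : ∀ t ∈ T, cj t (Z j) = Z j := by
    intro t ht
    obtain ⟨-, hp⟩ := h.norm_of (hTB ht) (hX (hTB ht))
    obtain ⟨i, hi, -⟩ := hp j
    have h1 : t * e * t⁻¹ ∈ C i := supp_cj h (fun i => (hp i).imp fun m hm => hm.1) hi he hej
    have h2 : t * e * t⁻¹ = e := mul_inv_eq_iff_eq_mul.2 (mem_centralizer_singleton_iff.1 (hT.1 ht))
    rw [h2] at h1
    by_cases hij : i = j
    · rw [hi, hij]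
    · exact absurd h1 (hf i hij)
  obtain ⟨d, hd, hd1, hdT⟩ := exists_fix hT.2.1 (fun t ht n hn => by
    rw [← hTZ t ht]; exact ⟨n, hn, rfl⟩) (two_dvd h j)
  have he2 : e ^ 2 = 1 := elem_sq h.elX e (h.VX (h.ZJV he))
  have hdB : d ∈ B := h.QB (h.VQ (h.ZV j hd))
  have hdO : d ∈ o2 H := by
    refine MinSimple.Basic.char2_centralizer hG he2 he1 (mem_inf.2 ⟨hBH hdB, mem_centralizer_iff.2 fun x hx => ?_⟩)
    exact mul_inv_eq_iff_eq_mul.1 (hdT x (o2_le_syl hT hx))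
  refine W_le h hd hd1 fun l hl => ?_
  have h1 : H ≤ normalizer (o2 H : Set G) := ZN.le_normalizer_o2 _
  exact (mem_normalizer_iff.1 (h1 (hLH hl)) d).1 hdO

/-- **(2') for every `q`** : `W j ≤ O₂(C_G(z c))`, `c ∈ Z j`, `z` of full support, `V ≤ O₂(C_G(z))`. -/
theorem le_o2_q (h : FrL B Q V X ZJ L W Z C A q) (hG : IsCharacteristicTwoType G) (hB : IsPGroup 2 B)
    (wc : ∀ R : Subgroup G, IsPGroup 2 R → B ≤ R → R ≤ normalizer (B : Set G))
    (hX : normalizer (B : Set G) ≤ normalizer (X : Set G)) (two : ∀ i : ι, ∃ j, j ≠ i) {z : G} (hz : z ∈ ZJ)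
    (hf : ∀ i, z ∉ C i) (hVo : V ≤ o2 (centralizer ({z} : Set G))) (j : ι) {c : G} (hc : c ∈ Z j) :
    W j ≤ o2 (centralizer ({z * c} : Set G)) := by
  have hzc : z * c ∈ ZJ := mul_mem hz (h.Z_le j hc)
  by_cases hj : z * c ∈ C j
  · have hf' : ∀ i, i ≠ j → z * c ∉ C i := by
      intro i hij h1
      apply hf i
      have h2 := mul_mem h1 (inv_mem (Z_C h hij hc))
      rwa [mul_inv_cancel_right] at h2
    refine le_o2_zero h hG hB wc hX hzc (fun h1 => ?_) hj hf'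
    obtain ⟨i, hi⟩ := two j
    exact hf' i hi (by rw [h1]; exact one_mem _)
  · obtain ⟨w, hw, c', hc', hcJ, e⟩ := h.split_ZJ j hz
    have hw1 : w ≠ 1 := fun h1 => hf j (by rw [e, h1, one_mul]; exact hc')
    have hcomm : c' * c = c * c' := h.Vc (h.CV j hc') (h.ZV j hc)
    have hwc1 : w * c ≠ 1 := fun h1 => hj (by
      have e2 : z * c = w * c * c' := by rw [e, mul_assoc, hcomm, mul_assoc]
      rw [e2, h1, one_mul]
      exact hc')
    obtain ⟨l, hl, e3⟩ := Z_conj h hw (mul_mem hw hc) hw1 hwc1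
    have e4 : l * z * l⁻¹ = z * c := by
      have h1 := h.LC j l hl c' hcJ hc'
      calc l * z * l⁻¹ = (l * w * l⁻¹) * (l * c' * l⁻¹) := by rw [e]; group
        _ = (w * c) * c' := by rw [e3, h1]; group
        _ = z * c := by rw [e, mul_assoc, ← hcomm, mul_assoc]
    intro x hx
    have h2 : l⁻¹ * x * l ∈ W j := by
      have := (h.blk j).nV l⁻¹ (inv_mem hl) x hx
      rwa [inv_inv] at this
    have h3 := o2_cj e4 (hVo (h.WV j h2))
    have e5 : l * (l⁻¹ * x * l) * l⁻¹ = x := by group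
    rwa [e5] at h3

/-- (2') conjugated by `y` fixing `z`. -/
theorem le_o2_cj (h : FrL B Q V X ZJ L W Z C A q) (hG : IsCharacteristicTwoType G) (hB : IsPGroup 2 B)
    (wc : ∀ R : Subgroup G, IsPGroup 2 R → B ≤ R → R ≤ normalizer (B : Set G))
    (hX : normalizer (B : Set G) ≤ normalizer (X : Set G)) (two : ∀ i : ι, ∃ j, j ≠ i) {z : G} (hz : z ∈ ZJ)
    (hf : ∀ i, z ∉ C i) (hVo : V ≤ o2 (centralizer ({z} : Set G))) {y : G} (hy : y * z = z * y) (j : ι) :
    ∀ c ∈ cj y (Z j), cj y (W j) ≤ o2 (centralizer ({z * c} : Set G)) := by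
  rintro _ ⟨c, hc, rfl⟩ _ ⟨x, hx, rfl⟩
  change y * x * y⁻¹ ∈ o2 (centralizer ({z * (y * c * y⁻¹)} : Set G))
  refine o2_cj (r := z * c) ?_ (le_o2_q h hG hB wc hX two hz hf hVo j hc hx)
  calc y * (z * c) * y⁻¹ = (y * z) * c * y⁻¹ := by group
    _ = z * (y * c * y⁻¹) := by rw [hy]; group

end Cfsg.Agent.Omega.NO3S.CaseLW.QWoFr
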