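import Cfsg.Agent.Omega.NO3S.CaseLW.QWoFr

/-!
# Relative QW (helper291, OMEGA #26899), line (2): an abelian group `N` fixing the blocks centralises `Z_J` (helper276)

`FrL B Q V X ZJ L W Z C A q`, `N` abelian, `N` normalises `B` and is normalised by `B` and `V`, `N` fixes all `W i`, `Z i`.
Then `N ≤ C(Z_J)`.

Proof for the block `i`: `t ∈ N`, `w ∈ W i - Z i`, `u = t w t⁻¹ w⁻¹ ∈ N ∩ W i`. If `u ∉ Z i`, then `Z i = [u, B] ≤ N`
commutes with `t`. If `u ∈ Z i`, then `t [b, w] t⁻¹ = [b, w] [n_b, w]`, `n_b = t b t⁻¹ b⁻¹ ∈ N ∩ B`; either all `[n_b, w]`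
are trivial and `t` centralises `[B, w] = Z i`, or some `n = n_b` moves `W i` and `Z i = [n, W i] ≤ N`.
-/

set_option autoImplicit false
set_option linter.unusedSectionVars false

namespace Cfsg.Agent.Omega.NO3S.CaseLW.QWHB

open Subgroup Cfsg Cfsg.Agent.PLocal.ThompsonJ Cfsg.Agent.ZN Cfsg.Agent.ZN.ChoiceBase
open Cfsg.Agent.Omega.OM.BlockUniq Cfsg.Agent.Omega.OM.Uni Cfsg.Agent.Omega.OM.Lev.Uni
open Cfsg.Agent.Omega.NO3S.CaseLW.QWoFr

universe u

variable {G : Type u} [Group G] [Finite G] {ι : Type*} {B Q V X ZJ : Subgroup G} {L W Z C A : ι → Subgroup G} {q : ℕ}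

/-- `[A i, w] = Z i` for `w ∈ W i - Z i` -/
theorem exists_com (h : FrL B Q V X ZJ L W Z C A q) {i : ι} {w : G} (hw : w ∈ W i) (hwZ : w ∉ Z i) {c : G}
    (hc : c ∈ Z i) : ∃ b ∈ B, b * w * b⁻¹ * w⁻¹ = c := by
  obtain ⟨R, hRZ, hR, -, hcard⟩ := (h.blk i).toMd.relIndex_comm (h.AB i) hw hwZ
  have h1 := (h.A_full i).2.2
  have h2 : Nat.card R = q := by
    have h3 : 0 < Nat.card ↥(A i ⊓ centralizer (W i : Set G)) := Nat.card_pos
    exact Nat.eq_of_mul_eq_mul_right h3 (hcard.trans h1.symm)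
  have h3 : R = Z i := Subgroup.eq_of_le_of_card_ge hRZ (by rw [h2, h.cardZ i])
  obtain ⟨x, hx, e⟩ := hR c (by rw [h3]; exact hc)
  exact ⟨x, h.AB i hx, e.symm⟩

/-- `[n, W i] = Z i` for `n ∈ B` moving `W i` -/
theorem exists_com' (h : FrL B Q V X ZJ L W Z C A q) {i : ι} {n : G} (hn : n ∈ B)
    (hne : ¬ ∀ u ∈ W i, n * u = u * n) {c : G} (hc : c ∈ Z i) : ∃ v ∈ W i, n * v * n⁻¹ * v⁻¹ = c := by
  classical
  have hM := (h.blk i).toMd
  let f : W i →* G :=
    { toFun := fun v => n * (v : G) * n⁻¹ * (v : G)⁻¹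
      map_one' := by simp
      map_mul' := by
        intro x y
        have hx := hM.com n hn x x.2
        have hy := hM.com n hn y y.2
        have hnx := hM.BV hn x.2
        have hny := hM.BV hn y.2
        have e1 := hM.comm (inv_mem x.2) (hM.ZV hy)
        change n * ((x : G) * y) * n⁻¹ * ((x : G) * y)⁻¹ =
          (n * (x : G) * n⁻¹ * (x : G)⁻¹) * (n * (y : G) * n⁻¹ * (y : G)⁻¹)
        calc n * ((x : G) * y) * n⁻¹ * ((x : G) * y)⁻¹
            = (n * (x : G) * n⁻¹) * (n * (y : G) * n⁻¹ * (y : G)⁻¹) * (x : G)⁻¹ := by group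
          _ = (n * (x : G) * n⁻¹) * ((x : G)⁻¹ * (n * (y : G) * n⁻¹ * (y : G)⁻¹)) := by rw [e1]; group
          _ = _ := by group }
  have hf : ∀ v : W i, f v = n * (v : G) * n⁻¹ * (v : G)⁻¹ := fun v => rfl
  have hrange : f.range ≤ Z i := by
    rintro _ ⟨v, rfl⟩
    exact hM.com n hn v v.2
  have hker : f.ker = (Z i).subgroupOf (W i) := by
    ext v
    rw [MonoidHom.mem_ker, mem_subgroupOf, hf]
    constructor
    · intro h1
      refine hM.mem_Z hn hne v.2 ?_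
      have h2 : n * (v : G) * n⁻¹ = v := mul_inv_eq_one.1 h1
      exact mul_inv_eq_iff_eq_mul.1 h2
    · intro h1
      have h2 := hM.cZ n hn v h1
      rw [h2]; group
  have hcard : Nat.card f.range * Nat.card f.ker = Nat.card (W i) := by
    rw [mul_comm, ← Subgroup.index_ker, Subgroup.card_mul_index]
  have hkc : Nat.card f.ker = Nat.card (Z i) := by
    rw [hker]
    exact Nat.card_congr (Subgroup.subgroupOfEquivOfLe hM.ZV).toEquiv
  rw [hkc, hM.card] at hcard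
  have h0 : 0 < Nat.card (Z i) := Nat.card_pos
  have h1 : Nat.card f.range = q := by
    refine Nat.eq_of_mul_eq_mul_right h0 ?_
    rw [hcard]; ring
  have h2 : f.range = Z i := Subgroup.eq_of_le_of_card_ge hrange (by rw [h1, h.cardZ i])
  rw [← h2] at hc
  obtain ⟨v, hv⟩ := hc
  exact ⟨v, v.2, hv⟩

theorem cent_Z (h : FrL B Q V X ZJ L W Z C A q) {N : Subgroup G} (Nc : ∀ x ∈ N, ∀ y ∈ N, x * y = y * x)
    (NB : N ≤ normalizer (B : Set G)) (BN : B ≤ normalizer (N : Set G)) (VN : V ≤ normalizer (N : Set G))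
    {i : ι} (hW : ∀ t ∈ N, cj t (W i) = W i) : N ≤ centralizer (Z i : Set G) := by
  have hM := (h.blk i).toMd
  -- an element outside `Z i`
  obtain ⟨w, hw, hwZ⟩ : ∃ w ∈ W i, w ∉ Z i := by
    by_contra hcon
    push Not at hcon
    have h1 := Subgroup.card_le_of_le (show W i ≤ Z i from hcon)
    rw [hM.card] at h1
    have h2 : 0 < Nat.card (Z i) := Nat.card_pos
    have h3 := hM.one
    nlinarith
  intro t ht
  have htN : ∀ v ∈ V, t * v * t⁻¹ * v⁻¹ ∈ N := by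
    intro v hv
    have h1 := (mem_normalizer_iff.1 (VN hv) t⁻¹).1 (inv_mem ht)
    have e : t * v * t⁻¹ * v⁻¹ = t * (v * t⁻¹ * v⁻¹) := by group
    rw [e]
    exact mul_mem ht h1
  have htB : ∀ b ∈ B, t * b * t⁻¹ * b⁻¹ ∈ N ∧ t * b * t⁻¹ * b⁻¹ ∈ B := by
    intro b hb
    refine ⟨?_, mul_mem ((mem_normalizer_iff.1 (NB ht) b).1 hb) (inv_mem hb)⟩
    have h1 := (mem_normalizer_iff.1 (BN hb) t⁻¹).1 (inv_mem ht)
    have e : t * b * t⁻¹ * b⁻¹ = t * (b * t⁻¹ * b⁻¹) := by group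
    rw [e]
    exact mul_mem ht h1
  have fin : Z i ≤ N → t ∈ centralizer (Z i : Set G) := fun hZN =>
    mem_centralizer_iff.2 fun z hz => Nc z (hZN hz) t ht
  have hwt : t * w * t⁻¹ ∈ W i := by
    rw [← hW t ht]
    exact ⟨w, hw, rfl⟩
  set u := t * w * t⁻¹ * w⁻¹ with hu
  have huW : u ∈ W i := mul_mem hwt (inv_mem hw)
  have huN : u ∈ N := htN w (h.WV i hw)
  by_cases huZ : u ∈ Z i
  · by_cases hall : ∀ b ∈ B, t * b * t⁻¹ * b⁻¹ * w * (t * b * t⁻¹ * b⁻¹)⁻¹ * w⁻¹ = 1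
    · refine mem_centralizer_iff.2 fun c hc => ?_
      obtain ⟨b, hb, rfl⟩ := exists_com h hw hwZ hc
      set n := t * b * t⁻¹ * b⁻¹ with hn
      obtain ⟨hnN, hnB⟩ := htB b hb
      set d := b * w * b⁻¹ * w⁻¹ with hd
      have hdZ : d ∈ Z i := hM.com b hb w hw
      have htb : t * b * t⁻¹ = n * b := by rw [hn]; group
      have htw : t * w * t⁻¹ = u * w := by rw [hu]; group
      have hnw : n * w * n⁻¹ = w := mul_inv_eq_one.1 (hall b hb)
      have hnbB : n * b ∈ B := mul_mem hnB hb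
      have e1 : t * d * t⁻¹ = d := by
        have cu := hM.cZ (n * b) hnbB u huZ
        have cn := hM.cZ n hnB d hdZ
        have cud := hM.comm (hM.ZV huZ) (hM.ZV hdZ)
        calc t * d * t⁻¹ = (t * b * t⁻¹) * (t * w * t⁻¹) * (t * b * t⁻¹)⁻¹ * (t * w * t⁻¹)⁻¹ := by
              rw [hd]; group
          _ = (n * b) * (u * w) * (n * b)⁻¹ * (u * w)⁻¹ := by rw [htb, htw]
          _ = (n * b * u) * w * (n * b)⁻¹ * w⁻¹ * u⁻¹ := by group
          _ = u * (n * (b * w * b⁻¹ * w⁻¹) * w * n⁻¹ * w⁻¹) * u⁻¹ := by rw [cu]; group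
          _ = u * ((n * d) * w * n⁻¹ * w⁻¹) * u⁻¹ := by rw [← hd]
          _ = u * (d * (n * w * n⁻¹) * w⁻¹) * u⁻¹ := by rw [cn]; group
          _ = u * d * u⁻¹ := by rw [hnw]; group
          _ = d := by rw [cud]; group
      exact (mul_inv_eq_iff_eq_mul.1 e1).symm
    · push Not at hall
      obtain ⟨b, hb, hne⟩ := hall
      obtain ⟨hnN, hnB⟩ := htB b hb
      set n := t * b * t⁻¹ * b⁻¹ with hn
      refine fin fun c hc => ?_
      obtain ⟨v, hv, rfl⟩ := exists_com' h hnB (fun h1 => hne (by rw [h1 w hw]; group)) hc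
      have h1 := (mem_normalizer_iff.1 (VN (h.WV i hv)) n⁻¹).1 (inv_mem hnN)
      have e : n * v * n⁻¹ * v⁻¹ = n * (v * n⁻¹ * v⁻¹) := by group
      rw [e]
      exact mul_mem hnN h1
  · refine fin fun c hc => ?_
    obtain ⟨b, hb, rfl⟩ := exists_com h huW huZ hc
    exact mul_mem ((mem_normalizer_iff.1 (BN hb) u).1 huN) (inv_mem huN)

/-- **line (2)** : `N ≤ C(Z_J)` -/
theorem cent_ZJ [Finite ι] (h : FrL B Q V X ZJ L W Z C A q) {N : Subgroup G}
    (Nc : ∀ x ∈ N, ∀ y ∈ N, x * y = y * x) (NB : N ≤ normalizer (B : Set G)) (BN : B ≤ normalizer (N : Set G))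
    (VN : V ≤ normalizer (N : Set G)) (hW : ∀ t ∈ N, ∀ i, cj t (W i) = W i) : N ≤ centralizer (ZJ : Set G) := by
  classical
  cases nonempty_fintype ι
  intro t ht
  have h1 : ZJ ≤ centralizer (zpowers t : Set G) := by
    intro x hx
    have h2 := mem_sup_supp h Finset.univ x hx fun i hi => absurd (Finset.mem_univ i) hi
    refine (iSup₂_le fun i _ => ?_ : (⨆ i ∈ (Finset.univ : Finset ι), Z i) ≤ _) h2
    rw [le_centralizer_iff, zpowers_le]
    exact cent_Z h Nc NB BN VN (fun s hs => hW s hs i) ht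
  rw [le_centralizer_iff, zpowers_le] at h1
  exact h1

end Cfsg.Agent.Omega.NO3S.CaseLW.QWHB
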