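import Cfsg.Agent.Omega.ML.GMod
import Cfsg.Agent.Omega.HOneTwo.BSTrick
import Cfsg.Agent.ZN.Facts

/-!
# THEOREM QW (helper866, #24897), steps (2'), (2), (3)

The quiet weird `Y` of the case (L), `q = 2`.  `M` is a 2-local over `S`, `Z_M = ⟨Z^M⟩ = zl S M`, `Z = ⟨z⟩`.

* `Tv N c w` : `w` induces `1` or the transvection with centre `c` on `N`;
* `false_of_tv` : the Baer-Suzuki argument of (2);
* `le_o2` : **(2')** `W_e ≤ O₂(C_G(z z_e))`;
* `cent_zl` : **(2)** `Z_M` centralises `U` ((ML) and `false_of_tv`);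
* `le_o2_M` : **(3)** `U ≤ O₂(M)`.
-/

set_option autoImplicit false

namespace Cfsg.Agent.Omega.NO3S.CaseLW.QW

open Subgroup Cfsg Cfsg.Agent.ZN Cfsg.Agent.Omega.MinPar
open Cfsg.Agent.MinSimple.VModule (o2_isPGroup)
open Cfsg.Agent.Omega.HOne.TvHSide (le_normalizer_of le_normalizer_inf_centralizer red_of)
open Cfsg.Agent.Omega.ML.Final (MLK)
open Cfsg.Agent.Omega.ML.GMod (ZD)

universe u

variable {G : Type u} [Group G]

/-- `w` induces `1` or the transvection with centre `c` on `N`. -/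
structure Tv (N : Subgroup G) (c w : G) : Prop where
  tv : ∀ x ∈ N, w * x * w⁻¹ = x ∨ w * x * w⁻¹ = x * c
  cc : w * c = c * w

/-- `(a b)^4` centralises `N` if the centre of `b` lies in the axis of `a`. -/
theorem pow_four {N : Subgroup G} (hsq : ∀ x ∈ N, x * x = 1) (hcm : ∀ x ∈ N, ∀ y ∈ N, x * y = y * x)
    {a b c d : G} (hc : c ∈ N) (hd : d ∈ N) (ha : Tv N c a) (hb : Tv N d b) (had : a * d = d * a) :
    (a * b) ^ 4 ∈ centralizer (N : Set G) := by
  set f := MulAut.conj (a * b) with hf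
  have e1 : ∀ n : G, f n = a * (b * n * b⁻¹) * a⁻¹ := fun n => by
    rw [hf, MulAut.conj_apply]; group
  have had' : a * d * a⁻¹ = d := by rw [had, mul_assoc, mul_inv_cancel, mul_one]
  have hac' : a * c * a⁻¹ = c := by rw [ha.cc, mul_assoc, mul_inv_cancel, mul_one]
  have hbd' : b * d * b⁻¹ = d := by rw [hb.cc, mul_assoc, mul_inv_cancel, mul_one]
  have hmul : ∀ x y : G, a * (x * y) * a⁻¹ = (a * x * a⁻¹) * (a * y * a⁻¹) := fun x y => by group
  have hfd : f d = d := by rw [e1, hbd', had']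
  have hfc : f c = c ∨ f c = c * d := by
    rw [e1]
    rcases hb.tv c hc with h1 | h1
    · rw [h1]; exact Or.inl hac'
    · rw [h1, hmul, hac', had']; exact Or.inr rfl
  have hn : ∀ n ∈ N, f n = n ∨ f n = n * c ∨ f n = n * d ∨ f n = n * c * d := by
    intro n hn
    rw [e1]
    rcases hb.tv n hn with h1 | h1
    · rw [h1]
      rcases ha.tv n hn with h2 | h2
      · exact Or.inl h2
      · exact Or.inr (Or.inl h2)
    · rw [h1, hmul, had']
      rcases ha.tv n hn with h2 | h2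
      · rw [h2]; exact Or.inr (Or.inr (Or.inl rfl))
      · rw [h2]; exact Or.inr (Or.inr (Or.inr rfl))
  have k1 : ∀ x : G, x * c * c = x := fun x => by rw [mul_assoc, hsq c hc, mul_one]
  have k2 : ∀ x : G, x * d * d = x := fun x => by rw [mul_assoc, hsq d hd, mul_one]
  have k3 : ∀ x : G, x * d * c = x * c * d := fun x => by rw [mul_assoc, hcm d hd c hc, ← mul_assoc]
  have h2 : ∀ n ∈ N, f (f n) = n ∨ f (f n) = n * d := by
    intro n hnN
    rcases hn n hnN with h1 | h1 | h1 | h1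
    · rw [h1, h1]; exact Or.inl rfl
    · rw [h1, map_mul, h1]
      rcases hfc with h2 | h2
      · rw [h2, k1]; exact Or.inl rfl
      · rw [h2, ← mul_assoc, k1]; exact Or.inr rfl
    · rw [h1, map_mul, h1, hfd, k2]; exact Or.inl rfl
    · rw [h1, map_mul, map_mul, h1, hfd]
      rcases hfc with h2 | h2
      · rw [h2, k3, k1, k2]; exact Or.inl rfl
      · rw [h2, ← mul_assoc, k3, k1, k2]; exact Or.inr rfl
  have h4 : ∀ n ∈ N, f (f (f (f n))) = n := by
    intro n hnN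
    rcases h2 n hnN with h3 | h3
    · rw [h3, h3]
    · rw [h3, map_mul, map_mul, hfd, hfd, h3, mul_assoc, hsq d hd, mul_one]
  refine mem_centralizer_iff.2 fun n hnN => ?_
  have h5 : (MulAut.conj ((a * b) ^ 4)) n = n := by
    rw [map_pow, pow_succ, pow_succ, pow_succ, pow_one]
    exact h4 n hnN
  rw [MulAut.conj_apply, mul_inv_eq_iff_eq_mul] at h5
  exact h5.symm

/-- two involutions in a common 2-group -/
theorem common' {A : Subgroup G} {u w : G} (hA : IsPGroup 2 A) (hu : u ∈ A) (hww : w * w = 1)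
    (hAn : ∀ a ∈ A, w * a * w⁻¹ ∈ A) : ∃ k : ℕ, (u * w) ^ 2 ^ k = 1 := by
  have h1 : zpowers w ≤ normalizer (A : Set G) := by
    rw [zpowers_le, mem_normalizer_iff]
    intro x
    refine ⟨fun hx => hAn x hx, fun hx => ?_⟩
    have hwi : w⁻¹ = w := inv_eq_of_mul_eq_one_left hww
    have h2 := hAn _ hx
    have e : w * (w * x * w⁻¹) * w⁻¹ = (w * w) * x * (w⁻¹ * w⁻¹) := by group
    rw [e, hwi, hww, one_mul, mul_one] at h2
    exact h2
  have h2 : IsPGroup 2 (zpowers w) := MinSimple.Basic.isPGroup_zpowers (by rw [sq]; exact hww)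
  have h3 := IsPGroup.to_sup_of_normal_right' h2 hA h1
  obtain ⟨k, hk⟩ := h3 ⟨u * w, mul_mem (mem_sup_right hu) (mem_sup_left (mem_zpowers w))⟩
  exact ⟨k, congrArg Subtype.val hk⟩

section fin

variable [Finite G]

/-- **Baer-Suzuki for an involution of `H` acting on `NN`**, strong form. -/
theorem exists_odd {H NN : Subgroup G} (hNH : H ≤ normalizer (NN : Set G))
    (hred : ∀ K : Subgroup G, K ≤ H → H ≤ normalizer (K : Set G) →
      (∀ x ∈ K, ∃ k : ℕ, x ^ 2 ^ k ∈ centralizer (NN : Set G)) → K ≤ centralizer (NN : Set G))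
    {u : G} (hu : u ∈ H) (huu : u * u = 1) (hun : u ∉ centralizer (NN : Set G)) :
    ∃ h ∈ H, ∀ k : ℕ, (u * (h * u * h⁻¹)) ^ 2 ^ k ∉ centralizer (NN : Set G) := by
  have hCH := le_normalizer_inf_centralizer hNH
  set C : Subgroup G := H ⊓ centralizer (NN : Set G) with hC
  have hn : (C.subgroupOf H).Normal := normal_subgroupOf_of_le_normalizer hCH
  set f := QuotientGroup.mk' (C.subgroupOf H) with hf
  have hf1 : ∀ y : H, f y = 1 ↔ (y : G) ∈ C := by
    intro y
    exact QuotientGroup.eq_one_iff (N := C.subgroupOf H) y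
  set a := f ⟨u, hu⟩ with ha
  have haa : a * a = 1 := by
    rw [ha, ← map_mul]
    have : (⟨u, hu⟩ : H) * ⟨u, hu⟩ = 1 := Subtype.ext huu
    rw [this, map_one]
  obtain ⟨g, hg1, hgo, hgi⟩ := Involutions.BaerSuzuki.exists_odd_inverted a haa (by
    intro h1
    have h2 := hred (((normalClosure {a}).comap f).map H.subtype) (map_subtype_le _) ?_ ?_
    · have h3 : u ∈ ((normalClosure {a}).comap f).map H.subtype :=
        ⟨⟨u, hu⟩, subset_normalClosure rfl, rfl⟩
      exact hun (h2 h3)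
    · refine le_normalizer_of ?_
      rintro x hx _ ⟨y, hy, rfl⟩
      refine ⟨⟨x, hx⟩ * y * ⟨x, hx⟩⁻¹, ?_, rfl⟩
      change f _ ∈ normalClosure {a}
      rw [map_mul, map_mul, map_inv]
      exact normalClosure_normal.conj_mem _ hy _
    · rintro _ ⟨y, hy, rfl⟩
      obtain ⟨k, hk⟩ := h1 ⟨f y, hy⟩
      refine ⟨k, ?_⟩
      have h2 : f (y ^ 2 ^ k) = 1 := by
        rw [map_pow]
        exact congrArg Subtype.val hk
      exact ((hf1 _).1 h2).2)
  obtain ⟨⟨h, hh⟩, rfl⟩ := QuotientGroup.mk'_surjective (C.subgroupOf H) g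
  refine ⟨h, hh, fun k hk' => hg1 ?_⟩
  have hainv : a⁻¹ = a := inv_eq_of_mul_eq_one_left haa
  have h3 : f ((⟨u, hu⟩ : H) * (⟨h, hh⟩ * ⟨u, hu⟩ * ⟨h, hh⟩⁻¹)) = (f ⟨h, hh⟩)⁻¹ ^ 2 := by
    rw [map_mul, map_mul, map_mul, map_inv, ← ha]
    change a * (f ⟨h, hh⟩ * a * (f ⟨h, hh⟩)⁻¹) = _
    calc a * (f ⟨h, hh⟩ * a * (f ⟨h, hh⟩)⁻¹) = a * f ⟨h, hh⟩ * a * (f ⟨h, hh⟩)⁻¹ := by group
      _ = a * f ⟨h, hh⟩ * a⁻¹ * (f ⟨h, hh⟩)⁻¹ := by rw [hainv]
      _ = (f ⟨h, hh⟩)⁻¹ * (f ⟨h, hh⟩)⁻¹ := by rw [hgi]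
      _ = _ := by rw [sq]
  have h4 : f (((⟨u, hu⟩ : H) * (⟨h, hh⟩ * ⟨u, hu⟩ * ⟨h, hh⟩⁻¹)) ^ 2 ^ k) = 1 := by
    refine (hf1 _).2 ⟨?_, ?_⟩
    · exact Subtype.prop _
    · exact hk'
  have h5 : (f ⟨h, hh⟩) ^ 2 ^ (k + 1) = 1 := by
    rw [map_pow, h3, ← pow_mul, inv_pow, inv_eq_one] at h4
    rw [pow_succ, mul_comm]
    exact h4
  have h6 : orderOf (f ⟨h, hh⟩) ∣ 2 ^ (k + 1) := orderOf_dvd_of_pow_eq_one h5
  have h7 : Nat.Coprime (orderOf (f ⟨h, hh⟩)) (2 ^ (k + 1)) :=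
    Nat.Coprime.pow_right _ (Nat.coprime_two_right.2 hgo)
  exact orderOf_eq_one_iff.1 (h7.eq_one_of_dvd h6)

/-- **The Baer-Suzuki argument of (2).** -/
theorem false_of_tv {M N : Subgroup G} (hMN : M ≤ normalizer (N : Set G)) (hsq : ∀ x ∈ N, x * x = 1)
    (hred : ∀ K : Subgroup G, K ≤ M → M ≤ normalizer (K : Set G) →
      (∀ x ∈ K, ∃ k : ℕ, x ^ 2 ^ k ∈ centralizer (N : Set G)) → K ≤ centralizer (N : Set G))
    {w c z : G} (hw : w ∈ M) (hww : w * w = 1) (hwn : w ∉ centralizer (N : Set G)) (hT : Tv N c w) (hz : z ∈ N)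
    {A A' : Subgroup G} (hA : IsPGroup 2 A) (hwA : w ∈ A)
    (hAn : ∀ x ∈ M, x * z = z * x → ∀ a ∈ A, x * a * x⁻¹ ∈ A)
    (hA' : IsPGroup 2 A') (hwA' : w ∈ A')
    (hAn' : ∀ x ∈ M, x * (z * c) = z * c * x → ∀ a ∈ A', x * a * x⁻¹ ∈ A') : False := by
  have hcm : ∀ x ∈ N, ∀ y ∈ N, x * y = y * x := by
    intro x hx y hy
    have h1 := hsq _ (N.mul_mem hx hy)
    have h2 : x⁻¹ = x := inv_eq_of_mul_eq_one_left (hsq x hx)
    have h3 : y⁻¹ = y := inv_eq_of_mul_eq_one_left (hsq y hy)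
    have h4 : (x * y)⁻¹ = x * y := inv_eq_of_mul_eq_one_left h1
    rw [mul_inv_rev, h2, h3] at h4
    exact h4.symm
  have hc : c ∈ N := by
    by_contra hcN
    apply hwn
    refine mem_centralizer_iff.2 fun n hn => ?_
    rcases hT.tv n hn with h1 | h1
    · rw [mul_inv_eq_iff_eq_mul] at h1
      exact h1.symm
    · exfalso
      apply hcN
      have h2 : w * n * w⁻¹ ∈ N := (mem_normalizer_iff.1 (hMN hw) n).1 hn
      rw [h1] at h2
      have h3 := N.mul_mem (N.inv_mem hn) h2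
      rwa [inv_mul_cancel_left] at h3
  obtain ⟨h, hh, hk⟩ := exists_odd hMN hred hw hww hwn
  set v := h * w * h⁻¹ with hv
  set d := h * c * h⁻¹ with hd
  have hdN : d ∈ N := (mem_normalizer_iff.1 (hMN hh) c).1 hc
  have hvM : v ∈ M := M.mul_mem (M.mul_mem hh hw) (M.inv_mem hh)
  have hvv : v * v = 1 := by
    rw [hv]
    calc h * w * h⁻¹ * (h * w * h⁻¹) = h * (w * w) * h⁻¹ := by group
      _ = 1 := by rw [hww, mul_one, mul_inv_cancel]
  have hTv : Tv N d v := by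
    constructor
    · intro x hx
      have h1 : h⁻¹ * x * h ∈ N := by
        have := (mem_normalizer_iff.1 (hMN (M.inv_mem hh)) x).1 hx
        rwa [inv_inv] at this
      have e : v * x * v⁻¹ = h * (w * (h⁻¹ * x * h) * w⁻¹) * h⁻¹ := by rw [hv]; group
      rcases hT.tv _ h1 with h2 | h2
      · left
        rw [e, h2]; group
      · right
        rw [e, h2, hd]; group
    · rw [hv, hd]
      calc h * w * h⁻¹ * (h * c * h⁻¹) = h * (w * c) * h⁻¹ := by group
        _ = h * (c * w) * h⁻¹ := by rw [hT.cc]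
        _ = _ := by group
  have hwi : w⁻¹ = w := inv_eq_of_mul_eq_one_left hww
  have hvi : v⁻¹ = v := inv_eq_of_mul_eq_one_left hvv
  -- `v` moves `c`
  have hvc : ¬ v * c = c * v := by
    intro h1
    have h2 := pow_four hsq hcm hdN hc hTv hT h1
    apply hk 2
    have h3 : (w * v) ^ 4 = ((v * w) ^ 4)⁻¹ := by
      rw [← inv_pow, mul_inv_rev, hwi, hvi]
    change (w * v) ^ 4 ∈ _
    rw [h3]
    exact inv_mem h2
  -- `v` moves `z`
  have hvz : ¬ v * z = z * v := by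
    intro h1
    obtain ⟨k, hk1⟩ := common' hA hwA hvv (hAn v hvM h1)
    apply hk k
    rw [hk1]
    exact one_mem _
  have e1 : v * z * v⁻¹ = z * d := by
    rcases hTv.tv z hz with h1 | h1
    · exact absurd ((mul_inv_eq_iff_eq_mul).1 h1) hvz
    · exact h1
  have e2 : v * c * v⁻¹ = c * d := by
    rcases hTv.tv c hc with h1 | h1
    · exact absurd ((mul_inv_eq_iff_eq_mul).1 h1) hvc
    · exact h1
  have e3 : v * (z * c) = z * c * v := by
    rw [← mul_inv_eq_iff_eq_mul]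
    calc v * (z * c) * v⁻¹ = (v * z * v⁻¹) * (v * c * v⁻¹) := by group
      _ = z * d * (c * d) := by rw [e1, e2]
      _ = z * (d * c) * d := by group
      _ = z * (c * d) * d := by rw [hcm d hdN c hc]
      _ = z * c * (d * d) := by group
      _ = z * c := by rw [hsq d hdN, mul_one]
  obtain ⟨k, hk1⟩ := common' hA' hwA' hvv (hAn' v hvM e3)
  apply hk k
  rw [hk1]
  exact one_mem _

omit [Finite G] in
theorem o2_conj_mem {L : Subgroup G} {g a : G} (hg : g ∈ L) (ha : a ∈ o2 L) : g * a * g⁻¹ ∈ o2 L :=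
  (mem_normalizer_iff.1 (MinSimple.VModule.le_normalizer_o2 L hg) a).1 ha

omit [Finite G] in
/-- **(2')** `W_e ≤ O₂(C_G(z z_e))`: `B = C_S(Z_J)` is normal in every 2-group over it, `N_G(B) ≤ C_G(z)`, `B ≤ C(z_e)`,
the elements of `W_e` are conjugate to `z_e` in `C_G(z z_e)`. -/
theorem le_o2 (hG : IsCharacteristicTwoType G) {B : Subgroup G} (hB : IsPGroup 2 B)
    (wc : ∀ R : Subgroup G, IsPGroup 2 R → B ≤ R → R ≤ normalizer (B : Set G))
    {z e : G} (hz : z * z = 1) (he : e * e = 1) (hze : z * e = e * z) (hne : z ≠ e)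
    (nz : ∀ g ∈ normalizer (B : Set G), g * z = z * g) (Be : ∀ b ∈ B, b * e = e * b)
    {W : Subgroup G} (hW : ∀ w ∈ W, w ≠ 1 → ∃ g : G, g * (z * e) = z * e * g ∧ w = g * e * g⁻¹) :
    W ≤ o2 (centralizer ({z * e} : Set G)) := by
  set H := centralizer ({z * e} : Set G) with hH
  have hze2 : (z * e) ^ 2 = 1 := by
    rw [sq]
    calc z * e * (z * e) = z * (e * z) * e := by group
      _ = z * (z * e) * e := by rw [hze]
      _ = (z * z) * (e * e) := by group
      _ = 1 := by rw [hz, he, mul_one]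
  have hze1 : z * e ≠ 1 := by
    intro h1
    apply hne
    have h2 : z = e⁻¹ := eq_inv_of_mul_eq_one_left h1
    rw [h2]
    exact inv_eq_of_mul_eq_one_left he
  have hBH : B ≤ H := by
    intro b hb
    rw [hH, mem_centralizer_singleton_iff]
    rw [← mul_assoc, nz b (le_normalizer hb), mul_assoc, Be b hb, mul_assoc]
  have h1 : IsPGroup 2 (B ⊔ o2 H : Subgroup G) :=
    IsPGroup.to_sup_of_normal_right' hB (o2_isPGroup H) (hBH.trans (MinSimple.VModule.le_normalizer_o2 H))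
  have h2 : o2 H ≤ normalizer (B : Set G) := le_sup_right.trans (wc _ h1 le_sup_left)
  have heH : e ∈ H := by
    rw [hH, mem_centralizer_singleton_iff]
    rw [← mul_assoc, ← hze, mul_assoc]
  have he1 : e ∈ o2 H := by
    refine MinSimple.Basic.char2_centralizer hG hze2 hze1 ⟨heH, mem_centralizer_iff.2 fun x hx => ?_⟩
    have h3 : x * z = z * x := nz x (h2 hx)
    have h4 : x * (z * e) = z * e * x := (mem_centralizer_singleton_iff.1 (o2_le H hx))
    rw [← mul_assoc, h3, mul_assoc, mul_assoc] at h4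
    exact mul_left_cancel h4
  intro w hw
  by_cases hw1 : w = 1
  · rw [hw1]; exact one_mem _
  · obtain ⟨g, hg, rfl⟩ := hW w hw hw1
    exact o2_conj_mem (mem_centralizer_singleton_iff.2 hg) he1

omit [Finite G] in
theorem zl_le_closure (S M : Subgroup G) : zl S M ≤ closure {x | ∃ g ∈ M, ∃ z ∈ (zc S : Set G), g * z * g⁻¹ = x} := by
  refine iSup_le fun g => ?_
  rintro _ ⟨x, hx, rfl⟩
  exact subset_closure ⟨g, g.2, x, hx, rfl⟩

variable (S : Sylow 2 G) {M : Subgroup G}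

/-- `Q_Z ≤ O₂(C_M(Z))` -/
theorem oz_le (hM : (S : Subgroup G) ≤ M) (hS : (S : Subgroup G) ≠ ⊥) :
    o2 (centralizer (zc (S : Subgroup G) : Set G)) ≤ o2 (M ⊓ centralizer (zc (S : Subgroup G) : Set G)) := by
  refine MinSimple.VModule.le_o2 (le_inf (((isLoc_centralizer_zc S hS).o2_le S).trans hM) (o2_le _)) (o2_isPGroup _)
    (inf_le_right.trans (MinSimple.VModule.le_normalizer_o2 _))

/-- `Z_M` is 2-reduced. -/
theorem red_zl (h : (S : Subgroup G) ≤ M) (K : Subgroup G) (hKM : K ≤ M) (hMK : M ≤ normalizer (K : Set G))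
    (hK : ∀ x ∈ K, ∃ k : ℕ, x ^ 2 ^ k ∈ centralizer (zl (S : Subgroup G) M : Set G)) :
    K ≤ centralizer (zl (S : Subgroup G) M : Set G) :=
  red_of (Z₀ := (zc (S : Subgroup G) : Set G)) h S.isPGroup' (MinSimple.Basic.not_dvd_relIndex S h)
    (fun x hx _ hz => (ChoiceBase.mem_zc.1 hz).2.2 x hx) (le_normalizer_zl _ _)
    (MinSimple.VModule.zc_le_zl _ _) (zl_le_closure _ _) K hKM hMK hK

/-- **(2)** `Z_M` centralises `U ≤ O₂(C_M(Z))`. -/
theorem cent_zl (hG : IsCharacteristicTwoType G) (ml : MLK.{u, u}) (h : IsLoc (S : Subgroup G) M) (hK : IsKGroup M)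
    {z : G} (hz : z ∈ zc (S : Subgroup G)) (hu : ∀ x ∈ zc (S : Subgroup G), x ≠ 1 → x = z)
    {U : Subgroup G} (hU2 : ∀ x ∈ U, x * x = 1)
    (hUO : U ≤ o2 (M ⊓ centralizer (zc (S : Subgroup G) : Set G)))
    (hex : (centralizer (zl (S : Subgroup G) M : Set G)).relIndex U ≤
        (centralizer (U : Set G)).relIndex (zl (S : Subgroup G) M) →
      ¬ U ≤ centralizer (zl (S : Subgroup G) M : Set G) →
        ∃ w ∈ U, ∃ c : G, w ∉ centralizer (zl (S : Subgroup G) M : Set G) ∧ Tv (zl (S : Subgroup G) M) c w ∧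
          w ∈ o2 (centralizer ({z * c} : Set G))) :
    U ≤ centralizer (zl (S : Subgroup G) M : Set G) := by
  by_contra hn
  have hsq : ∀ v ∈ zl (S : Subgroup G) M, v * v = 1 := fun v hv => by
    have h1 := (ChoiceBase.mem_zc.1 (IsLoc.zl_le S hG h hv)).2.1
    rwa [sq] at h1
  have D : ZD M (zl (S : Subgroup G) M) (zc (S : Subgroup G)) (S : Subgroup G) U :=
    { nV := le_normalizer_zl _ _
      sq := hsq
      ZV := MinSimple.VModule.zc_le_zl _ _
      gen := fun X h1 h2 => MinSimple.VModule.zl_le h1 h2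
      TL := h.le
      two := S.isPGroup'
      odd := MinSimple.Basic.not_dvd_relIndex S h.le
      TZ := le_centralizer_zc _
      AO := hUO
      Asq := fun a ha => by rw [hU2 a ha]; exact one_mem _ }
  obtain ⟨w, hw, c, hwn, hT, hwo⟩ := hex (D.gml ml hK) hn
  have hzl : z ∈ zl (S : Subgroup G) M := MinSimple.VModule.zc_le_zl _ _ hz
  refine false_of_tv (le_normalizer_zl _ _) hsq (red_zl S h.le) (((hUO.trans (o2_le _)).trans inf_le_left) hw)
    (hU2 w hw) hwn hT hzl (o2_isPGroup _) (hUO hw) ?_ (o2_isPGroup _) hwo ?_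
  · intro x hx hxz a ha
    refine o2_conj_mem ⟨hx, mem_centralizer_iff.2 fun y hy => ?_⟩ ha
    by_cases hy1 : y = 1
    · rw [hy1, one_mul, mul_one]
    · rw [hu y hy hy1]; exact hxz.symm
  · intro x _ hxz a ha
    exact o2_conj_mem (mem_centralizer_singleton_iff.2 hxz) ha

/-- **(3)** `U ≤ O₂(M)`. -/
theorem le_o2_M (h : (S : Subgroup G) ≤ M) (hS : (S : Subgroup G) ≠ ⊥) {U : Subgroup G}
    (hU : U ≤ centralizer (zl (S : Subgroup G) M : Set G))
    (hUQ : U ≤ o2 (centralizer (zc (S : Subgroup G) : Set G))) : U ≤ o2 M := by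
  have hQM : o2 (centralizer (zc (S : Subgroup G) : Set G)) ≤ M := ((isLoc_centralizer_zc S hS).o2_le S).trans h
  set Q := o2 (centralizer (zc (S : Subgroup G) : Set G)) with hQ
  set C := M ⊓ centralizer (zl (S : Subgroup G) M : Set G) with hC
  have hCz : C ≤ centralizer (zc (S : Subgroup G) : Set G) :=
    inf_le_right.trans (centralizer_le (MinSimple.VModule.zc_le_zl _ _))
  have hMC : M ≤ normalizer (C : Set G) := le_normalizer_inf_centralizer (le_normalizer_zl _ _)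
  have h1 : Q ⊓ C ≤ o2 C := by
    refine MinSimple.VModule.le_o2 inf_le_right ((o2_isPGroup _).to_le inf_le_left) ?_
    refine le_normalizer_of fun a ha b hb => ⟨?_, C.mul_mem (C.mul_mem ha hb.2) (C.inv_mem ha)⟩
    exact o2_conj_mem (hCz ha) hb.1
  have h2 : o2 C ≤ o2 M :=
    MinSimple.VModule.le_o2 ((o2_le _).trans inf_le_left) (o2_isPGroup _)
      (hMC.trans (normalizer_le_normalizer_o2 C))
  exact fun x hx => h2 (h1 ⟨hUQ hx, hQM (hUQ hx), hU hx⟩)

end fin

end Cfsg.Agent.Omega.NO3S.CaseLW.QW
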