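import Cfsg.Agent.Omega.NO3S.CaseLW.QWc

/-!
# THEOREM QW (helper866, OMEGA #24897), step (6) and the end, general form (helper498)

`WQ S P T Y`, `B ≤ T`, `Y ≤ C_G(Z)`, `L = V_P`, `U = ⟨L^Y⟩`; `C_G(Z_J), P, S ≤ M`, `Y ≰ M`, `U ≤ O₂(M)`.  Then **(neg)** is
false (`not_neg`): some best offender `A ≤ T` on `U` moves `U` and does not lie in `O₂(Y)` (`exists_best`).  For `Y ≰ M` one
may take `O²(Y) ≰ C(Z_J)` (`not_neg_odd`, `exists_best_odd`).

No structure of `P` on `V_P` is used: `K^ = KK T U` is generated by the exact groups (`Ex T U A`), `R₁ = C_L(K^) ≥ Z_J`,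
`U₁ = ⟨R₁^Y⟩ ≤ C_U(K^)`, `U₁ ∩ L = R₁`; `U₁ > R₁`; `u ∈ U₁ - R₁` with `[u, T] ≤ R₁`; `X = [u, Q] ≤ R₁` is invariant under
`⟨W_F^P⟩ ≥ O²(P)` and centralised by all `W_F ≤ S`, so `X ≤ C_L(O²(P)) = 1`; so `u ∈ C_V(Q) = L`.
-/

set_option autoImplicit false
set_option linter.unusedSectionVars false
set_option linter.dupNamespace false

namespace Cfsg.Agent.Omega.NO3S.CaseLW.QWd

open Subgroup Cfsg Cfsg.Agent.ZN Cfsg.Agent.ZN.ChoiceBase Cfsg.Agent.Omega.MinPar Cfsg.Agent.Omega.Frame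
open Cfsg.Agent.Omega.FrameNOFF (CZ)
open Cfsg.Agent.ZN.ChoiceSit (Syl)
open Cfsg.Agent.MinSimple.VModule (oddGen)
open Cfsg.Agent.Omega.NO3b.EZero (cl cl_le le_cl cj_le_cl le_normalizer_cl oddGen_sup_syl)
open Cfsg.Agent.Omega.NO3S.Level
open Cfsg.Agent.Omega.NO3S.RedC
open Cfsg.Agent.Omega.NO3S.WY
open Cfsg.Agent.Omega.NO3S.CaseLW.QWc
open Cfsg.Agent.Omega.NO1.BestOff (Best)
open Cfsg.Agent.Omega.FFThm (OffM ElemM)
open scoped Pointwise

universe u

variable {G : Type u} [Group G] [Finite G]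

/-- the group generated by the exact subgroups of `T` -/
def KK (T U : Subgroup G) : Subgroup G := sSup {A | Ex T U A}

theorem le_KK {T U A : Subgroup G} (x : Ex T U A) : A ≤ KK T U := le_sSup x

section

variable {S : Sylow 2 G} {P T Y : Subgroup G} (h : WQ S P T Y) (neg : Neg T Y (cl (zl (S : Subgroup G) P) Y))
include h neg

theorem KK_le : KK T (cl (zl (S : Subgroup G) P) Y) ≤ o2 Y := sSup_le fun _ x => Ex.le_o2 h neg x

theorem KK_BB : KK T (cl (zl (S : Subgroup G) P) Y) ≤ BB (S : Subgroup G) P := sSup_le fun _ x => Ex.le_BB h neg x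

theorem KK_norm : Y ≤ normalizer (KK T (cl (zl (S : Subgroup G) P) Y) : Set G) := by
  intro y hy
  refine mem_normalizer_of_cj_le (cj_le_iff.2 (sSup_le fun A x => ?_))
  have h1 := cj_mono y⁻¹ (le_KK (Ex.cj h neg x hy))
  rwa [cj_inv_cj] at h1

/-- `Z_J ≤ C_L(K^)` -/
theorem ZJ_le_R : ZJ (S : Subgroup G) P ≤ zl (S : Subgroup G) P ⊓
    centralizer (KK T (cl (zl (S : Subgroup G) P) Y) : Set G) :=
  le_inf (ZJ_le h.cl) (le_centralizer_iff.1 ((KK_BB h neg).trans inf_le_right))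

end

/-- `X ≤ L` is `O²(P)`-invariant and centralised by all members of `S` of an `S`-invariant family, one of which is not in
`O₂(P)` : `X = 1`. -/
theorem eq_bot_of {S : Sylow 2 G} {P T Y : Subgroup G} (h : WQ S P T Y) {X : Subgroup G}
    (hXL : X ≤ zl (S : Subgroup G) P) (hX : oddGen P ≤ normalizer (X : Set G)) {𝓦 : Set (Subgroup G)}
    (h𝓦 : ∀ W ∈ 𝓦, ∀ s ∈ (S : Subgroup G), cj s W ∈ 𝓦) (hc : ∀ W ∈ 𝓦, X ≤ centralizer (W : Set G)) {W : Subgroup G}
    (hW : W ∈ 𝓦) (hWS : W ≤ (S : Subgroup G)) (hWP : ¬ W ≤ o2 P) : X = ⊥ := by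
  have hSP : (S : Subgroup G) ≤ P := h.parP.le
  have hsyl : Syl (S : Subgroup G) P := FFThm.syl_of_sylow S hSP
  set X₁ : Subgroup G := cl X S with hX₁
  have h1 : oddGen P ≤ normalizer (X₁ : Set G) := by
    intro g hg
    refine mem_normalizer_of_cj_le (cj_le_iff.2 (cl_le fun s hs => cj_le_iff.1 ?_))
    have h2 : cj s⁻¹ (oddGen P) = oddGen P := cj_eq_of_mem_normalizer
      (MinSimple.VModule.le_normalizer_oddGen P (inv_mem (hSP hs)))
    have h3 : s⁻¹ * g * s ∈ oddGen P := by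
      have h4 : s⁻¹ * g * s ∈ cj s⁻¹ (oddGen P) := by
        rw [mem_cj]
        have e : s⁻¹⁻¹ * (s⁻¹ * g * s) * s⁻¹ = g := by group
        rwa [e]
      rwa [h2] at h4
    have h5 : cj (s⁻¹ * g * s) X = X := cj_eq_of_mem_normalizer (hX h3)
    have h6 : cj g (cj s X) = cj s X := by
      have e : g * s = s * (s⁻¹ * g * s) := by group
      rw [cj_cj, e, ← cj_cj, h5]
    rw [h6]
    exact cj_le_cl hs
  have h2 : P ≤ normalizer (X₁ : Set G) := by
    rw [← oddGen_sup_syl hsyl]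
    exact sup_le h1 (le_normalizer_cl _ _)
  have h3 : X₁ ≤ zl (S : Subgroup G) P := cl_le fun s hs => by
    have h4 := cj_mono s hXL
    rwa [cj_eq_of_mem_normalizer (ZN.le_normalizer_zl _ _ (hSP hs))] at h4
  have h4 : X₁ ≤ centralizer (W : Set G) := cl_le fun s hs => by
    have h5 := cj_mono s (hc _ (h𝓦 W hW s⁻¹ (inv_mem hs)))
    rwa [cj_centralizer, cj_cj_inv] at h5
  have hPP : P ≤ normalizer ((P ⊓ centralizer (X₁ : Set G) : Subgroup G) : Set G) :=
    NO3b.EZero.le_normalizer_inf_cent h2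
  have h5 : oddGen P ≤ centralizer (X₁ : Set G) := by
    rcases NO3b.K0.min_or hsyl h.parP.toIsMinPar (K := P ⊓ centralizer (X₁ : Set G)) inf_le_left hPP with h6 | h6
    · exact h6.trans inf_le_right
    · exact absurd ((le_inf hWS (le_inf (hWS.trans hSP) (le_centralizer_iff.1 h4))).trans h6) hWP
  have h6 : X₁ ≤ FrameFF.cv (S : Subgroup G) P := le_inf h3 (le_centralizer_iff.1 h5)
  rw [h.hyp.cv] at h6
  exact le_bot_iff.1 ((le_cl X S).trans h6)

section

variable {S : Sylow 2 G} {P T Y : Subgroup G} (h : WQ S P T Y) (BT : BB (S : Subgroup G) P ≤ T)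
  (hY : Y ≤ CZ (S : Subgroup G))
include h BT hY

/-- **THEOREM QW, the end** (`O²(Y)` moves `Z_J`). -/
theorem not_neg_odd {M : Subgroup G} (hM : centralizer (ZJ (S : Subgroup G) P : Set G) ≤ M) (hP : P ≤ M)
    (hYZ : ¬ oddGen Y ≤ centralizer (ZJ (S : Subgroup G) P : Set G))
    (hUM : cl (zl (S : Subgroup G) P) Y ≤ o2 M) : ¬ Neg T Y (cl (zl (S : Subgroup G) P) Y) := by
  intro neg
  have hSP : (S : Subgroup G) ≤ P := h.parP.le
  have hsyl : Syl (S : Subgroup G) P := FFThm.syl_of_sylow S hSP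
  set L : Subgroup G := zl (S : Subgroup G) P with hL
  set U : Subgroup G := cl L Y with hU
  set K : Subgroup G := KK T U with hK
  set R : Subgroup G := L ⊓ centralizer (K : Set G) with hR
  set U₁ : Subgroup G := cl R Y with hU₁
  set V : Subgroup G := zl (S : Subgroup G) (GX (S : Subgroup G) P Y) with hVd
  have hV : Md S P Y V := h.md_zl
  have hLV : L ≤ V := h.L_le_V hV
  have hUV : U ≤ V := U_le_zl h
  have hQL : o2 P ≤ centralizer (L : Set G) := by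
    rw [hL, ← h.cl.zc_eq]; exact Level.le_centralizer_zc _
  have hKY : Y ≤ normalizer (K : Set G) := KK_norm h neg
  have hU₁U : U₁ ≤ U := cl_le fun y hy => (cj_mono y inf_le_left).trans (cj_le_cl hy)
  have hU₁K : U₁ ≤ centralizer (K : Set G) := cl_le fun y hy => by
    have h1 := cj_mono y (inf_le_right : R ≤ centralizer (K : Set G))
    rwa [cj_centralizer, cj_eq_of_mem_normalizer (hKY hy)] at h1
  -- `U₁ > R`
  have hne : ¬ U₁ ≤ R := by
    intro h1
    have h2 : U₁ = R := le_antisymm h1 (le_cl _ _)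
    have h3 : Y ≤ normalizer (R : Set G) := by
      rw [← h2]; exact le_normalizer_cl _ _
    have hYY : Y ≤ normalizer ((Y ⊓ centralizer (R : Set G) : Subgroup G) : Set G) :=
      NO3b.EZero.le_normalizer_inf_cent h3
    rcases NO3b.K0.min_or h.syl h.min (K := Y ⊓ centralizer (R : Set G)) inf_le_left hYY with h4 | h4
    · exact hYZ ((h4.trans inf_le_right).trans (centralizer_le (ZJ_le_R h neg)))
    · exact h.nQ ((le_inf h.QT (le_inf (h.QT.trans h.T_Y) (hQL.trans (centralizer_le inf_le_left)))).trans h4)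
  -- `u`
  have hUT : U₁ ≤ T := (hU₁U.trans hUV).trans ((hV.le.trans h.V_le_D).trans h.DX_T)
  obtain ⟨u, huU, huR, hu⟩ := OneLine.exists_fixed h.T2 hUT
    (h.T_Y.trans (le_normalizer_cl R Y)) hne
  have huV : u ∈ V := hUV (hU₁U huU)
  -- an active `F`
  obtain ⟨-, F, hFa⟩ := exists_act h BT hY neg
  have hFh := hFa.hyp
  have hWS := hFa.WS
  have w : Vo S P V (V ⊓ o2 M) := Vo.of_M h hV hM hP
  have hUV₀ : U ≤ V ⊓ o2 M := le_inf hUV hUM
  have hLc : ∀ a ∈ L, ∀ b ∈ L, a * b = b * a := fun a ha b hb =>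
    (mem_centralizer_iff.1 ((h.Vc hV) (hLV ha)) b (hLV hb)).symm
  have hQc : ∀ q ∈ o2 P, ∀ l ∈ L, q * l = l * q := fun q hq l hl => (mem_centralizer_iff.1 (hQL hq) l hl).symm
  set X : Subgroup G := closure {x | ∃ q ∈ o2 P, x = q * u * q⁻¹ * u⁻¹} with hX
  have hXR : X ≤ R := by
    rw [hX, closure_le]
    rintro _ ⟨q, hq, rfl⟩
    exact hu q (h.QT hq)
  have hXL : X ≤ L := hXR.trans inf_le_left
  -- invariance
  have hinv : ∀ p ∈ P, cj p (NOne.Flat.WW V F) ≤ normalizer (X : Set G) := by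
    intro p hp x hx
    have hc : u ∈ centralizer (cj p (NOne.Flat.WW V F ⊓ centralizer (L : Set G)) : Set G) :=
      centralizer_le (le_KK (Vo.AF_ex h hV hFh hWS w hUV₀ hp)) (hU₁K huU)
    have h1 := Vo.comm_mem h hV hFh hWS w hp (hUV₀ (hU₁U huU)) hc hx
    have hxP : x ∈ P := by
      have h2 := cj_mono p (hWS.trans hSP) hx
      rwa [cj_eq_of_mem_normalizer (le_normalizer hp)] at h2
    refine mem_normalizer_of_cj_le (cj_le_iff.2 ?_)
    rw [hX, closure_le]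
    rintro _ ⟨q, hq, rfl⟩
    change _ ∈ cj x⁻¹ X
    rw [mem_cj, inv_inv]
    set l : G := x * u * x⁻¹ * u⁻¹ with hl
    have hq' : x * q * x⁻¹ ∈ o2 P := (mem_normalizer_iff.1 (ZN.le_normalizer_o2 _ hxP) q).1 hq
    set q' : G := x * q * x⁻¹ with hq'd
    have h3 : q' * u * q'⁻¹ * u⁻¹ ∈ X := subset_closure ⟨q', hq', rfl⟩
    have e1 : q' * l = l * q' := hQc q' hq' l h1
    have e2 : l * (q' * u * q'⁻¹ * u⁻¹) = q' * u * q'⁻¹ * u⁻¹ * l := hLc _ h1 _ (hXL h3)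
    have e : x * (q * u * q⁻¹ * u⁻¹) * x⁻¹ = q' * u * q'⁻¹ * u⁻¹ := by
      have e3 : x * u * x⁻¹ = l * u := by rw [hl]; group
      calc x * (q * u * q⁻¹ * u⁻¹) * x⁻¹ = q' * (x * u * x⁻¹) * q'⁻¹ * (x * u * x⁻¹)⁻¹ := by
            rw [hq'd]; group
        _ = q' * (l * u) * q'⁻¹ * (l * u)⁻¹ := by rw [e3]
        _ = (q' * l) * u * q'⁻¹ * u⁻¹ * l⁻¹ := by group
        _ = l * (q' * u * q'⁻¹ * u⁻¹) * l⁻¹ := by rw [e1]; group
        _ = _ := by rw [e2, mul_inv_cancel_right]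
    rw [e]
    exact h3
  have hodd : oddGen P ≤ normalizer (X : Set G) := by
    have h1 : cl (NOne.Flat.WW V F) P ≤ normalizer (X : Set G) := cl_le hinv
    have h2 : cl (NOne.Flat.WW V F) P ≤ P := cl_le fun p hp => by
      have h3 := cj_mono p (hWS.trans hSP)
      rwa [cj_eq_of_mem_normalizer (le_normalizer hp)] at h3
    rcases NO3b.K0.min_or hsyl h.parP.toIsMinPar (K := cl (NOne.Flat.WW V F) P) h2 (le_normalizer_cl _ _) with h3 | h3
    · exact h3.trans h1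
    · exact absurd ((le_inf hWS (le_cl _ _)).trans h3) hFa.mv
  have hX1 : X = ⊥ := by
    refine eq_bot_of h hXL hodd (𝓦 := {A | ∃ F', NOne.Flat.Hyp V F' ∧ NOne.Flat.WW V F' ≤ (S : Subgroup G) ∧
      NOne.Flat.WW V F' = A}) ?_ ?_ ⟨F, hFh, hWS, rfl⟩ hWS hFa.mv
    · rintro _ ⟨F', hF', hW', rfl⟩ s hs
      have hsV : s ∈ normalizer (V : Set G) := hV.norm (h.S_le hs)
      refine ⟨MulAut.conj s • F', hyp_cj hF' hsV, ?_, WW_cj hsV⟩
      rw [WW_cj hsV]
      have h3 := cj_mono s hW'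
      rwa [cj_eq_of_mem_normalizer (le_normalizer hs)] at h3
    · rintro _ ⟨F', hF', hW', rfl⟩
      exact (hXR.trans inf_le_right).trans (centralizer_le (le_KK (W_ex h BT hY hV hF' hW')))
  -- `u ∈ C_V(Q) = L`
  have huQ : u ∈ centralizer (o2 P : Set G) := by
    rw [mem_centralizer_iff]
    intro q hq
    have h1 : q * u * q⁻¹ * u⁻¹ ∈ X := subset_closure ⟨q, hq, rfl⟩
    rw [hX1, mem_bot] at h1
    have h2 : q * u * q⁻¹ = u := by
      have := mul_eq_one_iff_eq_inv.1 h1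
      rwa [inv_inv] at this
    calc q * u = (q * u * q⁻¹) * q := by group
      _ = u * q := by rw [h2]
  have huL : u ∈ L := by
    have h1 : u ∈ zc (DX (S : Subgroup G) P Y) ⊓ centralizer (o2 P : Set G) := ⟨hV.le huV, huQ⟩
    rwa [h.cvQ] at h1
  exact huR ⟨huL, hU₁K huU⟩

omit BT hY in
/-- `Y ≰ M` ⟹ `O²(Y)` moves `Z_J` -/
theorem not_odd {M : Subgroup G} (hM : centralizer (ZJ (S : Subgroup G) P : Set G) ≤ M) (hP : P ≤ M)
    (hYM : ¬ Y ≤ M) : ¬ oddGen Y ≤ centralizer (ZJ (S : Subgroup G) P : Set G) := fun h1 => hYM (by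
  rw [← oddGen_sup_syl h.syl]
  exact sup_le (h1.trans hM) (h.TS.trans (h.parP.le.trans hP)))

/-- **THEOREM QW, the end.** -/
theorem not_neg {M : Subgroup G} (hM : centralizer (ZJ (S : Subgroup G) P : Set G) ≤ M) (hP : P ≤ M)
    (hYM : ¬ Y ≤ M) (hUM : cl (zl (S : Subgroup G) P) Y ≤ o2 M) : ¬ Neg T Y (cl (zl (S : Subgroup G) P) Y) :=
  not_neg_odd h BT hY hM hP (not_odd h hM hP hYM) hUM

/-- **THEOREM QW, the end**, for the plug: `O²(Y)` moves `Z_J`; `U ≤ O₂(M)` may be proved under **(neg)**. -/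
theorem exists_best_odd {M : Subgroup G} (hM : centralizer (ZJ (S : Subgroup G) P : Set G) ≤ M) (hP : P ≤ M)
    (hYZ : ¬ oddGen Y ≤ centralizer (ZJ (S : Subgroup G) P : Set G))
    (hUM : Neg T Y (cl (zl (S : Subgroup G) P) Y) → cl (zl (S : Subgroup G) P) Y ≤ o2 M) :
    ∃ A ≤ T, Best (cl (zl (S : Subgroup G) P) Y) A ∧ ¬ A ≤ centralizer (cl (zl (S : Subgroup G) P) Y : Set G) ∧
      ¬ A ≤ o2 Y := by
  by_contra hcon
  have neg : Neg T Y (cl (zl (S : Subgroup G) P) Y) := Neg.of_best fun A hA hb hne => by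
    by_contra hY'
    exact hcon ⟨A, hA, hb, hne, hY'⟩
  exact not_neg_odd h BT hY hM hP hYZ (hUM neg) neg

/-- **THEOREM QW, the end**: some best offender `A ≤ T` on `U` moves `U` and does not lie in `O₂(Y)`. -/
theorem exists_best {M : Subgroup G} (hM : centralizer (ZJ (S : Subgroup G) P : Set G) ≤ M) (hP : P ≤ M)
    (hYM : ¬ Y ≤ M) (hUM : cl (zl (S : Subgroup G) P) Y ≤ o2 M) :
    ∃ A ≤ T, Best (cl (zl (S : Subgroup G) P) Y) A ∧ ¬ A ≤ centralizer (cl (zl (S : Subgroup G) P) Y : Set G) ∧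
      ¬ A ≤ o2 Y := by
  by_contra hcon
  refine not_neg h BT hY hM hP hYM hUM (Neg.of_best fun A hA hb hne => ?_)
  by_contra hY'
  exact hcon ⟨A, hA, hb, hne, hY'⟩

/-- the form for the plug: `U ≤ O₂(M)` may be proved under **(neg)**. -/
theorem exists_best_of {M : Subgroup G} (hM : centralizer (ZJ (S : Subgroup G) P : Set G) ≤ M) (hP : P ≤ M)
    (hYM : ¬ Y ≤ M) (hUM : Neg T Y (cl (zl (S : Subgroup G) P) Y) → cl (zl (S : Subgroup G) P) Y ≤ o2 M) :
    ∃ A ≤ T, Best (cl (zl (S : Subgroup G) P) Y) A ∧ ¬ A ≤ centralizer (cl (zl (S : Subgroup G) P) Y : Set G) ∧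
      ¬ A ≤ o2 Y := by
  by_contra hcon
  have neg : Neg T Y (cl (zl (S : Subgroup G) P) Y) := Neg.of_best fun A hA hb hne => by
    by_contra hY'
    exact hcon ⟨A, hA, hb, hne, hY'⟩
  exact not_neg h BT hY hM hP hYM (hUM neg) neg

end

end Cfsg.Agent.Omega.NO3S.CaseLW.QWd
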