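import Cfsg.Agent.Omega.NO3S.WY.Exact
import Cfsg.Agent.Omega.NOThreeL.FFB.SymRp2
import Cfsg.Agent.Omega.NO3S.CaseLW.KSharp
import Cfsg.Agent.Omega.NOThreeL.FFB.Core
import Cfsg.Agent.MinSimple.FFBlock

/-!
# THEOREM QW (#24897, helper866), step (6), every type of `P` (natural, any `q`; symmetric)

* `comm_of_gamma` : pure: `[u, Q] ≤ R ≤ L`, `[u, Γ] ≤ L`, `R` has no `Γ`-invariant subgroup `≠ 1` ⟹ `[u, Q] = 1`;
* `Fx L u` : the elements of `N_G(L)` which fix the coset `u L`;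
* `cent_best`, `mem_ZJ_of` : the vectors of `V_P` fixed by the `S`-conjugates of one offender lie in `Z_J`;
* `bot_of_inv` : no subgroup `≠ 1` of `Z_J` is invariant under `⟨A^P⟩`, `A ≤ S` an offender on `V_P`;
* **`six`** : the end of THEOREM QW, over `CaseL`.
-/

set_option autoImplicit false
set_option linter.unusedSectionVars false

namespace Cfsg.Agent.Omega.NO3S.CaseLW.QWe

open Subgroup Cfsg Cfsg.Agent.ZN Cfsg.Agent.ZN.ChoiceBase Cfsg.Agent.Omega.MinPar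
open Cfsg.Agent.ZN.ChoiceSit (Syl)
open Cfsg.Agent.Omega.FFThm (OffM ElemM)
open Cfsg.Agent.Omega.NO1.BestOff (Best)
open Cfsg.Agent.Omega.NOThreeL.NF (MinOffM RP pts)
open Cfsg.Agent.Omega.NOThreeL.FFB (RP2)
open Cfsg.Agent.Omega.NO3b.EZero (cl cl_le)
open Cfsg.Agent.MinSimple.VModule (oddGen)
open Cfsg.Agent.Omega.NO3S.Level
open Cfsg.Agent.Omega.NO3S.RedC
open Cfsg.Agent.Omega.NO3S.WY
open scoped commutatorElement

universe u

section pure

variable {G : Type u} [Group G]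

theorem normalizer_of_forall {Γ X : Subgroup G} (h : ∀ g ∈ Γ, ∀ x ∈ X, g * x * g⁻¹ ∈ X) : Γ ≤ normalizer (X : Set G) := by
  intro g hg
  rw [mem_normalizer_iff]
  refine fun x => ⟨fun hx => h g hg x hx, fun hx => ?_⟩
  have h1 := h g⁻¹ (inv_mem hg) _ hx
  have e : g⁻¹ * (g * x * g⁻¹) * g⁻¹⁻¹ = x := by group
  rwa [e] at h1

/-- `[u, Q] ≤ R ≤ L`, `[u, Γ] ≤ L`, and `R` has no `Γ`-invariant subgroup `≠ 1` : `u` centralises `Q`. -/
theorem comm_of_gamma {Q L R Γ : Subgroup G} {u : G} (RL : R ≤ L) (Lc : ∀ x ∈ L, ∀ y ∈ L, x * y = y * x)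
    (QL : ∀ q ∈ Q, ∀ l ∈ L, q * l = l * q) (hQ : ∀ q ∈ Q, u⁻¹ * (q * u * q⁻¹) ∈ R)
    (ΓQ : Γ ≤ normalizer (Q : Set G)) (hΓ : ∀ g ∈ Γ, u⁻¹ * (g * u * g⁻¹) ∈ L)
    (inv : ∀ X ≤ R, Γ ≤ normalizer (X : Set G) → X = ⊥) : ∀ q ∈ Q, q * u = u * q := by
  set X : Subgroup G := closure {x | ∃ q ∈ Q, x = u⁻¹ * (q * u * q⁻¹)} with hX
  have h1 : X ≤ R := by
    rw [hX, closure_le]
    rintro x ⟨q, hq, rfl⟩
    exact hQ q hq
  have h2 : Γ ≤ normalizer (X : Set G) := by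
    refine normalizer_of_forall fun g hg x hx => ?_
    rw [hX] at hx
    refine closure_induction (p := fun x _ => g * x * g⁻¹ ∈ X) ?_ ?_ ?_ ?_ hx
    · rintro x ⟨q, hq, rfl⟩
      have hq' : g * q * g⁻¹ ∈ Q := (mem_normalizer_iff.1 (ΓQ hg) q).1 hq
      have hl := hΓ g hg
      set l := u⁻¹ * (g * u * g⁻¹) with hl'
      have e1 : g * u * g⁻¹ = u * l := by rw [hl']; group
      have e2 : l * (g * q * g⁻¹)⁻¹ = (g * q * g⁻¹)⁻¹ * l := (QL _ (inv_mem hq') l hl).symm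
      have h3 : u⁻¹ * ((g * q * g⁻¹) * u * (g * q * g⁻¹)⁻¹) ∈ R := hQ _ hq'
      have e3 : g * (u⁻¹ * (q * u * q⁻¹)) * g⁻¹ = u⁻¹ * ((g * q * g⁻¹) * u * (g * q * g⁻¹)⁻¹) := by
        calc g * (u⁻¹ * (q * u * q⁻¹)) * g⁻¹
            = (g * u * g⁻¹)⁻¹ * ((g * q * g⁻¹) * (g * u * g⁻¹) * (g * q * g⁻¹)⁻¹) := by group
          _ = (u * l)⁻¹ * ((g * q * g⁻¹) * (u * l) * (g * q * g⁻¹)⁻¹) := by rw [e1]
          _ = l⁻¹ * (u⁻¹ * ((g * q * g⁻¹) * u)) * (l * (g * q * g⁻¹)⁻¹) := by group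
          _ = l⁻¹ * (u⁻¹ * ((g * q * g⁻¹) * u)) * ((g * q * g⁻¹)⁻¹ * l) := by rw [e2]
          _ = l⁻¹ * ((u⁻¹ * ((g * q * g⁻¹) * u * (g * q * g⁻¹)⁻¹)) * l) := by group
          _ = l⁻¹ * (l * (u⁻¹ * ((g * q * g⁻¹) * u * (g * q * g⁻¹)⁻¹))) := by rw [Lc _ (RL h3) l hl]
          _ = _ := by group
      rw [e3]
      exact subset_closure ⟨_, hq', rfl⟩
    · rw [mul_one, mul_inv_cancel]; exact one_mem _
    · intro x y _ _ hx hy
      have e : g * (x * y) * g⁻¹ = (g * x * g⁻¹) * (g * y * g⁻¹) := by group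
      rw [e]; exact mul_mem hx hy
    · intro x _ hx
      have e : g * x⁻¹ * g⁻¹ = (g * x * g⁻¹)⁻¹ := by group
      rw [e]; exact inv_mem hx
  have h3 := inv X h1 h2
  intro q hq
  have h4 : u⁻¹ * (q * u * q⁻¹) ∈ X := subset_closure ⟨q, hq, rfl⟩
  rw [h3, mem_bot] at h4
  have h5 : q * u * q⁻¹ = u := (inv_mul_eq_one.1 h4).symm
  exact mul_inv_eq_iff_eq_mul.1 h5

/-- the elements of `N_G(L)` which fix the coset `u L` -/
def Fx (L : Subgroup G) (u : G) : Subgroup G where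
  carrier := {g | g ∈ normalizer (L : Set G) ∧ u⁻¹ * (g * u * g⁻¹) ∈ L}
  mul_mem' := by
    rintro g h ⟨hg, hg'⟩ ⟨hh, hh'⟩
    refine ⟨mul_mem hg hh, ?_⟩
    have e : u⁻¹ * (g * h * u * (g * h)⁻¹) = u⁻¹ * (g * u * g⁻¹) * (g * (u⁻¹ * (h * u * h⁻¹)) * g⁻¹) := by group
    rw [e]
    exact mul_mem hg' ((mem_normalizer_iff.1 hg _).1 hh')
  one_mem' := ⟨one_mem _, by
    have e : u⁻¹ * (1 * u * 1⁻¹) = 1 := by group
    rw [e]; exact one_mem _⟩
  inv_mem' := by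
    rintro g ⟨hg, hg'⟩
    refine ⟨inv_mem hg, ?_⟩
    have h1 := (mem_normalizer_iff.1 (inv_mem hg) _).1 (inv_mem hg')
    have e : g⁻¹ * (u⁻¹ * (g * u * g⁻¹))⁻¹ * g⁻¹⁻¹ = u⁻¹ * (g⁻¹ * u * g⁻¹⁻¹) := by group
    rwa [e] at h1

theorem mem_Fx {L : Subgroup G} {u g : G} :
    g ∈ Fx L u ↔ g ∈ normalizer (L : Set G) ∧ u⁻¹ * (g * u * g⁻¹) ∈ L := Iff.rfl

end pure

section rp

variable {G : Type u} [Group G] [Finite G] {S : Sylow 2 G} {P : Subgroup G}

/-- `RP2` in the case (L) -/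
theorem rp2 (h : CaseL S P) : RP2 (S : Subgroup G) P := by
  have hy := h.hypN.toHyp
  have hP := h.pss.par
  obtain ⟨A, hAS, hA⟩ := h.ff P h.pss
  obtain ⟨_, hcc⟩ := FF.Glob.ffthmM G (S : Subgroup G) P (FFThm.syl_of_sylow S hP.le) hP.toIsMinPar
    (hP.isLoc.char2 S h.ctx.char2) ⟨A, hAS.trans hP.le, hA⟩
  rcases hcc with ⟨K, _, _, _, k, _, ⟨M⟩⟩ | ⟨k, m, _, hm, ⟨M⟩⟩
  · exact NOThreeL.FFB.rp2_of_natKM hP.le hy.cv M
  · exact NOThreeL.FFB.rp2_of_symKM h.ctx.char2 hP.isLoc hy.cv (by omega) M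

/-- `S` normalises `Z_J`. -/
theorem S_norm_ZJ (h : CaseL S P) : (S : Subgroup G) ≤ normalizer (ZJ (S : Subgroup G) P : Set G) := by
  refine le_trans ?_ (normalizer_le_zc _)
  exact le_normalizer.trans (h.levQ.next.norm _ (nxt_le _ _) le_rfl)

/-- A vector of `V_P` fixed by the `S`-conjugates of one minimal offender is fixed by all offenders in `S`. -/
theorem cent_best (hr : RP (S : Subgroup G) P) (hr2 : RP2 (S : Subgroup G) P)
    (SL : (S : Subgroup G) ≤ normalizer (zl (S : Subgroup G) P : Set G)) {A : Subgroup G}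
    (hA : MinOffM (zl (S : Subgroup G) P) (S : Subgroup G) A) {x : G} (hx : x ∈ zl (S : Subgroup G) P)
    (hc : ∀ s ∈ (S : Subgroup G), x ∈ centralizer ((cj s A : Subgroup G) : Set G)) {B : Subgroup G}
    (hB : B ≤ (S : Subgroup G)) (hBO : Best (zl (S : Subgroup G) P) B) : x ∈ centralizer (B : Set G) := by
  have hxz : ∀ y ∈ centralizer (zl (S : Subgroup G) P : Set G), y * x = x * y := fun y hy =>
    (mem_centralizer_iff.1 hy x hx).symm
  by_cases hne : B ≤ centralizer (zl (S : Subgroup G) P : Set G)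
  · exact mem_centralizer_iff.2 fun b hb => hxz b (hne hb)
  have hoff : OffM (zl (S : Subgroup G) P) B := hBO.offM le_rfl hne
  have h1 := hr2.gen B hB hoff
  have h2 : sSup {B' : Subgroup G | B' ≤ B ∧ MinOffM (zl (S : Subgroup G) P) (S : Subgroup G) B'} ⊔
      centralizer (zl (S : Subgroup G) P : Set G) ≤ centralizer ({x} : Set G) := by
    refine sup_le (sSup_le ?_) ?_
    · rintro B' ⟨_, hB'⟩ b hb
      obtain ⟨s, hs, e⟩ := hr.conj A B' hA hB'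
      have hsA : MinOffM (zl (S : Subgroup G) P) (S : Subgroup G) (cj s A) := by
        refine CaseLW.MinOffM.cj_of hA (SL hs) ?_
        have h3 := cj_mono s hA.le
        rwa [cj_eq_of_mem_normalizer (le_normalizer hs)] at h3
      have e2 : ⁅zl (S : Subgroup G) P, cj s A⁆ = ⁅zl (S : Subgroup G) P, B'⁆ := by
        rw [e, NOThreeL.NF.NatR.comm_cj _ (SL hs)]
      obtain ⟨a, ha, hab⟩ := hr2.eq _ B' hsA hB' e2 b hb
      have h4 : a * x = x * a := mem_centralizer_iff.1 (hc s hs) a ha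
      have h5 : a⁻¹ * b * x = x * (a⁻¹ * b) := hxz _ hab
      rw [mem_centralizer_singleton_iff]
      calc b * x = a * (a⁻¹ * b * x) := by group
        _ = a * (x * (a⁻¹ * b)) := by rw [h5]
        _ = a * x * (a⁻¹ * b) := by group
        _ = x * a * (a⁻¹ * b) := by rw [h4]
        _ = x * b := by group
    · intro y hy
      rw [mem_centralizer_singleton_iff]
      exact hxz y hy
  exact mem_centralizer_iff.2 fun b hb => mem_centralizer_singleton_iff.1 (h2 (h1 hb))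

/-- The vectors of `V_P` fixed by the `S`-conjugates of one minimal offender lie in `Z_J`. -/
theorem mem_ZJ_of (h : CaseL S P) (hr : RP (S : Subgroup G) P) (hr2 : RP2 (S : Subgroup G) P)
    (SL : (S : Subgroup G) ≤ normalizer (zl (S : Subgroup G) P : Set G)) {A : Subgroup G}
    (hA : MinOffM (zl (S : Subgroup G) P) (S : Subgroup G) A) {x : G} (hx : x ∈ zl (S : Subgroup G) P)
    (hc : ∀ s ∈ (S : Subgroup G), x ∈ centralizer ((cj s A : Subgroup G) : Set G)) : x ∈ ZJ (S : Subgroup G) P := by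
  have hx' : x ∈ zc (o2 P) := by rw [h.zc_eq]; exact hx
  obtain ⟨hxQ, hx2, _⟩ := ChoiceBase.mem_zc.1 hx'
  have hn : nxt (S : Subgroup G) (o2 P) ≤ centralizer ({x} : Set G) := by
    refine sup_le ?_ (sSup_le ?_)
    · refine inf_le_right.trans (centralizer_le ?_)
      rw [Set.singleton_subset_iff]; exact hx'
    · rintro B ⟨hBS, hB⟩ b hb
      rw [h.zc_eq] at hB
      rw [mem_centralizer_singleton_iff]
      exact mem_centralizer_iff.1 (cent_best hr hr2 SL hA hx hc hBS hB) b hb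
  exact ChoiceBase.mem_zc.2 ⟨le_nxt h.levQ.le hxQ, hx2, fun y hy => mem_centralizer_singleton_iff.1 (hn hy)⟩

/-- **No subgroup `≠ 1` of `Z_J` is invariant under all `A^p`, `p ∈ P`.** -/
theorem bot_of_inv (h : CaseL S P) (hr : RP (S : Subgroup G) P) {A : Subgroup G}
    (hA : MinOffM (zl (S : Subgroup G) P) (S : Subgroup G) A)
    (hAZ : ∀ s ∈ (S : Subgroup G), cj s A ≤ centralizer (ZJ (S : Subgroup G) P : Set G)) {X : Subgroup G}
    (hX : X ≤ ZJ (S : Subgroup G) P) (hn : ∀ p ∈ P, cj p A ≤ normalizer (X : Set G)) : X = ⊥ := by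
  have hP := h.pss.par
  have hSP : (S : Subgroup G) ≤ P := hP.le
  have hXL : X ≤ zl (S : Subgroup G) P := hX.trans (ZJ_le h)
  -- `N = ⟨A^P⟩`
  have hNP : cl A P ≤ P := cl_le fun p hp => by
    have h1 := cj_mono p (hA.le.trans hSP)
    rwa [cj_eq_of_mem_normalizer (le_normalizer hp)] at h1
  have hPN : P ≤ normalizer (cl A P : Set G) := fun p hp => mem_normalizer_iff_cj.2 (NO3b.EZero.cj_cl hp)
  have hNX : cl A P ≤ normalizer (X : Set G) := cl_le hn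
  have hsyl : Syl (S : Subgroup G) P := FFThm.syl_of_sylow S hP.le
  have hodd : oddGen P ≤ cl A P := by
    rcases NO3b.K0.min_or hsyl hP.toIsMinPar hNP hPN with h1 | h1
    · exact h1
    · exfalso
      refine hA.off.ne ((le_inf hA.le (NO3b.EZero.le_cl A P)).trans (h1.trans ?_))
      rw [← h.zc_eq]
      exact Level.le_centralizer_zc _
  have hsup : cl A P ⊔ (S : Subgroup G) = P := le_antisymm (sup_le hNP hSP) (by
    conv_lhs => rw [← NO3b.EZero.oddGen_sup_syl hsyl]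
    exact sup_le_sup_right hodd _)
  -- all `A^p` centralise `X`
  have hcent : ∀ p ∈ P, cj p A ≤ centralizer (X : Set G) := by
    intro p hp
    have hp' : p⁻¹ ∈ (S : Subgroup G) ⊔ cl A P := by
      rw [sup_comm, hsup]; exact inv_mem hp
    have hSN : (S : Subgroup G) ≤ normalizer (cl A P : Set G) := hSP.trans hPN
    obtain ⟨s, hs, n, hn', e⟩ := MinSimple.FFBlock.mem_sup_of_le_normalizer hSN hp'
    have e' : p = n⁻¹ * s⁻¹ := by rw [← mul_inv_rev, ← e, inv_inv]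
    have h2 : cj s⁻¹ A ≤ centralizer (X : Set G) := (hAZ _ (inv_mem hs)).trans (centralizer_le hX)
    have h3 := cj_mono n⁻¹ h2
    rw [cj_cj, cj_centralizer, cj_eq_of_mem_normalizer (hNX (inv_mem hn')), ← e'] at h3
    exact h3
  obtain ⟨Y, hYP, _, hY0, _⟩ := hr.gen A hA
  rw [← le_bot_iff, ← hY0]
  refine le_inf hXL (le_iInf fun x => le_iInf fun hx => ?_)
  rw [le_centralizer_iff]
  exact hcent x (hYP x hx)

/-- **THEOREM QW, (6).** `F` active (`W_F ≤ S`, `W_F ≰ O₂(P)`), `V_P ≤ V₀ ≤ V`, `P ≤ N(V₀)`, `V₀ ≤ E_F`; all `W_F^s`, `s ∈ S`,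
and all `A_F^p`, `p ∈ P`, `A_F = C_{W_F}(V_P)`, centralise `⟨Z_J^Y⟩ ≤ V₀`: then `Y` normalises `Z_J`. -/
theorem six {T Y V : Subgroup G} (h : WQ S P T Y) (hV : Md S P Y V) {V₀ : Subgroup G}
    (L0 : zl (S : Subgroup G) P ≤ V₀) (P0 : P ≤ normalizer (V₀ : Set G)) (V0 : V₀ ≤ V)
    (hU : cl (ZJ (S : Subgroup G) P) Y ≤ V₀) {F : Subgroup G} (hF : ActW S P V F) (hE : V₀ ≤ NOne.Flat.EE V F)
    (hex : (centralizer (zl (S : Subgroup G) P : Set G)).relIndex (NOne.Flat.WW V F) ≤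
      (centralizer (NOne.Flat.WW V F : Set G)).relIndex (zl (S : Subgroup G) P))
    (hc1 : ∀ s ∈ (S : Subgroup G), cl (ZJ (S : Subgroup G) P) Y ≤ centralizer ((cj s (NOne.Flat.WW V F) : Subgroup G) : Set G))
    (hc2 : ∀ p ∈ P, cl (ZJ (S : Subgroup G) P) Y ≤ centralizer
      ((cj p (NOne.Flat.WW V F ⊓ centralizer (zl (S : Subgroup G) P : Set G)) : Subgroup G) : Set G)) :
    Y ≤ normalizer (ZJ (S : Subgroup G) P : Set G) := by
  by_contra hnY
  have hP := h.parP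
  have hSP : (S : Subgroup G) ≤ P := hP.le
  have hPL : P ≤ normalizer (zl (S : Subgroup G) P : Set G) := ZN.le_normalizer_zl _ _
  have SL : (S : Subgroup G) ≤ normalizer (zl (S : Subgroup G) P : Set G) := hSP.trans hPL
  have hoffP : ∃ A : Subgroup G, A ≤ P ∧ OffM (zl (S : Subgroup G) P) A := by
    obtain ⟨A, hAS, hA⟩ := h.cl.ff P h.cl.pss
    exact ⟨A, hAS.trans hSP, hA⟩
  have hr := CaseL.rp h.cl
  have hr2 : RP2 (S : Subgroup G) P := rp2 h.cl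
  set L := zl (S : Subgroup G) P with hL
  set R := ZJ (S : Subgroup G) P with hR
  set U := cl R Y with hUd
  set W := NOne.Flat.WW V F with hW
  have hVc : V ≤ centralizer (V : Set G) := h.Vc hV
  have Lc : ∀ x ∈ L, ∀ y ∈ L, x * y = y * x := fun x hx y hy =>
    mem_centralizer_iff.1 (hVc (V0 (L0 hy))) x (V0 (L0 hx))
  have RL : R ≤ L := ZJ_le h.cl
  -- the minimal offender
  have hWoff : OffM L W := offW hF.hyp (h.L_le_E hV hF.hyp hF.WS) (h.W_mv hF.WS hF.mv)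
  obtain ⟨A, hAW, hA⟩ := NOThreeL.FFB.exists_minOff (S := (S : Subgroup G)) hF.WS hWoff
  have hWB : W ≤ BB (S : Subgroup G) P := h.W_B hV hF.hyp hF.WS
  -- `S` normalises `R`
  have SR : (S : Subgroup G) ≤ normalizer (R : Set G) := S_norm_ZJ h.cl
  have hAZ : ∀ s ∈ (S : Subgroup G), cj s A ≤ centralizer (R : Set G) := by
    intro s hs
    have h1 : A ≤ centralizer (R : Set G) := hAW.trans (hWB.trans inf_le_right)
    have h2 := cj_mono s h1
    rwa [cj_centralizer, cj_eq_of_mem_normalizer (SR hs)] at h2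
  -- `U ∩ L ≤ R`
  have hUL : U ⊓ L ≤ R := by
    rintro x ⟨hxU, hxL⟩
    refine mem_ZJ_of h.cl hr hr2 SL hA hxL fun s hs => ?_
    exact centralizer_le (cj_mono s hAW) (hc1 s hs hxU)
  -- the vector `u`
  have hRU : R ≤ U := NO3b.EZero.le_cl _ _
  have hUne : ¬ U ≤ R := by
    intro h1
    refine hnY fun y hy => mem_normalizer_of_cj_le ((NO3b.EZero.cj_le_cl hy).trans h1)
  have hUT : U ≤ T := (hU.trans (V0.trans hV.le)).trans ((ZN.zc_le _).trans h.DX_T)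
  have hTU : T ≤ normalizer (U : Set G) := fun t ht =>
    mem_normalizer_iff_cj.2 (NO3b.EZero.cj_cl (h.T_Y ht))
  obtain ⟨u, huU, huR, hut⟩ := NOThreeL.FFB.exists_fix_mod h.T2 hUT hTU (h.TS.trans SR) hUne
  have huV0 : u ∈ V₀ := hU huU
  have Rc : ∀ r ∈ R, u * r = r * u := fun r hr' =>
    mem_centralizer_iff.1 (hVc (V0 (L0 (RL hr')))) u (V0 huV0)
  have hut' : ∀ t ∈ T, u⁻¹ * (t * u * t⁻¹) ∈ R := by
    intro t ht
    have h1 := hut t ht
    have h2 := Rc _ h1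
    have e : u⁻¹ * (t * u * t⁻¹) = t * u * t⁻¹ * u⁻¹ := by
      calc u⁻¹ * (t * u * t⁻¹) = u⁻¹ * ((t * u * t⁻¹ * u⁻¹) * u) := by group
        _ = u⁻¹ * (u * (t * u * t⁻¹ * u⁻¹)) := by rw [h2]
        _ = _ := by group
    rw [e]; exact h1
  -- `[u, W^p] ≤ L`
  have hfix : ∀ p ∈ P, cj p W ≤ Fx L u := by
    intro p hp g hg
    obtain ⟨w, hw, rfl⟩ := hg
    have hgL : p * w * p⁻¹ ∈ normalizer (L : Set G) := by
      refine hPL (mul_mem (mul_mem hp (hSP (hF.WS hw))) (inv_mem hp))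
    refine ⟨hgL, ?_⟩
    change u⁻¹ * ((p * w * p⁻¹) * u * (p * w * p⁻¹)⁻¹) ∈ L
    -- `u' = u^p`
    have hu'V0 : p⁻¹ * u * p ∈ V₀ := by
      have h1 := (mem_normalizer_iff.1 (P0 (inv_mem hp)) u).1 huV0
      rwa [inv_inv] at h1
    have hu'A : p⁻¹ * u * p ∈ centralizer ((W ⊓ centralizer (L : Set G) : Subgroup G) : Set G) := by
      have h1 := hc2 p hp huU
      rw [← cj_centralizer] at h1
      exact mem_cj.1 h1
    have hu' : p⁻¹ * u * p ∈ L ⊔ F := by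
      rw [← cent_AF hF.hyp (h.L_le_E hV hF.hyp hF.WS) hex]
      exact ⟨hE hu'V0, hu'A⟩
    have hFV : F ≤ V := hF.hyp.F_le_V
    obtain ⟨l, hl, f, hf, e⟩ := CaseLW.mem_sup_comm (fun x hx y hy =>
      (mem_centralizer_iff.1 (hVc (V0 (L0 hx))) y (hFV hy)).symm) hu'
    have hwf : w * f = f * w :=
      (mem_centralizer_iff.1 (NOne.Flat.Hyp.W_le_X hw) f hf).symm
    have hwl : w * l * w⁻¹ ∈ L := (mem_normalizer_iff.1 (SL (hF.WS hw)) l).1 hl
    have hlf : l⁻¹ * (w * l * w⁻¹) * f = f * (l⁻¹ * (w * l * w⁻¹)) :=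
      (mem_centralizer_iff.1 (hVc (V0 (L0 (mul_mem (inv_mem hl) hwl)))) f (hFV hf)).symm
    have e1 : u = p * (l * f) * p⁻¹ := by rw [← e]; group
    have e2 : u⁻¹ * ((p * w * p⁻¹) * u * (p * w * p⁻¹)⁻¹) = p * (l⁻¹ * (w * l * w⁻¹)) * p⁻¹ := by
      rw [e1]
      calc (p * (l * f) * p⁻¹)⁻¹ * ((p * w * p⁻¹) * (p * (l * f) * p⁻¹) * (p * w * p⁻¹)⁻¹)
          = p * (f⁻¹ * (l⁻¹ * (w * l * w⁻¹) * (w * f * w⁻¹))) * p⁻¹ := by group
        _ = p * (f⁻¹ * (l⁻¹ * (w * l * w⁻¹) * f)) * p⁻¹ := by rw [hwf, mul_inv_cancel_right]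
        _ = p * (f⁻¹ * (f * (l⁻¹ * (w * l * w⁻¹)))) * p⁻¹ := by rw [hlf]
        _ = _ := by group
    rw [e2]
    exact (mem_normalizer_iff.1 (hPL hp) _).1 (mul_mem (inv_mem hl) hwl)
  -- `Γ = ⟨W^P⟩`
  have hΓ : cl W P ≤ Fx L u := cl_le hfix
  have hΓP : cl W P ≤ P := cl_le fun p hp => by
    have h1 := cj_mono p (hF.WS.trans hSP)
    rwa [cj_eq_of_mem_normalizer (le_normalizer hp)] at h1
  have hLQ : L ≤ centralizer (o2 P : Set G) := by
    rw [hL, ← h.cl.zc_eq, le_centralizer_iff]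
    exact Level.le_centralizer_zc _
  have hcom := comm_of_gamma (Q := o2 P) (L := L) (R := R) (Γ := cl W P) (u := u) RL Lc
    (fun q hq l hl => mem_centralizer_iff.1 (hLQ hl) q hq) (fun q hq => hut' q (h.QT hq))
    (hΓP.trans (ChoiceSit.le_normalizer_o2 P)) (fun g hg => (hΓ hg).2)
    (fun X hX hXn => bot_of_inv h.cl hr hA hAZ hX fun p hp => by
      refine le_trans ?_ hXn
      exact (cj_mono p hAW).trans (NO3b.EZero.cj_le_cl hp))
  -- `u ∈ C_V(Q) = L`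
  have huL : u ∈ L := by
    rw [hL, ← h.cvQ]
    exact ⟨hV.le (V0 huV0), mem_centralizer_iff.2 hcom⟩
  exact huR (hUL ⟨huU, huL⟩)

end rp

end Cfsg.Agent.Omega.NO3S.CaseLW.QWe
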