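import Cfsg.Agent.Omega.NO3S.CaseLW.QWc
import Cfsg.Agent.Omega.NO3S.CaseLW.QWe

/-!
# THEOREM QW without `M` (helper216, OMEGA #26400), step (C)

`WQ S P T Y`, `B ≤ T`, `Y ≤ C_G(Z)`, `L = V_P`, `U = ⟨L^Y⟩`, `V = ⟨Z^GX⟩`, `F` active (`W_F ≤ S`, `W_F ≰ O₂(P)`).
If `U ≤ E_(F^p)` for all `p ∈ P` (step (B)), then **(neg)** is false: `V₀ := ⋂ E_(F^p)`, `A_F^p` is exact on `U`, and
`QWe.six` gives `Y ≤ N(Z_J)`.

* `AF_ex_of` : `A_F^p` is `Ex`, if `U ≤ E_(F^p)`;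
* `le_norm_of` : **(C)** under (neg);
* `exists_best_free_of` : the form for the plug.
-/

set_option autoImplicit false
set_option linter.unusedSectionVars false
set_option linter.dupNamespace false

namespace Cfsg.Agent.Omega.NO3S.CaseLW.QWf

open Subgroup Cfsg Cfsg.Agent.ZN Cfsg.Agent.ZN.ChoiceBase Cfsg.Agent.Omega.MinPar Cfsg.Agent.Omega.Frame
open Cfsg.Agent.Omega.FrameNOFF (CZ)
open Cfsg.Agent.Omega.NO3b.EZero (cl cl_le le_cl cj_le_cl)
open Cfsg.Agent.Omega.NO3S.Level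
open Cfsg.Agent.Omega.NO3S.RedC
open Cfsg.Agent.Omega.NO3S.WY
open Cfsg.Agent.Omega.NO3S.CaseLW.QWc
open Cfsg.Agent.Omega.NO1.BestOff (Best)
open Cfsg.Agent.Omega.FFThm (OffM ElemM)
open Cfsg.Agent.Omega.NOThreeL.VF (le_fM_iff elemM_mono)
open scoped Pointwise

universe u

variable {G : Type u} [Group G] [Finite G] {S : Sylow 2 G} {P T Y V F : Subgroup G}

/-- **(5)** : `A_F^p` is exact on `U` if `U ≤ E_(F^p)`. -/
theorem AF_ex_of (h : WQ S P T Y) (hV : Md S P Y V) (hF : NOne.Flat.Hyp V F)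
    (hW : NOne.Flat.WW V F ≤ (S : Subgroup G)) {p : G} (hp : p ∈ P)
    (hU : cl (zl (S : Subgroup G) P) Y ≤ NOne.Flat.EE V (MulAut.conj p • F)) :
    Ex T (cl (zl (S : Subgroup G) P) Y)
      (cj p (NOne.Flat.WW V F ⊓ centralizer (zl (S : Subgroup G) P : Set G))) := by
  have hPV := PV h hV hp
  have hQ : cj p (NOne.Flat.WW V F ⊓ centralizer (zl (S : Subgroup G) P : Set G)) ≤ o2 P := by
    have h1 : NOne.Flat.WW V F ⊓ centralizer (zl (S : Subgroup G) P : Set G) ≤ o2 P := by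
      rw [← h.parP.inf_centralizer S h.hG]
      exact inf_le_inf_right _ hW
    have h2 := cj_mono p h1
    rwa [cj_eq_of_mem_normalizer (ZN.le_normalizer_o2 _ hp)] at h2
  refine ⟨hQ.trans h.QT, ?_, ?_⟩
  · rw [cj_AF h hV hp]
    exact elemM_mono (elemW (hyp_cj hF hPV) (hU.trans inf_le_left)) inf_le_left
  · rw [cj_AF h hV hp, le_fM_iff]
    exact WY.best_AF (hyp_cj hF hPV) (le_cl _ _) hU (hex_cj h hV hF hW hp)

/-- **(C)** : `Y ≤ N(Z_J)` under (neg), if `U ≤ E_(F^p)` for all `p ∈ P`. -/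
theorem le_norm_of (h : WQ S P T Y) (BT : BB (S : Subgroup G) P ≤ T) (hY : Y ≤ CZ (S : Subgroup G))
    (neg : Neg T Y (cl (zl (S : Subgroup G) P) Y)) (hV : Md S P Y V) (hF : ActW S P V F)
    (hB : ∀ p ∈ P, cl (zl (S : Subgroup G) P) Y ≤ NOne.Flat.EE V (MulAut.conj p • F)) :
    Y ≤ normalizer (ZJ (S : Subgroup G) P : Set G) := by
  set V₀ : Subgroup G := ⨅ p : P, NOne.Flat.EE V (MulAut.conj (p : G) • F) with hV₀
  have h0 : ∀ p ∈ P, V₀ ≤ NOne.Flat.EE V (MulAut.conj p • F) := fun p hp =>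
    iInf_le (fun p : P => NOne.Flat.EE V (MulAut.conj (p : G) • F)) ⟨p, hp⟩
  have h1 : V₀ ≤ NOne.Flat.EE V F := by
    have h2 := h0 1 P.one_mem
    rwa [map_one, one_smul] at h2
  have hUZ : cl (ZJ (S : Subgroup G) P) Y ≤ cl (zl (S : Subgroup G) P) Y :=
    cl_le fun y hy => (cj_mono y (ZJ_le h.cl)).trans (cj_le_cl hy)
  refine QWe.six h hV (V₀ := V₀) ?_ ?_ (h1.trans inf_le_left) ?_ hF h1 (QWc.hex h hV hF.hyp hF.WS) ?_ ?_
  · exact le_iInf fun p => L_le_E_cj h hV hF.hyp hF.WS p.2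
  · intro q hq
    refine mem_normalizer_of_cj_le (le_iInf fun p => ?_)
    have h3 : q⁻¹ * (p : G) ∈ P := P.mul_mem (P.inv_mem hq) p.2
    have h4 := cj_mono q (h0 _ h3)
    have h5 : cj q (NOne.Flat.EE V (MulAut.conj (q⁻¹ * (p : G)) • F)) = NOne.Flat.EE V (MulAut.conj (p : G) • F) := by
      have h6 := NOne.Flat.EE_conj (F := MulAut.conj (q⁻¹ * (p : G)) • F) (PV h hV hq)
      rw [smul_smul, ← map_mul, mul_inv_cancel_left] at h6
      exact h6
    rwa [h5] at h4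
  · exact hUZ.trans (le_iInf fun p => hB p p.2)
  · intro s hs
    have hsV : s ∈ normalizer (V : Set G) := hV.norm (h.S_le hs)
    have hWs : NOne.Flat.WW V (MulAut.conj s • F) ≤ (S : Subgroup G) := by
      rw [WW_cj hsV]
      have h3 := cj_mono s hF.WS
      rwa [cj_eq_of_mem_normalizer (le_normalizer hs)] at h3
    rw [← WW_cj hsV, le_centralizer_iff]
    exact Ex.cent_ZJ h neg (W_ex h BT hY hV (hyp_cj hF.hyp hsV) hWs)
  · intro p hp
    rw [le_centralizer_iff]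
    exact Ex.cent_ZJ h neg (AF_ex_of h hV hF.hyp hF.WS hp (hB p hp))

/-- **(C)**, the form for the plug: step (B) may be proved under (neg), for one active `F`. -/
theorem exists_best_free_of (h : WQ S P T Y) (BT : BB (S : Subgroup G) P ≤ T) (hY : Y ≤ CZ (S : Subgroup G))
    (hYZ : ¬ Y ≤ normalizer (ZJ (S : Subgroup G) P : Set G))
    (hB : Neg T Y (cl (zl (S : Subgroup G) P) Y) →
      ∀ F, ActW S P (zl (S : Subgroup G) (GX (S : Subgroup G) P Y)) F → ∀ p ∈ P,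
        cl (zl (S : Subgroup G) P) Y ≤
          NOne.Flat.EE (zl (S : Subgroup G) (GX (S : Subgroup G) P Y)) (MulAut.conj p • F)) :
    ∃ A ≤ T, Best (cl (zl (S : Subgroup G) P) Y) A ∧ ¬ A ≤ centralizer (cl (zl (S : Subgroup G) P) Y : Set G) ∧
      ¬ A ≤ o2 Y := by
  by_contra hcon
  have neg : Neg T Y (cl (zl (S : Subgroup G) P) Y) := Neg.of_best fun A hA hb hne => by
    by_contra hY'
    exact hcon ⟨A, hA, hb, hne, hY'⟩
  obtain ⟨-, F, hF⟩ := exists_act h BT hY neg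
  exact hYZ (le_norm_of h BT hY neg h.md_zl hF (hB neg F hF))

end Cfsg.Agent.Omega.NO3S.CaseLW.QWf
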