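import Cfsg.Agent.Omega.NO3S.CaseLW.QWoFr

/-!
# THEOREM QW, every `q`: `z z_j` is not `G`-conjugate to `z` (helper360 #25134 (f), helper792 #25398)

`FrL B Q V X ZJ L W Z C A q`, `B ≤ S` weakly closed, `N_G(B) ≤ N_G(X)`, `z ∈ Z_J` of full support, centralised by `S`;
`e ∈ Z_J` centralised by `B` with trivial `j`-component. Then `e` is not a conjugate of `z`: a Sylow 2-subgroup `S^n ≥ B` of
`C_G(e)` has `B^n = B`, and `N_G(B)` permutes the supports.
-/

set_option autoImplicit false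
set_option linter.unusedSectionVars false

namespace Cfsg.Agent.Omega.NO3S.CaseLW.QWnc

open Subgroup Cfsg Cfsg.Agent.PLocal.ThompsonJ Cfsg.Agent.ZN Cfsg.Agent.ZN.ChoiceBase
open Cfsg.Agent.Omega.SQ1.Bau (elem_comm elem_sq)
open Cfsg.Agent.Omega.OM.BlockUniq Cfsg.Agent.Omega.OM.Uni Cfsg.Agent.Omega.OM.Lev.Uni
open Cfsg.Agent.Omega.OM.WeakCl (WC)
open Cfsg.Agent.Omega.NO3S.CaseLW.QWoFr

universe u

variable {G : Type u} [Group G] [Finite G] {ι : Type*} [Finite ι] {B Q V X ZJ : Subgroup G}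
  {L W Z C A : ι → Subgroup G} {q : ℕ}

/-- `N_G(B)` maps vectors of full support to vectors of full support. -/
theorem full_cj (h : FrL B Q V X ZJ L W Z C A q) (hX : normalizer (B : Set G) ≤ normalizer (X : Set G)) {z : G}
    (hz : z ∈ ZJ) (hf : ∀ i, z ∉ C i) {n : G} (hn : n ∈ normalizer (B : Set G)) :
    n * z * n⁻¹ ∈ ZJ ∧ ∀ i, n * z * n⁻¹ ∉ C i := by
  have hZ : n * z * n⁻¹ ∈ ZJ := by
    rw [← h.zcB] at hz ⊢
    obtain ⟨h1, h2, h3⟩ := ChoiceBase.mem_zc.1 hz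
    refine ChoiceBase.mem_zc.2 ⟨(mem_normalizer_iff.1 hn z).1 h1, ?_, fun b hb => ?_⟩
    · rw [conj_pow, h2, mul_one, mul_inv_cancel]
    · have hb' : n⁻¹ * b * n ∈ B := by
        have := (mem_normalizer_iff.1 (inv_mem hn) b).1 hb
        rwa [inv_inv] at this
      have h4 := h3 _ hb'
      calc b * (n * z * n⁻¹) = n * ((n⁻¹ * b * n) * z) * n⁻¹ := by group
        _ = n * (z * (n⁻¹ * b * n)) * n⁻¹ := by rw [h4]
        _ = n * z * n⁻¹ * b := by group
  refine ⟨hZ, fun j hj => ?_⟩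
  have hn' := inv_mem hn
  obtain ⟨-, hp⟩ := h.norm_of hn' (hX hn')
  obtain ⟨i, hi, -⟩ := hp j
  have h1 := supp_cj h (fun i => (hp i).imp fun m hm => hm.1) hi hZ hj
  have e : n⁻¹ * (n * z * n⁻¹) * n⁻¹⁻¹ = z := by group
  rw [e] at h1
  exact hf i h1

/-- **`e` with a trivial component is not a conjugate of `z`.** -/
theorem not_conj (h : FrL B Q V X ZJ L W Z C A q) (S : Sylow 2 G) (hBS : B ≤ (S : Subgroup G)) (wc : WC B)
    (hX : normalizer (B : Set G) ≤ normalizer (X : Set G)) {z : G} (hz : z ∈ ZJ) (hf : ∀ i, z ∉ C i)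
    (hS : ∀ s ∈ (S : Subgroup G), s * z = z * s) {e : G} (he : ∀ b ∈ B, b * e = e * b) {j : ι} (hj : e ∈ C j) (g : G) :
    g * z * g⁻¹ ≠ e := by
  have : Fact (Nat.Prime 2) := ⟨Nat.prime_two⟩
  intro hge
  have hSe : cj g (S : Subgroup G) ≤ centralizer ({e} : Set G) := by
    rintro _ ⟨s, hs, rfl⟩
    rw [mem_centralizer_singleton_iff, ← hge]
    change g * s * g⁻¹ * (g * z * g⁻¹) = g * z * g⁻¹ * (g * s * g⁻¹)
    calc g * s * g⁻¹ * (g * z * g⁻¹) = g * (s * z) * g⁻¹ := by group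
      _ = g * (z * s) * g⁻¹ := by rw [hS s hs]
      _ = _ := by group
  have hBe : B ≤ centralizer ({e} : Set G) := fun b hb => mem_centralizer_singleton_iff.2 (he b hb)
  have hB2 : IsPGroup 2 B := S.isPGroup'.to_le hBS
  -- a conjugate of `S` in `C_G(e)` containing `B`
  obtain ⟨x, hx, hBx⟩ : ∃ x ∈ centralizer ({e} : Set G), B ≤ cj (x * g) (S : Subgroup G) := by
    set H : Subgroup G := centralizer ({e} : Set G) with hH
    let T1 : Subgroup H := (cj g (S : Subgroup G)).subgroupOf H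
    have hT1 : IsPGroup 2 T1 := (S.isPGroup'.map _).comap_of_injective _ H.subtype_injective
    have hcard : ∀ Y : Subgroup G, IsPGroup 2 Y → Nat.card Y ≤ Nat.card (S : Subgroup G) := by
      intro Y hY
      obtain ⟨R, hR⟩ := hY.exists_le_sylow
      have h1 := Subgroup.card_le_of_le hR
      have h2 : Nat.card (R : Subgroup G) = Nat.card (S : Subgroup G) := Nat.card_congr (Sylow.equiv R S).toEquiv
      omega
    obtain ⟨P1, hP1⟩ := hT1.exists_le_sylow
    have hP1e : (P1 : Subgroup H).map H.subtype = cj g (S : Subgroup G) := by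
      have h1 : cj g (S : Subgroup G) ≤ (P1 : Subgroup H).map H.subtype := by
        intro y hy
        exact ⟨⟨y, hSe hy⟩, hP1 (mem_subgroupOf.2 hy), rfl⟩
      refine (Subgroup.eq_of_le_of_card_ge h1 ?_).symm
      rw [card_cj]
      exact hcard _ (P1.isPGroup'.map _)
    have hBH : IsPGroup 2 (B.subgroupOf H) := hB2.comap_of_injective _ H.subtype_injective
    obtain ⟨P2, hP2⟩ := hBH.exists_le_sylow
    obtain ⟨x, hx⟩ := MulAction.exists_smul_eq H P1 P2
    refine ⟨x, x.2, fun b hb => ?_⟩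
    have h1 : (⟨b, hBe hb⟩ : H) ∈ (P2 : Subgroup H) := hP2 (mem_subgroupOf.2 hb)
    rw [← hx, Sylow.coe_subgroup_smul, Subgroup.mem_pointwise_smul_iff_inv_smul_mem] at h1
    have h2 : (x : G)⁻¹ * b * (x : G) ∈ (P1 : Subgroup H).map H.subtype := by
      refine ⟨_, h1, ?_⟩
      simp [MulAut.smul_def]
    rw [hP1e, mem_cj] at h2
    rw [mem_cj]
    have e1 : (↑x * g)⁻¹ * b * (↑x * g) = g⁻¹ * ((x : G)⁻¹ * b * (x : G)) * g := by group
    rw [e1]
    exact h2
  have hn : x * g ∈ normalizer (B : Set G) := by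
    have h1 := wc _ (S.isPGroup'.map _ : IsPGroup 2 (cj (x * g) (S : Subgroup G))) hBx (x * g) (cj_mono _ hBS)
    rw [mem_normalizer_iff_cj]
    exact h1
  have h1 := (full_cj h hX hz hf hn).2 j
  apply h1
  have e1 : x * g * z * (x * g)⁻¹ = x * (g * z * g⁻¹) * x⁻¹ := by group
  rw [e1, hge, mul_inv_eq_iff_eq_mul.2 (mem_centralizer_singleton_iff.1 hx)]
  exact hj

end Cfsg.Agent.Omega.NO3S.CaseLW.QWnc
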