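import Cfsg.Agent.Omega.NO3S.CaseLW.QWrel
import Cfsg.Agent.Omega.NO3S.CaseLW.LamQ.ActNT
import Cfsg.Agent.Omega.OM.SwapT.QuietL

/-!
# RELATIVE QW: the plug into `ActNZ.BestZ` (`LowE`, `OffE`), from the family (helper291 #26899)

* `HFam h` : **socket** : `WQ S P T Y`, `B ≤ T`, `Y ≤ C(z l)`, `1 ≠ z l ∈ Z l` for all `l`, (neg): `⟨V_P^Y⟩ ≤ O₂(C_G(z m : m ≠ l))`;
* `best_S` : `T ≤ S`; `best_gen` : any 2-group `T ≥ B`;
* `bestZ_of_fam` : `ActNZ.BestZ h.cl (C(D))`, `D ≤ Z_J` meets every `Z l`;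
* `lowE_of_fam`, `offE_of_fam`.
-/

set_option autoImplicit false
set_option linter.unusedSectionVars false
set_option linter.dupNamespace false

namespace Cfsg.Agent.Omega.NO3S.CaseLW.QWrelPlug

open Subgroup Cfsg Cfsg.Agent.ZN.ChoiceBase Cfsg.Agent.ZN.ChoiceSit
open Cfsg.Agent.ZN (jj zj bau zc zl o2)
open Cfsg.Agent.MinSimple.MinParabolic (IsMinPar)
open Cfsg.Agent.MinSimple.VModule (oddGen)
open Cfsg.Agent.Omega.NO3b.EZero (cl oddGen_sup_syl)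
open Cfsg.Agent.Omega.OM.Lev.Uni (FrL)
open Cfsg.Agent.Omega.NO1.BestOff (Best)
open Cfsg.Agent.Omega.NO3S.Level
open Cfsg.Agent.Omega.NO3S.WY (WQ BB)
open Cfsg.Agent.Omega.NO3S.CaseLW.QWc (Neg)
open Cfsg.Agent.Omega.OM.SwapK (VF)
open Cfsg.Agent.Omega.OM.SwapT (BT ZT K_le wc lb norm_K)
open Cfsg.Agent.Omega.OM.SwapT.QuietL (isMinPar_cj best_cj exists_norm_B)
open Cfsg.Agent.Omega.Node.MulX (MulL)
open Cfsg.Agent.Omega.OM.SWT (nL LowW LowC OffC)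

universe u

variable {G : Type u} [Group G] [Finite G]
  {S : Sylow 2 G} {P B ZJ : Subgroup G} {k : ℕ} {L W Z C A : Fin k → Subgroup G} {q : ℕ}

/-- the elements `z m`, `m ≠ l` -/
def others (z : Fin k → G) (l : Fin k) : Set G := {x | ∃ m, m ≠ l ∧ z m = x}

/-- **Socket** (helper291 #26899 (1)-(3)) -/
def HFam (_h : MulL S P B ZJ L W Z C A q) : Prop :=
  ∀ T Y : Subgroup G, WQ S P T Y → B ≤ T → ∀ z : Fin k → G, (∀ l, z l ∈ Z l) → (∀ l, z l ≠ 1) →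
    (∀ l, Y ≤ centralizer ({z l} : Set G)) → Neg T Y (cl (zl (S : Subgroup G) P) Y) →
    ∀ l, cl (zl (S : Subgroup G) P) Y ≤ o2 (centralizer (others z l))

/-- **OffE / LowE for `T ≤ S`** -/
theorem best_S (h : MulL S P B ZJ L W Z C A q) (hf : HFam h) {T Y : Subgroup G} (hw : WQ S P T Y) (hB : B ≤ T)
    (hz : ∀ l, ∃ z ∈ Z l, z ≠ 1 ∧ Y ≤ centralizer ({z} : Set G)) (hn : ¬ Y ≤ normalizer (ZJ : Set G)) :
    ∃ A', A' ≤ T ∧ Best (VF S P Y) A' ∧ ¬ A' ≤ o2 Y := by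
  have eZ : ZJ = WY.ZJ (S : Subgroup G) P := h.eZ
  have eB : B = BB (S : Subgroup G) P := by rw [h.eB, eZ]
  have bg := h.bg
  have fr := h.fr
  rw [eB, eZ] at bg fr
  choose z hz1 hz2 hz3 using hz
  have hodd : ¬ oddGen Y ≤ centralizer (WY.ZJ (S : Subgroup G) P : Set G) := by
    intro h1
    apply hn
    rw [eZ, ← oddGen_sup_syl hw.syl]
    refine sup_le (h1.trans (centralizer_le_normalizer _)) ?_
    rw [← eZ]
    exact hw.TS.trans h.bg.SZJ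
  have hsub : ∀ l, others z l ⊆ (WY.ZJ (S : Subgroup G) P : Set G) := by
    rintro l _ ⟨m, -, rfl⟩
    exact fr.Z_le m (hz1 m)
  have hLc : ∀ l, L l ≤ centralizer (others z l) := by
    intro l x hx
    rw [mem_centralizer_iff]
    rintro _ ⟨m, hm, rfl⟩
    exact (fr.LC l x hx (z m) (fr.Z_le m (hz1 m)) (fr.WjC l m (Ne.symm hm) ((fr.blk m).ZV (hz1 m)))).symm
  obtain ⟨A', hA, hb, -, hn'⟩ := QWrel.exists_best_rel hw (eB ▸ hB) bg fr hodd fun neg l =>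
    ⟨centralizer (others z l), centralizer_le (hsub l), hLc l, hf T Y hw hB z hz1 hz2 hz3 neg l⟩
  exact ⟨A', hA, hb, hn'⟩

/-- **for every 2-group `T ≥ B`** -/
theorem best_gen (h : MulL S P B ZJ L W Z C A q) (hf : HFam h) {T F : Subgroup G} (hT : Syl T F) (hB : B ≤ T)
    (hmin : IsMinPar T F) (hc : F ⊓ centralizer (o2 F : Set G) ≤ o2 F)
    (hz : ∀ l, ∃ z ∈ Z l, z ≠ 1 ∧ F ≤ centralizer ({z} : Set G)) (hl : lim (S : Subgroup G) ≤ o2 F)
    (hn : ¬ o2 P ≤ o2 F) (hZ : ¬ F ≤ normalizer (ZJ : Set G)) :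
    ∃ A', A' ≤ T ∧ Best (VF S P F) A' ∧ ¬ A' ≤ o2 F := by
  have eBT : B = BT (S : Subgroup G) (o2 P) := by rw [h.eB, h.eZ]; rfl
  have hwc := h.cl.wc
  obtain ⟨g, hg, hle, -⟩ := exists_norm_B hwc h.cl.levQ hT.2.1 (eBT ▸ hB)
  have hgi : g⁻¹ ∈ normalizer (BT (S : Subgroup G) (o2 P) : Set G) := inv_mem hg
  have hgQ : cj g⁻¹ (o2 P) = o2 P := mem_normalizer_iff_cj.1 (norm_K hwc hgi)
  have hgV : cj g⁻¹ (zl (S : Subgroup G) P) = zl (S : Subgroup G) P :=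
    mem_normalizer_iff_cj.1 (h.cl.norm_o2_le (norm_K hwc hgi))
  have hgB : cj g⁻¹ (BT (S : Subgroup G) (o2 P)) = BT (S : Subgroup G) (o2 P) := mem_normalizer_iff_cj.1 hgi
  have hgl : cj g⁻¹ (lim (S : Subgroup G)) = lim (S : Subgroup G) :=
    OM.LevD.norm_of_wc (NO3S.Level.wc_lim S) (lb hwc).Bp (h.cl.lim_le.trans (K_le hwc)) hgi
  have ho2 : o2 (cj g⁻¹ F) = cj g⁻¹ (o2 F) := o2_cj _ _
  have hVF : VF S P (cj g⁻¹ F) = cj g⁻¹ (VF S P F) := by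
    have := NO3b.Exit.conj_V g⁻¹ (zl (S : Subgroup G) P) F
    rw [hgV] at this
    exact this.symm
  have hgZJ : g ∈ normalizer (ZJ : Set G) := by
    have h1 := (lb hwc).norm_B_le hg
    have eZ : ZJ = ZT (S : Subgroup G) (o2 P) := h.eZ
    rwa [eZ]
  have hnN : ¬ cj g⁻¹ F ≤ normalizer (ZJ : Set G) := by
    intro hle'
    apply hZ
    have := cj_mono g hle'
    rw [cj_cj_inv] at this
    exact this.trans (cj_eq_of_mem_normalizer (le_normalizer hgZJ)).le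
  have hTS : cj g⁻¹ T ≤ (S : Subgroup G) := by
    have := cj_mono g⁻¹ hle
    rwa [cj_inv_cj] at this
  have hBT' : BT (S : Subgroup G) (o2 P) ≤ cj g⁻¹ T := by
    have := cj_mono g⁻¹ (eBT ▸ hB : BT (S : Subgroup G) (o2 P) ≤ T)
    rwa [hgB] at this
  have hsy : Syl (cj g⁻¹ T) (cj g⁻¹ F) := NO1.JMin.syl_cj hT g⁻¹
  have hZJN : centralizer (zl (S : Subgroup G) P : Set G) ≤ normalizer (ZJ : Set G) :=
    (centralizer_le h.fr.ZJV).trans (centralizer_le_normalizer _)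
  have hwq : WQ S P (cj g⁻¹ T) (cj g⁻¹ F) :=
    { cl := h.cl
      TS := hTS
      QT := (K_le hwc).trans hBT'
      syl := hsy
      min := isMinPar_cj g⁻¹ hmin
      c2 := by
        rw [ho2]
        have := cj_mono g⁻¹ hc
        rwa [cj_inf, cj_centralizer] at this
      mvL := by
        intro hcon
        apply hnN
        rw [← oddGen_sup_syl hsy]
        exact sup_le (hcon.trans hZJN) (hTS.trans h.bg.SZJ)
      nQ := by
        intro hcon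
        apply hn
        rw [ho2] at hcon
        have := cj_mono g hcon
        rw [cj_cj_inv] at this
        refine le_trans (le_of_eq ?_) this
        rw [← hgQ, cj_cj_inv, hgQ]
      jY := by
        rw [ho2]
        refine ((NO3S.Level.lev_mono (S : Subgroup G) (Nat.zero_le _)).trans hgl.ge).trans (cj_mono g⁻¹ hl) }
  have hz' : ∀ l, ∃ z ∈ Z l, z ≠ 1 ∧ cj g⁻¹ F ≤ centralizer ({z} : Set G) := by
    intro l
    obtain ⟨j, hj, -⟩ := (h.bg.nrm g (by rw [eBT]; exact hg)).2 l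
    obtain ⟨z, hzj, hz1, hzF⟩ := hz j
    rw [← hj] at hzj
    refine ⟨g⁻¹ * z * g, mem_cj.1 hzj, fun h1 => hz1 ?_, ?_⟩
    · have h2 := congrArg (fun t => g * t * g⁻¹) h1
      simpa [mul_assoc] using h2
    · intro x hx
      rw [mem_cj, inv_inv] at hx
      have h1 := mem_centralizer_iff.1 (hzF hx) z rfl
      rw [mem_centralizer_iff]
      rintro _ rfl
      calc g⁻¹ * z * g * x = g⁻¹ * (z * (g * x * g⁻¹)) * g := by group
        _ = g⁻¹ * (g * x * g⁻¹ * z) * g := by rw [h1]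
        _ = x * (g⁻¹ * z * g) := by group
  obtain ⟨A', hA, hb, hnA⟩ := best_S h hf hwq (eBT ▸ hBT') hz' hnN
  refine ⟨cj g A', ?_, ?_, fun hcon => hnA ?_⟩
  · have := cj_mono g hA
    rwa [cj_cj_inv] at this
  · rw [hVF] at hb
    have h1 := best_cj g hb
    rwa [cj_cj_inv] at h1
  · rw [ho2]
    have := cj_mono g⁻¹ hcon
    rwa [cj_inv_cj] at this

/-- **`BestZ` from the family** -/
theorem bestZ_of_fam (h : MulL S P B ZJ L W Z C A q) (hf : HFam h) {D : Subgroup G}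
    (hm : ∀ l, ∃ z ∈ Z l, z ≠ 1 ∧ z ∈ D) : LamQ.ActNZ.BestZ h.cl (centralizer (D : Set G)) := by
  intro T Y hT hB hP hch hYH hl hK hn
  have eBT : B = BT (S : Subgroup G) (o2 P) := by rw [h.eB, h.eZ]; rfl
  have eZ : ZJ = ZT (S : Subgroup G) (o2 P) := h.eZ
  rw [← eZ] at hn
  refine best_gen h hf hT (by rw [eBT]; exact hB) hP hch (fun l => ?_) hl hK hn
  obtain ⟨z, hz, hz1, hzD⟩ := hm l
  exact ⟨z, hz, hz1, hYH.trans (centralizer_le (Set.singleton_subset_iff.2 hzD))⟩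

/-- **`LowE`** -/
theorem lowE_of_fam (h : MulL S P B ZJ L W Z C A q) (hq : 4 ≤ q) (hf : HFam h) :
    ∀ D : Subgroup G, D ≤ ZJ → (∀ l, ∃ z ∈ Z l, z ≠ 1 ∧ z ∈ D) → LowW h.cl (centralizer (D : Set G)) :=
  LamQ.ActNZ.lowE_of_bestZ h hq fun _ _ hm => bestZ_of_fam h hf hm

/-- **`OffE`** -/
theorem offE_of_fam (h : MulL S P B ZJ L W Z C A q) (hf : HFam h) :
    ∀ D : Subgroup G, D ≤ ZJ → (∀ l, ∃ z ∈ Z l, z ≠ 1 ∧ z ∈ D) →
      OffC h.cl (normalizer (ZJ : Set G)) (centralizer (D : Set G)) :=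
  LamQ.ActNZ.offE_of_bestZ h fun _ _ hm => bestZ_of_fam h hf hm

end Cfsg.Agent.Omega.NO3S.CaseLW.QWrelPlug
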