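import Cfsg.Agent.Omega.IId.BSTrick

/-!
# THEOREM QW (helper866, OMEGA #24897), step (2), pure form

`M` acts on the elementary abelian `Z_M`, no non-trivial normal subgroup of `M / C_M(Z_M)` is a 2-group; `1 ≠ z ∈ Z_M`,
`w ∈ M` a transvection on `Z_M` with centre `c ≠ z`; `w` lies in a 2-subgroup normalised by `C_M(z)` and in a
2-subgroup normalised by `C_M(z c)`.  Then `w` centralises `Z_M` (`mem_centralizer`): every conjugate of `w`
centralises `c`, `z` or `z c`, and Baer–Suzuki.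
-/

set_option autoImplicit false

namespace Cfsg.Agent.Omega.NO3S.CaseLW.QWt

open Subgroup

/-- Baer–Suzuki modulo a normal subgroup `K`, for an element `w` with `w² ∈ K`. -/
theorem mem_of_pairs {M : Type*} [Group M] [Finite M] {K : Subgroup M} [K.Normal]
    (hred : ∀ R : Subgroup M, R.Normal → (∀ r ∈ R, ∃ n : ℕ, r ^ 2 ^ n ∈ K) → R ≤ K) {w : M} (hww : w * w ∈ K)
    (h : ∀ m : M, ∃ A : Subgroup M, (∀ a ∈ A, ∃ n : ℕ, a ^ 2 ^ n ∈ K) ∧ w ∈ A ∧
      (∀ a ∈ A, (m * w * m⁻¹) * a * (m * w * m⁻¹)⁻¹ ∈ A)) : w ∈ K := by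
  let π : M →* M ⧸ K := QuotientGroup.mk' K
  have hK : ∀ x : M, π x = 1 ↔ x ∈ K := fun x => QuotientGroup.eq_one_iff x
  have h1 : ∀ g : M ⧸ K, IsPGroup 2 (closure {π w, g * π w * g⁻¹} : Subgroup (M ⧸ K)) := by
    intro g
    obtain ⟨m, rfl⟩ := QuotientGroup.mk'_surjective K g
    obtain ⟨A, hA2, hwA, hAn⟩ := h m
    have hA : IsPGroup 2 (A.map π) := by
      rintro ⟨_, a, ha, rfl⟩
      obtain ⟨n, hn⟩ := hA2 a ha
      refine ⟨n, Subtype.ext ?_⟩
      have := (hK _).2 hn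
      rw [map_pow] at this
      simpa using this
    have e : π m * π w * (π m)⁻¹ = π (m * w * m⁻¹) := by simp
    change IsPGroup 2 (closure {π w, π m * π w * (π m)⁻¹} : Subgroup (M ⧸ K))
    rw [e]
    refine IId.BSTrick.pair_isPGroup hA (mem_map_of_mem _ hwA) ?_ ?_
    · have hle : (A.map π).map (MulAut.conj (π (m * w * m⁻¹))).toMonoidHom ≤ A.map π := by
        rintro _ ⟨_, ⟨a, ha, rfl⟩, rfl⟩
        refine ⟨_, hAn a ha, ?_⟩
        change π (m * w * m⁻¹ * a * (m * w * m⁻¹)⁻¹) = π (m * w * m⁻¹) * π a * (π (m * w * m⁻¹))⁻¹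
        rw [← map_inv, ← map_mul, ← map_mul]
      have heq : (A.map π).map (MulAut.conj (π (m * w * m⁻¹))).toMonoidHom = A.map π := by
        refine Subgroup.eq_of_le_of_card_ge hle ?_
        have hinj : Function.Injective (MulAut.conj (π (m * w * m⁻¹))).toMonoidHom :=
          (MulAut.conj (π (m * w * m⁻¹))).injective
        rw [Subgroup.card_map_of_injective hinj]
      rw [Subgroup.mem_normalizer_iff]
      intro y
      refine ⟨fun hy => hle ⟨y, hy, rfl⟩, fun hy => ?_⟩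
      rw [← heq] at hy
      obtain ⟨y', hy', e'⟩ := hy
      have e2 : (MulAut.conj (π (m * w * m⁻¹))) y' = (MulAut.conj (π (m * w * m⁻¹))) y := e'
      rwa [(MulAut.conj (π (m * w * m⁻¹))).injective e2] at hy'
    · rw [← map_mul]
      refine (hK _).2 ?_
      have e3 : m * w * m⁻¹ * (m * w * m⁻¹) = m * (w * w) * m⁻¹ := by group
      rw [e3]
      exact Normal.conj_mem inferInstance _ hww _
  have h2 := Cfsg.Agent.Involutions.BaerSuzuki.baer_suzuki_element (p := 2) (π w) h1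
  have h3 : ((normalClosure {π w}).comap π).Normal := Normal.comap inferInstance π
  refine hred _ h3 ?_ (show w ∈ (normalClosure {π w}).comap π from subset_normalClosure rfl)
  intro r hr
  obtain ⟨n, hn⟩ := h2 ⟨π r, hr⟩
  refine ⟨n, (hK _).1 ?_⟩
  have := congrArg Subtype.val hn
  rw [map_pow]
  simpa using this

variable {G : Type*} [Group G]

/-- The elements of `M` which centralise `c` and act on `Z` as multiplication by `1` or `c`. -/
def tv (M Z : Subgroup G) (c : G) (hN : ∀ m ∈ M, ∀ x ∈ Z, m * x * m⁻¹ ∈ Z) (hcc : c * c = 1) :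
    Subgroup G where
  carrier := {a | a ∈ M ∧ a * c * a⁻¹ = c ∧ ∀ x ∈ Z, a * x * a⁻¹ = x ∨ a * x * a⁻¹ = x * c}
  one_mem' := ⟨one_mem _, by group, fun x _ => Or.inl (by group)⟩
  mul_mem' := by
    rintro a b ⟨ha, ha1, ha2⟩ ⟨hb, hb1, hb2⟩
    refine ⟨mul_mem ha hb, ?_, fun x hx => ?_⟩
    · have e : a * b * c * (a * b)⁻¹ = a * (b * c * b⁻¹) * a⁻¹ := by group
      rw [e, hb1, ha1]
    · have e : a * b * x * (a * b)⁻¹ = a * (b * x * b⁻¹) * a⁻¹ := by group
      have e2 : a * (x * c) * a⁻¹ = (a * x * a⁻¹) * (a * c * a⁻¹) := by group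
      rw [e]
      rcases hb2 x hx with h1 | h1 <;> rcases ha2 x hx with h2 | h2
      · left; rw [h1, h2]
      · right; rw [h1, h2]
      · right; rw [h1, e2, h2, ha1]
      · left; rw [h1, e2, h2, ha1, mul_assoc, hcc, mul_one]
  inv_mem' := by
    rintro a ⟨ha, ha1, ha2⟩
    refine ⟨inv_mem ha, ?_, fun x hx => ?_⟩
    · have e : a⁻¹ * (a * c * a⁻¹) * a⁻¹⁻¹ = c := by group
      rwa [ha1] at e
    · have hy := hN a⁻¹ (inv_mem ha) x hx
      have e : a * (a⁻¹ * x * a⁻¹⁻¹) * a⁻¹ = x := by group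
      rcases ha2 _ hy with h1 | h1
      · left; rw [e] at h1; exact h1.symm
      · right
        rw [e] at h1
        have e2 : x * c = (a⁻¹ * x * a⁻¹⁻¹) * (c * c) := (congrArg (· * c) h1).trans (mul_assoc _ _ _)
        rw [e2, hcc, mul_one]

/-- **(2) of THEOREM QW.** -/
theorem mem_centralizer [Finite G] {M Z : Subgroup G} (hN : ∀ m ∈ M, ∀ x ∈ Z, m * x * m⁻¹ ∈ Z)
    (hcomm : ∀ x ∈ Z, ∀ y ∈ Z, x * y = y * x) (hsq : ∀ x ∈ Z, x * x = 1)
    (hred : ∀ R : Subgroup G, R ≤ M → M ≤ normalizer (R : Set G) →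
      (∀ r ∈ R, ∃ n : ℕ, r ^ 2 ^ n ∈ centralizer (Z : Set G)) → R ≤ centralizer (Z : Set G))
    {w c z : G} (hw : w ∈ M) (hc : c ∈ Z) (hz : z ∈ Z)
    (htr : ∀ x ∈ Z, w * x * w⁻¹ = x ∨ w * x * w⁻¹ = x * c)
    (hA : ∃ A : Subgroup G, IsPGroup 2 A ∧ w ∈ A ∧ ∀ g ∈ M, g * z = z * g → ∀ a ∈ A, g * a * g⁻¹ ∈ A)
    (hB : ∃ A : Subgroup G, IsPGroup 2 A ∧ w ∈ A ∧ ∀ g ∈ M, g * (z * c) = z * c * g → ∀ a ∈ A, g * a * g⁻¹ ∈ A) :
    w ∈ centralizer (Z : Set G) := by
  classical
  have hcc := hsq c hc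
  have hwc : w * c * w⁻¹ = c := by
    rcases htr c hc with h1 | h1
    · exact h1
    · rw [hcc] at h1
      have h2 : c = 1 := by
        have e : w⁻¹ * (w * c * w⁻¹) * w = c := by group
        rw [h1] at e
        rw [← e]; group
      rw [h2]; group
  have hnK : M ≤ normalizer (centralizer (Z : Set G) : Set G) := by
    have key : ∀ g ∈ M, ∀ x ∈ centralizer (Z : Set G), g * x * g⁻¹ ∈ centralizer (Z : Set G) := by
      intro g hg x hx
      rw [mem_centralizer_iff] at hx ⊢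
      intro y hy
      have h1 := hx _ (hN g⁻¹ (inv_mem hg) y hy)
      have e1 : y * (g * x * g⁻¹) = g * ((g⁻¹ * y * g⁻¹⁻¹) * x) * g⁻¹ := by group
      rw [e1, h1]; group
    intro g hg
    rw [mem_normalizer_iff]
    intro x
    refine ⟨key g hg x, fun h1 => ?_⟩
    have h2 := key g⁻¹ (inv_mem hg) _ h1
    have e : g⁻¹ * (g * x * g⁻¹) * g⁻¹⁻¹ = x := by group
    rwa [e] at h2
  set K : Subgroup M := (centralizer (Z : Set G)).subgroupOf M with hK
  have : K.Normal := ⟨fun x hx g => (mem_normalizer_iff.1 (hnK g.2) _).1 hx⟩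
  have hwK : (⟨w, hw⟩ : M) ∈ K := by
    refine mem_of_pairs (K := K) ?_ ?_ ?_
    · intro R hR hR2
      have h1 := hred (R.map M.subtype) (map_subtype_le _) ?_ ?_
      · intro r hr
        exact h1 (mem_map_of_mem _ hr)
      · intro g hg
        have key : ∀ g ∈ M, ∀ x ∈ R.map M.subtype, g * x * g⁻¹ ∈ R.map M.subtype := by
          rintro g hg _ ⟨y, hy, rfl⟩
          exact ⟨⟨g, hg⟩ * y * ⟨g, hg⟩⁻¹, hR.conj_mem y hy _, rfl⟩
        rw [mem_normalizer_iff]
        intro y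
        refine ⟨key g hg y, fun hy => ?_⟩
        have := key g⁻¹ (inv_mem hg) _ hy
        have e : g⁻¹ * (g * y * g⁻¹) * g⁻¹⁻¹ = y := by group
        rwa [e] at this
      · rintro _ ⟨r, hr, rfl⟩
        obtain ⟨n, hn⟩ := hR2 r hr
        refine ⟨n, ?_⟩
        have h5 : ((r ^ 2 ^ n : M) : G) ∈ centralizer (Z : Set G) := hn
        rwa [SubgroupClass.coe_pow] at h5
    · change w * w ∈ centralizer (Z : Set G)
      rw [mem_centralizer_iff]
      intro x hx
      have e1 : w * w * x * (w * w)⁻¹ = w * (w * x * w⁻¹) * w⁻¹ := by group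
      have e2 : w * w * x * (w * w)⁻¹ = x := by
        rw [e1]
        rcases htr x hx with h1 | h1
        · rw [h1, h1]
        · have e3 : w * (x * c) * w⁻¹ = (w * x * w⁻¹) * (w * c * w⁻¹) := by group
          rw [h1, e3, h1, hwc, mul_assoc, hcc, mul_one]
      exact (mul_inv_eq_iff_eq_mul.1 e2).symm
    · rintro ⟨m, hm⟩
      -- `w' = m w m⁻¹` centralises `c`, `z` or `z c`
      set w' : G := m * w * m⁻¹ with hw'
      have hw'M : w' ∈ M := mul_mem (mul_mem hm hw) (inv_mem hm)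
      have htr' : ∀ x ∈ Z, w' * x * w'⁻¹ = x ∨ w' * x * w'⁻¹ = x * (m * c * m⁻¹) := by
        intro x hx
        have hx' := hN m⁻¹ (inv_mem hm) x hx
        have e1 : w' * x * w'⁻¹ = m * (w * (m⁻¹ * x * m⁻¹⁻¹) * w⁻¹) * m⁻¹ := by rw [hw']; group
        rcases htr _ hx' with h1 | h1
        · left; rw [e1, h1]; group
        · right; rw [e1, h1]; group
      have hc'c' : (m * c * m⁻¹) * (m * c * m⁻¹) = 1 := hsq _ (hN m hm c hc)
      have hcases : w' * c * w'⁻¹ = c ∨ w' * z * w'⁻¹ = z ∨ w' * (z * c) * w'⁻¹ = z * c := by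
        rcases htr' c hc with h1 | h1
        · exact Or.inl h1
        rcases htr' z hz with h2 | h2
        · exact Or.inr (Or.inl h2)
        right; right
        have e : w' * (z * c) * w'⁻¹ = (w' * z * w'⁻¹) * (w' * c * w'⁻¹) := by group
        have e2 : c * (m * c * m⁻¹) = (m * c * m⁻¹) * c := hcomm _ hc _ (hN m hm c hc)
        rw [e, h1, h2, e2, mul_assoc, ← mul_assoc (m * c * m⁻¹) (m * c * m⁻¹), hc'c', one_mul]
      have hgen : ∀ f : G, w' * f * w'⁻¹ = f →
          (∃ A : Subgroup G, IsPGroup 2 A ∧ w ∈ A ∧ ∀ g ∈ M, g * f = f * g → ∀ a ∈ A, g * a * g⁻¹ ∈ A) →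
          ∃ A : Subgroup M, (∀ a ∈ A, ∃ n : ℕ, a ^ 2 ^ n ∈ K) ∧ (⟨w, hw⟩ : M) ∈ A ∧
            (∀ a ∈ A, ((⟨m, hm⟩ : M) * ⟨w, hw⟩ * (⟨m, hm⟩ : M)⁻¹) * a *
              ((⟨m, hm⟩ : M) * ⟨w, hw⟩ * (⟨m, hm⟩ : M)⁻¹)⁻¹ ∈ A) := by
        rintro f hf ⟨A, hA2, hwA, hAn⟩
        refine ⟨A.subgroupOf M, ?_, hwA, ?_⟩
        · intro a ha
          obtain ⟨n, hn⟩ := hA2 ⟨a, ha⟩
          refine ⟨n, ?_⟩
          have h5 : (a : G) ^ 2 ^ n = 1 := by simpa using congrArg Subtype.val hn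
          change ((a ^ 2 ^ n : M) : G) ∈ centralizer (Z : Set G)
          rw [SubgroupClass.coe_pow, h5]
          exact one_mem _
        · intro a ha
          exact hAn w' hw'M (mul_inv_eq_iff_eq_mul.1 hf) a ha
      rcases hcases with h1 | h1 | h1
      · refine ⟨(tv M Z c hN hcc).subgroupOf M, ?_, ⟨hw, hwc, htr⟩, ?_⟩
        · rintro a ⟨ha, ha1, ha2⟩
          refine ⟨1, ?_⟩
          change ((a ^ 2 ^ 1 : M) : G) ∈ centralizer (Z : Set G)
          rw [SubgroupClass.coe_pow, mem_centralizer_iff]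
          intro x hx
          have e0 : (a : G) ^ 2 ^ 1 = (a : G) * a := by rw [pow_one, pow_two]
          change (a : G) * c * (a : G)⁻¹ = c at ha1
          rw [e0]
          have e1 : (a : G) * a * x * ((a : G) * a)⁻¹ = a * (a * x * (a : G)⁻¹) * (a : G)⁻¹ := by group
          have e2 : (a : G) * a * x * ((a : G) * a)⁻¹ = x := by
            rw [e1]
            rcases ha2 x hx with h1 | h1
            · change (a : G) * x * (a : G)⁻¹ = x at h1
              rw [h1, h1]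
            · change (a : G) * x * (a : G)⁻¹ = x * c at h1
              have e3 : (a : G) * (x * c) * (a : G)⁻¹ = (a * x * (a : G)⁻¹) * (a * c * (a : G)⁻¹) := by group
              rw [h1, e3, h1, ha1, mul_assoc, hcc, mul_one]
          exact (mul_inv_eq_iff_eq_mul.1 e2).symm
        · rintro a ⟨ha, ha1, ha2⟩
          change (a : G) * c * (a : G)⁻¹ = c at ha1
          change w' * (a : G) * w'⁻¹ ∈ tv M Z c hN hcc
          have h1' : w'⁻¹ * c * w' = c := by
            have e : w'⁻¹ * (w' * c * w'⁻¹) * w' = c := by group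
            rwa [h1] at e
          refine ⟨mul_mem (mul_mem hw'M a.2) (inv_mem hw'M), ?_, fun x hx => ?_⟩
          · have e : w' * a * w'⁻¹ * c * (w' * a * w'⁻¹)⁻¹ = w' * (a * (w'⁻¹ * c * w') * (a : G)⁻¹) * w'⁻¹ := by
              group
            rw [e, h1', ha1, h1]
          · have hx' : w'⁻¹ * x * w' ∈ Z := by
              have := hN w'⁻¹ (inv_mem hw'M) x hx
              rwa [inv_inv] at this
            have e : w' * a * w'⁻¹ * x * (w' * a * w'⁻¹)⁻¹ = w' * (a * (w'⁻¹ * x * w') * (a : G)⁻¹) * w'⁻¹ := by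
              group
            rw [e]
            rcases ha2 _ hx' with h3 | h3
            · change (a : G) * (w'⁻¹ * x * w') * (a : G)⁻¹ = w'⁻¹ * x * w' at h3
              left; rw [h3]; group
            · change (a : G) * (w'⁻¹ * x * w') * (a : G)⁻¹ = w'⁻¹ * x * w' * c at h3
              right; rw [h3]
              have e5 : w' * (w'⁻¹ * x * w' * c) * w'⁻¹ = x * (w' * c * w'⁻¹) := by group
              rw [e5, h1]
      · exact hgen z h1 hA
      · exact hgen (z * c) h1 hB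
  exact hwK

end Cfsg.Agent.Omega.NO3S.CaseLW.QWt
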