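import Cfsg.Agent.Omega.OM.Uni

/-!
# GammaFF, case (L), (Om): the quiet weird `Y` with `K# ≤ O₂(Y)` (helper546, bb OMEGA, answer to #24378)

`L = V_P` is the direct sum of the `W i` (`i ∈ ι`, `|Z i| = 2`, `ZJ = ∏ Z i`), `K` = `K#` acts on `L` as the full
product of the root elements, `X` = `Ω₁(Z(D))`, `O` = `O₂(M)`: `[X, O] ≤ L`, `C_X(O) = L`, `[ZJ, O] = 1`.

* `Sp L ZJ W Z C K` : the action of `K` on `L`;
* `Sp.norm` : **if `y` normalises `K` and `X` and fixes some `z ∈ ZJ` of full support, then `y` normalises `ZJ`.**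
-/

set_option autoImplicit false
set_option linter.unusedSectionVars false

namespace Cfsg.Agent.Omega.NO3S.CaseLW.Quiet

open Subgroup

universe u

variable {G : Type u} [Group G]

/-- conjugation -/
def cn (g x : G) : G := g * x * g⁻¹

theorem cn_mul (g x y : G) : cn g (x * y) = cn g x * cn g y := by simp only [cn]; group

theorem cn_cn (g h x : G) : cn g (cn h x) = cn (g * h) x := by simp only [cn]; group

theorem cn_inv (g x : G) : cn g x⁻¹ = (cn g x)⁻¹ := by simp only [cn]; group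

theorem cn_one (g : G) : cn g 1 = 1 := by simp only [cn]; group

theorem cn_eq {g x : G} : cn g x = x ↔ g * x = x * g := by
  simp only [cn]
  exact mul_inv_eq_iff_eq_mul

/-- **The action of `K` on `L`.** -/
structure Sp {ι : Type} (L ZJ : Subgroup G) (W Z C : ι → Subgroup G) (K : Subgroup G) : Prop where
  comm : ∀ v ∈ L, ∀ w ∈ L, v * w = w * v
  WL : ∀ i, W i ≤ L
  CL : ∀ i, C i ≤ L
  WC : ∀ i, ∀ v ∈ L, ∃ w ∈ W i, ∃ c ∈ C i, v = w * c
  dir : ∀ i, W i ⊓ C i = ⊥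
  C0 : ∀ x ∈ L, (∀ i, x ∈ C i) → x = 1
  WjC : ∀ i j, i ≠ j → W j ≤ C i
  ZW : ∀ i, Z i ≤ W i
  two : ∀ i, ∀ x ∈ Z i, ∀ y ∈ Z i, x ≠ 1 → y ≠ 1 → x = y
  ZJL : ZJ ≤ L
  ZZJ : ∀ i, Z i ≤ ZJ
  mem : ∀ v ∈ L, (∀ k ∈ K, cn k v = v) → v ∈ ZJ
  fix : ∀ k ∈ K, ∀ v ∈ ZJ, cn k v = v
  KW : ∀ i, ∀ k ∈ K, ∀ w ∈ W i, w⁻¹ * cn k w ∈ Z i
  KC : ∀ i, ∀ k ∈ K, ∀ c ∈ C i, cn k c ∈ C i
  free : ∀ i, ∀ k ∈ K, ∀ w ∈ W i, w ∉ Z i → cn k w = w → ∀ u ∈ W i, cn k u = u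
  full : ∀ i, ∃ k ∈ K, (¬ ∀ u ∈ W i, cn k u = u) ∧ ∀ c ∈ C i, cn k c = c

namespace Sp

variable {ι : Type} {L ZJ K : Subgroup G} {W Z C : ι → Subgroup G} (h : Sp L ZJ W Z C K)
include h

theorem cnW {i : ι} {k w : G} (hk : k ∈ K) (hw : w ∈ W i) : cn k w ∈ W i := by
  have e : cn k w = w * (w⁻¹ * cn k w) := by group
  rw [e]
  exact mul_mem hw (h.ZW i (h.KW i k hk w hw))

theorem cnL {k l : G} (hk : k ∈ K) (hl : l ∈ L) (i : ι) : cn k l ∈ L := by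
  obtain ⟨w, hw, c, hc, rfl⟩ := h.WC i l hl
  rw [cn_mul]
  exact mul_mem (h.WL i (h.cnW hk hw)) (h.CL i (h.KC i k hk c hc))

theorem uniq {i : ι} {w w' c c' : G} (hw : w ∈ W i) (hw' : w' ∈ W i) (hc : c ∈ C i) (hc' : c' ∈ C i)
    (e : w * c = w' * c') : w = w' ∧ c = c' := by
  have e1 : w'⁻¹ * w = c' * c⁻¹ := by
    calc w'⁻¹ * w = w'⁻¹ * (w * c) * c⁻¹ := by group
      _ = w'⁻¹ * (w' * c') * c⁻¹ := by rw [e]
      _ = c' * c⁻¹ := by group
  have h1 : w'⁻¹ * w ∈ W i ⊓ C i :=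
    mem_inf.2 ⟨mul_mem (inv_mem hw') hw, by rw [e1]; exact mul_mem hc' (inv_mem hc)⟩
  rw [h.dir i, mem_bot] at h1
  have h2 : w = w' := (inv_mul_eq_one.1 h1).symm
  subst h2
  exact ⟨rfl, mul_left_cancel e⟩

/-- `κ` fixes the part in `W i` -/
theorem comp_mem {i : ι} {k l w c : G} (hk : k ∈ K) (_ : w ∈ W i) (hc : c ∈ C i) (e : l = w * c)
    (hf : cn k w = w) : l⁻¹ * cn k l ∈ C i := by
  have h1 : l⁻¹ * cn k l = c⁻¹ * cn k c := by
    rw [e, cn_mul, hf]; group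
  rw [h1]
  exact mul_mem (inv_mem hc) (h.KC i k hk c hc)

/-- an element of `L` with all components in the `Z i` lies in `ZJ` -/
theorem mem_of {l : G} (hl : l ∈ L) (hc : ∀ i, ∃ w ∈ Z i, ∃ c ∈ C i, l = w * c) : l ∈ ZJ := by
  refine h.mem l hl fun k hk => ?_
  by_cases hι : Nonempty ι
  · obtain ⟨i₀⟩ := hι
    have h1 : l⁻¹ * cn k l = 1 := by
      refine h.C0 _ (mul_mem (inv_mem hl) (h.cnL hk hl i₀)) fun i => ?_
      obtain ⟨w, hw, c, hc', e⟩ := hc i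
      exact h.comp_mem hk (h.ZW i hw) hc' e (h.fix k hk w (h.ZZJ i hw))
    exact (inv_mul_eq_one.1 h1).symm
  · have h1 : l = 1 := h.C0 l hl fun i => (hι ⟨i⟩).elim
    rw [h1, cn_one]

theorem split {z : G} (hz : z ∈ ZJ) (i : ι) : ∃ w ∈ Z i, ∃ c ∈ C i, c ∈ ZJ ∧ z = w * c := by
  obtain ⟨w, hw, c, hc, e⟩ := h.WC i z (h.ZJL hz)
  have key : ∀ k ∈ K, cn k w = w ∧ cn k c = c := by
    intro k hk
    refine h.uniq (h.cnW hk hw) hw (h.KC i k hk c hc) hc ?_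
    rw [← cn_mul, ← e, h.fix k hk z hz]
  have hcZ : c ∈ ZJ := h.mem c (h.CL i hc) fun k hk => (key k hk).2
  have hwZ : w ∈ Z i := by
    by_contra hn
    obtain ⟨k, hk, h1, -⟩ := h.full i
    exact h1 (h.free i k hk w hw hn (key k hk).1)
  exact ⟨w, hwZ, c, hc, hcZ, e⟩

/-- `[L, K] ≤ ZJ` -/
theorem comm_mem {k l : G} (hk : k ∈ K) (hl : l ∈ L) (i₀ : ι) : l⁻¹ * cn k l ∈ ZJ := by
  refine h.mem_of (mul_mem (inv_mem hl) (h.cnL hk hl i₀)) fun i => ?_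
  obtain ⟨w, hw, c, hc, e⟩ := h.WC i l hl
  refine ⟨w⁻¹ * cn k w, h.KW i k hk w hw, c⁻¹ * cn k c, mul_mem (inv_mem hc) (h.KC i k hk c hc), ?_⟩
  rw [e, cn_mul]
  have h1 : w⁻¹ * c⁻¹ = c⁻¹ * w⁻¹ := h.comm _ (inv_mem (h.WL i hw)) _ (inv_mem (h.CL i hc))
  have h2 : c⁻¹ * cn k w = cn k w * c⁻¹ := h.comm _ (inv_mem (h.CL i hc)) _ (h.WL i (h.cnW hk hw))
  calc (w * c)⁻¹ * (cn k w * cn k c) = (c⁻¹ * w⁻¹) * cn k w * cn k c := by group
    _ = w⁻¹ * (c⁻¹ * cn k w) * cn k c := by rw [← h1]; group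
    _ = w⁻¹ * cn k w * (c⁻¹ * cn k c) := by rw [h2]; group

/-- a vector `l` for which `κ ↦ [l, κ]` has two values -/
theorem single {l x : G} (hl : l ∈ L) (hx : x ≠ 1) (h2 : ∀ k ∈ K, cn k l = l ∨ l⁻¹ * cn k l = x)
    (hne : ∃ k ∈ K, cn k l ≠ l) :
    ∃ j, x ∈ Z j ∧ ∀ k ∈ K, (cn k l = l ↔ ∀ u ∈ W j, cn k u = u) := by
  -- an index with `w ∉ Z i`
  have key : ∀ i, ∀ w ∈ W i, ∀ c ∈ C i, l = w * c → w ∉ Z i → x ∈ Z i := by
    intro i w hw c hc e hn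
    obtain ⟨k, hk, h3, h4⟩ := h.full i
    have h5 : l⁻¹ * cn k l = w⁻¹ * cn k w := by
      rw [e, cn_mul, h4 c hc]
      have h1 : c⁻¹ * (w⁻¹ * cn k w) = w⁻¹ * cn k w * c⁻¹ :=
        h.comm _ (inv_mem (h.CL i hc)) _ (h.WL i (mul_mem (inv_mem hw) (h.cnW hk hw)))
      calc (w * c)⁻¹ * (cn k w * c) = c⁻¹ * (w⁻¹ * cn k w) * c := by group
        _ = w⁻¹ * cn k w * c⁻¹ * c := by rw [h1]
        _ = w⁻¹ * cn k w := by group
    rcases h2 k hk with h6 | h6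
    · rw [h6, inv_mul_cancel] at h5
      exact absurd (h.free i k hk w hw hn (inv_mul_eq_one.1 h5.symm).symm) h3
    · rw [← h6, h5]
      exact h.KW i k hk w hw
  have hex : ∃ j, ∃ w ∈ W j, ∃ c ∈ C j, l = w * c ∧ w ∉ Z j := by
    by_contra hcon
    push Not at hcon
    obtain ⟨k, hk, h3⟩ := hne
    apply h3
    refine h.fix k hk l (h.mem_of hl fun i => ?_)
    obtain ⟨w, hw, c, hc, e⟩ := h.WC i l hl
    exact ⟨w, hcon i w hw c hc e, c, hc, e⟩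
  obtain ⟨j, w, hw, c, hc, e, hn⟩ := hex
  have hxj := key j w hw c hc e hn
  refine ⟨j, hxj, fun k hk => ⟨fun h3 => ?_, fun h3 => ?_⟩⟩
  · have h4 := h.uniq (h.cnW hk hw) hw (h.KC j k hk c hc) hc (by rw [← cn_mul, ← e, h3])
    exact h.free j k hk w hw hn h4.1
  · have h4 : l⁻¹ * cn k l = 1 := by
      refine h.C0 _ (mul_mem (inv_mem hl) (h.cnL hk hl j)) fun i => ?_
      by_cases hij : i = j
      · subst hij
        exact h.comp_mem hk hw hc e (h3 w hw)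
      · obtain ⟨w', hw', c', hc', e'⟩ := h.WC i l hl
        refine h.comp_mem hk hw' hc' e' ?_
        by_cases hz : w' ∈ Z i
        · exact h.fix k hk w' (h.ZZJ i hz)
        · exfalso
          have h5 := key i w' hw' c' hc' e' hz
          have h6 : x ∈ W j ⊓ C j := mem_inf.2 ⟨h.ZW j hxj, h.WjC j i (Ne.symm hij) (h.ZW i h5)⟩
          rw [h.dir j, mem_bot] at h6
          exact hx h6
    exact (inv_mul_eq_one.1 h4).symm

/-- `ZJ ∩ ⋂_{j ∉ s} C_j ≤ ∏_{i ∈ s} Z_i` -/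
theorem le_iSup_Z (s : Finset ι) : ∀ z ∈ ZJ, (∀ j ∉ s, z ∈ C j) → z ∈ (⨆ i ∈ s, Z i : Subgroup G) := by
  classical
  induction s using Finset.induction_on with
  | empty =>
    intro z hz hc
    rw [h.C0 z (h.ZJL hz) fun j => hc j (Finset.notMem_empty j)]
    exact one_mem _
  | insert i s hi ih =>
    intro z hz hc
    obtain ⟨w, hw, c, hcC, hcZ, e⟩ := h.split hz i
    have h1 : c ∈ (⨆ i ∈ s, Z i : Subgroup G) := by
      refine ih c hcZ fun j hj => ?_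
      by_cases hij : j = i
      · exact hij ▸ hcC
      · have h2 : z ∈ C j := hc j (by simp only [Finset.mem_insert, not_or]; exact ⟨hij, hj⟩)
        have h3 : w ∈ C j := h.WjC j i hij (h.ZW i hw)
        have e1 : c = w⁻¹ * z := by rw [e]; group
        rw [e1]
        exact mul_mem (inv_mem h3) h2
    rw [e]
    refine mul_mem ?_ ?_
    · have h4 : Z i ≤ ⨆ j ∈ insert i s, Z j := le_iSup₂_of_le i (Finset.mem_insert_self i s) le_rfl
      exact h4 hw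
    · have h4 : (⨆ j ∈ s, Z j : Subgroup G) ≤ ⨆ j ∈ insert i s, Z j :=
        iSup₂_le fun j hj => le_iSup₂_of_le j (Finset.mem_insert_of_mem hj) le_rfl
      exact h4 h1

end Sp

/-- **The situation.** -/
structure Qt {ι : Type} (L ZJ : Subgroup G) (W Z C : ι → Subgroup G) (K X O : Subgroup G) (y : G) : Prop
    extends Sp L ZJ W Z C K where
  Xc : ∀ a ∈ X, ∀ b ∈ X, a * b = b * a
  LX : L ≤ X
  yX : ∀ x ∈ X, cn y x ∈ X
  oX : ∀ o ∈ O, ∀ x ∈ X, cn o x ∈ X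
  yK : ∀ k ∈ K, cn y⁻¹ k ∈ K
  yK' : ∀ k ∈ K, cn y k ∈ K
  oK : ∀ o ∈ O, ∀ k ∈ K, cn o⁻¹ k ∈ K
  oL : ∀ o ∈ O, ∀ x ∈ X, x⁻¹ * cn o x ∈ L
  cL : ∀ x ∈ X, (∀ o ∈ O, cn o x = x) → x ∈ L
  oZ : ∀ o ∈ O, ∀ z ∈ ZJ, cn o z = z

namespace Qt

variable {ι : Type} {L ZJ K X O : Subgroup G} {W Z C : ι → Subgroup G} {y : G} (h : Qt L ZJ W Z C K X O y)
include h

theorem cnKy {k : G} (v : G) : cn k (cn y v) = cn y (cn (cn y⁻¹ k) v) := by
  simp only [cn]; group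

theorem cnKo {k o : G} (v : G) : cn k (cn o v) = cn o (cn (cn o⁻¹ k) v) := by
  simp only [cn]; group

/-- **the key step**: `O` moves the centre `ζ^y` at most by a centre of `L` -/
theorem step {i : ι} {ζ o : G} (hζ : ζ ∈ Z i) (h1 : ζ ≠ 1) (ho : o ∈ O) :
    cn o (cn y ζ) = cn y ζ ∨ ∃ j, ∃ x ∈ Z j, x ≠ 1 ∧ cn o (cn y ζ) = cn y ζ * x ∧
      ∀ k ∈ K, ((∀ u ∈ W i, cn (cn y⁻¹ k) u = u) ↔ ∀ u ∈ W j, cn k u = u) := by
  set a := cn y ζ with ha
  by_cases haJ : a ∈ ZJ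
  · exact Or.inl (h.oZ o ho a haJ)
  by_cases hfix : cn o a = a
  · exact Or.inl hfix
  right
  have hLX := h.LX
  have hζX : ζ ∈ X := hLX (h.WL i (h.ZW i hζ))
  have haX : a ∈ X := h.yX ζ hζX
  have hoaX : cn o a ∈ X := h.oX o ho a haX
  have hoaJ : cn o a ∉ ZJ := by
    intro hc
    apply haJ
    have h2 : cn o (cn o a) = cn o a := h.oZ o ho _ hc
    have h3 : cn o a = a := by
      have h4 : cn o⁻¹ (cn o (cn o a)) = cn o⁻¹ (cn o a) := by rw [h2]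
      have h5 : ∀ u : G, cn o⁻¹ (cn o u) = u := fun u => by simp only [cn]; group
      rwa [h5, h5] at h4
    rwa [← h3]
  -- `w ∈ W i - Z i`
  obtain ⟨w, hw, hwZ⟩ : ∃ w ∈ W i, w ∉ Z i := by
    by_contra hcon
    push Not at hcon
    obtain ⟨k, hk, h2, -⟩ := h.full i
    exact h2 fun u hu => h.fix k hk u (h.ZZJ i (hcon u hu))
  set v := cn y w with hv
  have hvX : v ∈ X := h.yX w (hLX (h.WL i hw))
  set l := v⁻¹ * cn o v with hl
  have hlL : l ∈ L := h.oL o ho v hvX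
  have hlX : l ∈ X := hLX hlL
  have hov : cn o v = v * l := by rw [hl]; group
  -- the value `t(k) ∈ {1, ζ}`
  have ht : ∀ k ∈ K, (cn (cn y⁻¹ k) w = w ∧ cn k v = v) ∨ (cn (cn y⁻¹ k) w ≠ w ∧ cn k v = v * a) := by
    intro k hk
    have hk' := h.yK k hk
    by_cases h2 : cn (cn y⁻¹ k) w = w
    · left
      refine ⟨h2, ?_⟩
      rw [hv, h.cnKy, h2]
    · right
      refine ⟨h2, ?_⟩
      have h3 := h.KW i _ hk' w hw
      have h4 : w⁻¹ * cn (cn y⁻¹ k) w ≠ 1 := fun hc => h2 (inv_mul_eq_one.1 hc).symm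
      have h5 := h.two i _ h3 _ hζ h4 h1
      have h6 : cn (cn y⁻¹ k) w = w * ζ := by rw [← h5]; group
      rw [hv, h.cnKy, h6, cn_mul]
  -- the relation (+)
  have hr : ∀ k ∈ K, (cn (cn y⁻¹ k) w = w ∧ cn k l = l) ∨ (cn (cn y⁻¹ k) w ≠ w ∧ l⁻¹ * cn k l = a⁻¹ * cn o a) := by
    intro k hk
    have hrJ : l⁻¹ * cn k l ∈ ZJ := h.comm_mem hk hlL i
    have hrX : l⁻¹ * cn k l ∈ X := hLX (h.ZJL hrJ)
    have hk2 := h.oK o ho k hk
    have e1 : cn k (cn o v) = cn k v * l * (l⁻¹ * cn k l) := by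
      rw [hov, cn_mul]; group
    have e2 : cn k (cn o v) = cn o (cn (cn o⁻¹ k) v) := h.cnKo v
    rcases ht k hk with ⟨t1, t2⟩ | ⟨t1, t2⟩ <;> rcases ht _ hk2 with ⟨s1, s2⟩ | ⟨s1, s2⟩
    · left
      refine ⟨t1, ?_⟩
      rw [e2, s2, t2, hov] at e1
      have e3 : l⁻¹ * cn k l = 1 := by
        have : v * l * 1 = v * l * (l⁻¹ * cn k l) := by rw [mul_one]; exact e1
        exact (mul_left_cancel this).symm
      exact (inv_mul_eq_one.1 e3).symm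
    · exfalso
      apply hoaJ
      rw [e2, s2, t2, cn_mul, hov] at e1
      have e3 : cn o a = l⁻¹ * cn k l := mul_left_cancel e1
      rw [e3]; exact hrJ
    · exfalso
      apply haJ
      rw [e2, s2, t2, hov] at e1
      have e3 : v * a * l * (l⁻¹ * cn k l) = v * l * (a * (l⁻¹ * cn k l)) := by
        have : a * l = l * a := h.Xc a haX l hlX
        calc v * a * l * (l⁻¹ * cn k l) = v * (a * l) * (l⁻¹ * cn k l) := by group
          _ = v * (l * a) * (l⁻¹ * cn k l) := by rw [this]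
          _ = v * l * (a * (l⁻¹ * cn k l)) := by group
      rw [e3] at e1
      have e4 : a * (l⁻¹ * cn k l) = 1 := by
        have : v * l * (a * (l⁻¹ * cn k l)) = v * l * 1 := by rw [mul_one]; exact e1.symm
        exact mul_left_cancel this
      have e5 : a = (l⁻¹ * cn k l)⁻¹ := eq_inv_of_mul_eq_one_left e4
      rw [e5]; exact inv_mem hrJ
    · right
      refine ⟨t1, ?_⟩
      rw [e2, s2, t2, cn_mul, hov] at e1
      have e3 : v * a * l * (l⁻¹ * cn k l) = v * l * (a * (l⁻¹ * cn k l)) := by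
        have : a * l = l * a := h.Xc a haX l hlX
        calc v * a * l * (l⁻¹ * cn k l) = v * (a * l) * (l⁻¹ * cn k l) := by group
          _ = v * (l * a) * (l⁻¹ * cn k l) := by rw [this]
          _ = v * l * (a * (l⁻¹ * cn k l)) := by group
      rw [e3] at e1
      have e4 : cn o a = a * (l⁻¹ * cn k l) := mul_left_cancel e1
      rw [e4]; group
  -- `x = a⁻¹ a^o`
  set x := a⁻¹ * cn o a with hx
  have hx1 : x ≠ 1 := fun hc => hfix (inv_mul_eq_one.1 hc).symm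
  have hmv : ∃ k ∈ K, cn (cn y⁻¹ k) w ≠ w := by
    obtain ⟨k, hk, h2, -⟩ := h.full i
    refine ⟨cn y k, h.yK' k hk, ?_⟩
    have e : cn y⁻¹ (cn y k) = k := by rw [cn_cn]; simp [cn]
    rw [e]
    exact fun hc => h2 (h.free i k hk w hw hwZ hc)
  obtain ⟨j, hxj, hj⟩ := h.single hlL hx1 (fun k hk => (hr k hk).imp And.right And.right) (by
    obtain ⟨k, hk, h2⟩ := hmv
    refine ⟨k, hk, fun hc => ?_⟩
    rcases hr k hk with ⟨h3, -⟩ | ⟨-, h3⟩
    · exact h2 h3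
    · rw [hc, inv_mul_cancel] at h3
      exact hx1 h3.symm)
  refine ⟨j, x, hxj, hx1, by rw [hx]; group, fun k hk => ?_⟩
  rw [← hj k hk]
  constructor
  · intro h2
    rcases hr k hk with ⟨-, h3⟩ | ⟨h3, -⟩
    · exact h3
    · exact absurd (h2 w hw) h3
  · intro h2
    rcases hr k hk with ⟨h3, -⟩ | ⟨-, h3⟩
    · exact h.free i _ (h.yK k hk) w hw hwZ h3
    · rw [h2, inv_mul_cancel] at h3
      exact absurd h3.symm hx1

/-- **`O` centralises all `Z_i^y`**, if `y` fixes some `z ∈ ZJ` of full support. -/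
theorem fixO [Finite ι] {z : G} (hz : z ∈ ZJ) (hzf : ∀ i, z ∉ C i) (hyz : cn y z = z) {i : ι} {ζ o : G}
    (hζ : ζ ∈ Z i) (ho : o ∈ O) : cn o (cn y ζ) = cn y ζ := by
  classical
  cases nonempty_fintype ι
  by_cases h1 : ζ = 1
  · rw [h1, cn_one, cn_one]
  by_contra hne
  rcases h.step hζ h1 ho with h2 | ⟨j, x, hxj, hx1, hxe, hk⟩
  · exact hne h2
  -- `z = ζ c`
  obtain ⟨w, hw, c, hcC, hcZ, e⟩ := h.split hz i
  have hw1 : w ≠ 1 := by
    rintro rfl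
    rw [one_mul] at e
    exact hzf i (e ▸ hcC)
  have hwζ : w = ζ := h.two i w hw ζ hζ hw1 h1
  subst hwζ
  -- `c ∈ ∏_{i' ≠ i} Z_{i'}`
  have hc1 : c ∈ (⨆ i' ∈ Finset.univ.erase i, Z i' : Subgroup G) := by
    refine h.le_iSup_Z _ c hcZ fun j' hj' => ?_
    have : j' = i := by
      by_contra hcon
      exact hj' (Finset.mem_erase.2 ⟨hcon, Finset.mem_univ _⟩)
    exact this ▸ hcC
  let N : Subgroup G :=
    { carrier := {x' | x' ∈ X ∧ (cn y x')⁻¹ * cn o (cn y x') ∈ C j}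
      one_mem' := ⟨one_mem _, by rw [cn_one, cn_one, inv_one, one_mul]; exact one_mem _⟩
      mul_mem' := by
        rintro p q ⟨hp, hp'⟩ ⟨hq, hq'⟩
        refine ⟨mul_mem hp hq, ?_⟩
        have hpX := h.yX p hp
        have hqX := h.yX q hq
        have hpo := h.oX o ho _ hpX
        have hqo := h.oX o ho _ hqX
        have e1 : (cn y (p * q))⁻¹ * cn o (cn y (p * q)) =
            ((cn y p)⁻¹ * cn o (cn y p)) * ((cn y q)⁻¹ * cn o (cn y q)) := by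
          rw [cn_mul, cn_mul]
          have h3 : (cn y q)⁻¹ * ((cn y p)⁻¹ * cn o (cn y p)) = ((cn y p)⁻¹ * cn o (cn y p)) * (cn y q)⁻¹ :=
            h.Xc _ (inv_mem hqX) _ (mul_mem (inv_mem hpX) hpo)
          calc (cn y p * cn y q)⁻¹ * (cn o (cn y p) * cn o (cn y q)) =
              (cn y q)⁻¹ * ((cn y p)⁻¹ * cn o (cn y p)) * cn o (cn y q) := by group
            _ = ((cn y p)⁻¹ * cn o (cn y p)) * (cn y q)⁻¹ * cn o (cn y q) := by rw [h3]
            _ = _ := by group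
        rw [e1]
        exact mul_mem hp' hq'
      inv_mem' := by
        rintro p ⟨hp, hp'⟩
        refine ⟨inv_mem hp, ?_⟩
        have hpX := h.yX p hp
        have hpo := h.oX o ho _ hpX
        rw [cn_inv, cn_inv]
        have e1 : (cn y p)⁻¹⁻¹ * (cn o (cn y p))⁻¹ = ((cn y p)⁻¹ * cn o (cn y p))⁻¹ := by
          have h3 : cn y p * (cn o (cn y p))⁻¹ = (cn o (cn y p))⁻¹ * cn y p := h.Xc _ hpX _ (inv_mem hpo)
          rw [inv_inv, h3]; group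
        rw [e1]
        exact inv_mem hp' }
  have hN : (⨆ i' ∈ Finset.univ.erase i, Z i' : Subgroup G) ≤ N := by
    refine iSup₂_le fun i' hi' => ?_
    have hii : i' ≠ i := (Finset.mem_erase.1 hi').1
    intro t ht
    refine ⟨h.LX (h.WL i' (h.ZW i' ht)), ?_⟩
    by_cases ht1 : t = 1
    · rw [ht1, cn_one, cn_one, inv_one, one_mul]; exact one_mem _
    rcases h.step ht ht1 ho with h3 | ⟨j', x', hxj', hx1', hxe', hk'⟩
    · rw [h3, inv_mul_cancel]; exact one_mem _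
    · have e1 : (cn y t)⁻¹ * cn o (cn y t) = x' := by rw [hxe']; group
      rw [e1]
      have hjj : j ≠ j' := by
        rintro rfl
        obtain ⟨k, hkK, h4, h5⟩ := h.full i
        have e2 : cn y⁻¹ (cn y k) = k := by rw [cn_cn]; simp [cn]
        have h6 := hk (cn y k) (h.yK' k hkK)
        have h7 := hk' (cn y k) (h.yK' k hkK)
        rw [e2] at h6 h7
        exact h4 (h6.2 (h7.1 fun u hu => h5 u (h.WjC i i' (Ne.symm hii) hu)))
      exact h.WjC j j' hjj (h.ZW j' hxj')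
  have h3 := (hN hc1).2
  -- `z = z^y = z^{yo}`
  have e1 : z = cn y w * cn y c := by rw [← cn_mul, ← e, hyz]
  have e2 : cn o z = z := h.oZ o ho z hz
  rw [e1, cn_mul, hxe] at e2
  have hwX := h.yX w (h.LX (h.WL i (h.ZW i hw)))
  have hcX := h.yX c (h.LX (h.CL i hcC))
  have hxX : x ∈ X := h.LX (h.WL j (h.ZW j hxj))
  have e3 : x * cn o (cn y c) = cn y c := by
    have : cn y w * (x * cn o (cn y c)) = cn y w * cn y c := by rw [← e2]; group
    exact mul_left_cancel this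
  have e4 : x⁻¹ = (cn y c)⁻¹ * cn o (cn y c) := by
    have h4 : x * cn o (cn y c) = cn o (cn y c) * x := h.Xc _ hxX _ (h.oX o ho _ hcX)
    rw [h4] at e3
    rw [eq_mul_inv_of_mul_eq e3, inv_mul_cancel_left]
  have h4 : x⁻¹ ∈ C j := by rw [e4]; exact h3
  have h5 : x ∈ W j ⊓ C j := mem_inf.2 ⟨h.ZW j hxj, by simpa using inv_mem h4⟩
  rw [h.dir j, mem_bot] at h5
  exact hx1 h5

/-- **`y` normalises `ZJ`.** -/
theorem norm [Finite ι] {z : G} (hz : z ∈ ZJ) (hzf : ∀ i, z ∉ C i) (hyz : cn y z = z) {x : G} (hx : x ∈ ZJ) :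
    cn y x ∈ ZJ := by
  classical
  cases nonempty_fintype ι
  have h1 : ZJ ≤ (⨆ i ∈ (Finset.univ : Finset ι), Z i : Subgroup G) := fun x hx =>
    h.le_iSup_Z Finset.univ x hx fun j hj => absurd (Finset.mem_univ j) hj
  let N : Subgroup G := ZJ.comap (MulAut.conj y).toMonoidHom
  have h2 : (⨆ i ∈ (Finset.univ : Finset ι), Z i : Subgroup G) ≤ N := by
    refine iSup₂_le fun i _ => ?_
    intro ζ hζ
    change cn y ζ ∈ ZJ
    have h3 : cn y ζ ∈ X := h.yX ζ (h.LX (h.WL i (h.ZW i hζ)))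
    have h4 : cn y ζ ∈ L := h.cL _ h3 fun o ho => h.fixO hz hzf hyz hζ ho
    refine h.mem _ h4 fun k hk => ?_
    rw [h.cnKy, h.fix _ (h.yK k hk) ζ (h.ZZJ i hζ)]
  exact h2 (h1 hx)

end Qt

end Cfsg.Agent.Omega.NO3S.CaseLW.Quiet
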