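import Mathlib.GroupTheory.Commutator.Basic
import Mathlib.Algebra.Group.Subgroup.Pointwise
import Mathlib.Algebra.Group.Subgroup.Finite
import Mathlib.SetTheory.Cardinal.Finite
import Mathlib.Data.Set.Card
import Mathlib.Tactic.Group

/-!
# The quiet weird parabolic, all `q` (546 #24710, 637 #24800)

`V` elementary abelian (only: abelian), `L = (+) W_i` inside, `Z_i = C_(W_i)(K)`, `K` induces the full product of the
root groups on `L`, `O` centralises `L`, `[V,O] <= L`, `C_V(O) <= L`. An element `y` of `N(K) n N(V)` which fixes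
`z = prod z_i` (`1 <> z_i in Z_i`) normalises `R_0 = (+) Z_i`.
-/

set_option autoImplicit false

namespace Cfsg.Agent.Omega.NO3S.CaseLW.QuietN

section Comm

variable {A ι κ : Type*} [CommGroup A]

/-- Components of a product in an independent family are unique. -/
theorem eq_one_of_prod [Fintype ι] [DecidableEq ι] {Z : ι → Subgroup A} (ind : ∀ i, Z i ⊓ (⨆ j, ⨆ _ : j ≠ i, Z j) = ⊥)
    {z : ι → A} (hz : ∀ i, z i ∈ Z i) (h : ∏ i, z i = 1) (i : ι) : z i = 1 := by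
  have h1 : z i * ∏ j ∈ Finset.univ.erase i, z j = 1 := by
    rw [Finset.mul_prod_erase Finset.univ z (Finset.mem_univ i)]; exact h
  have h2 : z i = (∏ j ∈ Finset.univ.erase i, z j)⁻¹ := eq_inv_of_mul_eq_one_left h1
  have h3 : z i ∈ (⨆ j, ⨆ _ : j ≠ i, Z j) := by
    rw [h2]
    refine inv_mem (Subgroup.prod_mem _ fun j hj => ?_)
    exact Subgroup.mem_iSup_of_mem j (Subgroup.mem_iSup_of_mem (Finset.ne_of_mem_erase hj) (hz j))
  have h4 : z i ∈ Z i ⊓ (⨆ j, ⨆ _ : j ≠ i, Z j) := ⟨hz i, h3⟩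
  rw [ind i] at h4
  exact h4

/-- Decomposition of the members of a join of subgroups. -/
theorem exists_prod [Fintype ι] [DecidableEq ι] {W : ι → Subgroup A} {x : A} (hx : x ∈ ⨆ i, W i) :
    ∃ w : ι → A, (∀ i, w i ∈ W i) ∧ x = ∏ i, w i := by
  induction hx using Subgroup.iSup_induction' with
  | hp i x hx =>
    refine ⟨Function.update (fun _ => 1) i x, fun j => ?_, ?_⟩
    · by_cases h : j = i
      · subst h; simpa using hx
      · rw [Function.update_of_ne h]; exact one_mem _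
    · rw [Finset.prod_update_of_mem (Finset.mem_univ i)]; simp
  | h1 => exact ⟨fun _ => 1, fun i => one_mem _, by simp⟩
  | hmul x y _ _ ihx ihy =>
    obtain ⟨w, hw, rfl⟩ := ihx
    obtain ⟨w', hw', rfl⟩ := ihy
    exact ⟨fun i => w i * w' i, fun i => mul_mem (hw i) (hw' i), by rw [Finset.prod_mul_distrib]⟩

/-- **The commutative core.** `D k = [·,k]`, `E = [·,o]`, `Y` = conjugation by `y`. -/
theorem core [Fintype ι] [DecidableEq ι] {W Z : ι → Subgroup A} {D : κ → A →* A} {π : κ → κ} {Y : A →* A} {E : A →* A}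
    (hfin : ∀ i, Finite (Z i)) (card : ∀ i j, Nat.card (Z i) = Nat.card (Z j))
    (ind : ∀ i, Z i ⊓ (⨆ j, ⨆ _ : j ≠ i, Z j) = ⊥)
    (ne : ∀ i, ∃ w ∈ W i, w ∉ Z i)
    (com : ∀ i k, ∀ w ∈ W i, D k w ∈ Z i)
    (cZ : ∀ i k, ∀ z ∈ Z i, D k z = 1)
    (one : ∀ i, ∀ w ∈ W i, w ∉ Z i → ∀ z ∈ Z i, ∃ k, (∀ j, j ≠ i → ∀ w' ∈ W j, D k w' = 1) ∧ D k w = z)
    (ker : ∀ i, ∀ w ∈ W i, w ∉ Z i → ∀ k, D k w = 1 → ∀ w' ∈ W i, D k w' = 1)
    (hπ : ∀ k, ∃ k₀, π k₀ = k) (hD : ∀ k v, D (π k) (Y v) = Y (D k v))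
    (EV : ∀ i, ∀ w ∈ W i, E (Y w) ∈ ⨆ i, W i)
    {z : ι → A} (hz : ∀ i, z i ∈ Z i) (hz1 : ∀ i, z i ≠ 1) (hEz : E (Y (∏ i, z i)) = 1)
    (dich : ∀ i, (∀ x ∈ Z i, E (Y x) = 1) ∨ (∀ k, ∀ w ∈ W i, E (D k (Y w)) = D k (E (Y w)))) :
    ∀ i, ∀ x ∈ Z i, E (Y x) = 1 := by
  classical
  -- `U i j`: `j` is in the support of `i`
  choose w₀ hw₀ hw₀' using ne
  have hl : ∀ i, ∃ l : ι → A, (∀ j, l j ∈ W j) ∧ E (Y (w₀ i)) = ∏ j, l j := fun i => exists_prod (EV i _ (hw₀ i))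
  choose l hlW hlE using hl
  -- every member of `Z i` is `D k (w₀ i)`
  have hrep : ∀ i, ∀ x ∈ Z i, ∃ k, D (π k) (Y (w₀ i)) = Y x := by
    intro i x hx
    obtain ⟨k, -, hk⟩ := one i (w₀ i) (hw₀ i) (hw₀' i) x hx
    exact ⟨k, by rw [hD, hk]⟩
  -- the alternative for a moved index
  have hmov : ∀ i, (∀ k, ∀ w ∈ W i, E (D k (Y w)) = D k (E (Y w))) → ∀ j, l i j ∉ Z j →
      (∀ x ∈ Z i, E (Y x) ∈ Z j) ∧ (∀ x ∈ Z i, E (Y x) = 1 → x = 1) := by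
    intro i hi j hj
    -- the hom `x ↦ E (Y x)` on `Z i`
    have hsub : ∀ ζ ∈ Z j, ∃ x ∈ Z i, E (Y x) = ζ := by
      intro ζ hζ
      obtain ⟨k, hk1, hk2⟩ := one j (l i j) (hlW i j) hj ζ hζ
      obtain ⟨k₀, rfl⟩ := hπ k
      refine ⟨D k₀ (w₀ i), com i k₀ _ (hw₀ i), ?_⟩
      rw [← hD, hi _ _ (hw₀ i), hlE i, map_prod, Finset.prod_eq_single j, hk2]
      · intro m _ hm
        exact hk1 m hm _ (hlW i m)
      · intro h; exact absurd (Finset.mem_univ j) h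
    let f : Z i → A := fun x => E (Y x)
    have := hfin i
    have := hfin j
    have hle : (Z j : Set A) ⊆ Set.range f := by
      intro ζ hζ
      obtain ⟨x, hx, h⟩ := hsub ζ hζ
      exact ⟨⟨x, hx⟩, h⟩
    have hfr : (Set.range f).Finite := Set.finite_range f
    have hc1 : Nat.card (Set.range f) ≤ Nat.card (Z i) := Finite.card_range_le f
    have hc2 : Nat.card (Z j) ≤ Nat.card (Set.range f) := Set.ncard_le_ncard hle hfr
    have heq : (Z j : Set A) = Set.range f :=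
      Set.eq_of_subset_of_ncard_le hle (hc1.trans (card i j).le) hfr
    have hinj : Function.Injective f := by
      have h6 : Nat.card (Z i) = Nat.card (Set.range f) := by
        refine le_antisymm ?_ hc1
        rw [card i j]; exact hc2
      have h7 : Function.Bijective (Set.rangeFactorization f) :=
        (Nat.bijective_iff_surjective_and_card _).2 ⟨Set.rangeFactorization_surjective, h6⟩
      intro a b hab
      exact h7.1 (Subtype.ext hab)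
    refine ⟨fun x hx => ?_, fun x hx h1 => ?_⟩
    · have : f ⟨x, hx⟩ ∈ Set.range f := ⟨_, rfl⟩
      rw [← heq] at this
      exact this
    · have h8 : f ⟨x, hx⟩ = f 1 := by
        change E (Y x) = E (Y ((1 : Z i) : A))
        rw [h1]; simp
      have h9 := hinj h8
      exact congrArg Subtype.val h9
  -- no support: nothing is moved
  have hnone : ∀ i, (∀ k, ∀ w ∈ W i, E (D k (Y w)) = D k (E (Y w))) → (∀ j, l i j ∈ Z j) →
      ∀ x ∈ Z i, E (Y x) = 1 := by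
    intro i hi hj x hx
    obtain ⟨k, hk⟩ := hrep i x hx
    rw [← hk, hi _ _ (hw₀ i), hlE i, map_prod]
    exact Finset.prod_eq_one fun j _ => cZ j _ _ (hj j)
  -- kernels
  have hker : ∀ i, (∀ k, ∀ w ∈ W i, E (D k (Y w)) = D k (E (Y w))) → ∀ j, l i j ∉ Z j →
      ∀ k, (∀ w ∈ W i, D k w = 1) ↔ (∀ w ∈ W j, D (π k) w = 1) := by
    intro i hi j hj k
    have hall : ∀ m, m ≠ j → l i m ∈ Z m := by
      intro m hm
      by_contra hm'
      obtain ⟨h1, h1'⟩ := hmov i hi j hj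
      obtain ⟨h2, -⟩ := hmov i hi m hm'
      have h3 : E (Y (z i)) ∈ Z j ⊓ (⨆ j', ⨆ _ : j' ≠ j, Z j') :=
        ⟨h1 _ (hz i), Subgroup.mem_iSup_of_mem m (Subgroup.mem_iSup_of_mem hm (h2 _ (hz i)))⟩
      rw [ind j] at h3
      exact hz1 i (h1' _ (hz i) h3)
    have hval : E (Y (D k (w₀ i))) = D (π k) (l i j) := by
      rw [← hD, hi _ _ (hw₀ i), hlE i, map_prod, Finset.prod_eq_single j]
      · intro m _ hm
        exact cZ m _ _ (hall m hm)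
      · intro h; exact absurd (Finset.mem_univ j) h
    constructor
    · intro h
      rw [h _ (hw₀ i), map_one, map_one] at hval
      exact ker j _ (hlW i j) hj _ hval.symm
    · intro h
      rw [h _ (hlW i j)] at hval
      have h4 := (hmov i hi j hj).2 _ (com i k _ (hw₀ i)) hval
      exact ker i _ (hw₀ i) (hw₀' i) _ h4
  -- the support map is injective
  have hinj : ∀ i i', (∀ k, ∀ w ∈ W i, E (D k (Y w)) = D k (E (Y w))) →
      (∀ k, ∀ w ∈ W i', E (D k (Y w)) = D k (E (Y w))) → ∀ j, l i j ∉ Z j → l i' j ∉ Z j → i = i' := by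
    intro i i' hi hi' j hj hj'
    by_contra hne
    obtain ⟨k, hk1, hk2⟩ := one i (w₀ i) (hw₀ i) (hw₀' i) (z i) (hz i)
    have h1 : ∀ w ∈ W i', D k w = 1 := hk1 i' (Ne.symm hne)
    have h2 := (hker i' hi' j hj' k).1 h1
    have h3 := (hker i hi j hj k).2 h2
    rw [h3 _ (hw₀ i)] at hk2
    exact hz1 i hk2.symm
  -- the sum
  have hsum : ∏ i, E (Y (z i)) = 1 := by
    rw [← map_prod, ← map_prod]; exact hEz
  have hfixz : ∀ i, E (Y (z i)) = 1 := by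
    intro i
    by_contra hne
    have hi : ∀ k, ∀ w ∈ W i, E (D k (Y w)) = D k (E (Y w)) := by
      rcases dich i with h | h
      · exact absurd (h _ (hz i)) hne
      · exact h
    obtain ⟨j, hj⟩ : ∃ j, l i j ∉ Z j := by
      by_contra h
      push Not at h
      exact hne (hnone i hi h _ (hz i))
    have h1 : E (Y (z i)) ∈ Z j := (hmov i hi j hj).1 _ (hz i)
    have h2 : E (Y (z i)) * ∏ m ∈ Finset.univ.erase i, E (Y (z m)) = 1 := by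
      rw [Finset.mul_prod_erase Finset.univ (fun m => E (Y (z m))) (Finset.mem_univ i)]; exact hsum
    have h3 : E (Y (z i)) = (∏ m ∈ Finset.univ.erase i, E (Y (z m)))⁻¹ := eq_inv_of_mul_eq_one_left h2
    have h4 : E (Y (z i)) ∈ (⨆ j', ⨆ _ : j' ≠ j, Z j') := by
      rw [h3]
      refine inv_mem (Subgroup.prod_mem _ fun m hm => ?_)
      by_cases hm1 : E (Y (z m)) = 1
      · rw [hm1]; exact one_mem _
      · have hi' : ∀ k, ∀ w ∈ W m, E (D k (Y w)) = D k (E (Y w)) := by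
          rcases dich m with h | h
          · exact absurd (h _ (hz m)) hm1
          · exact h
        obtain ⟨j', hj'⟩ : ∃ j, l m j ∉ Z j := by
          by_contra h
          push Not at h
          exact hm1 (hnone m hi' h _ (hz m))
        have hjj : j' ≠ j := by
          rintro rfl
          exact Finset.ne_of_mem_erase hm (hinj m i hi' hi _ hj' hj)
        exact Subgroup.mem_iSup_of_mem j' (Subgroup.mem_iSup_of_mem hjj ((hmov m hi' j' hj').1 _ (hz m)))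
    have h5 : E (Y (z i)) ∈ Z j ⊓ (⨆ j', ⨆ _ : j' ≠ j, Z j') := ⟨h1, h4⟩
    rw [ind j] at h5
    exact hne h5
  intro i x hx
  rcases dich i with h | hi
  · exact h x hx
  · by_cases h : ∀ j, l i j ∈ Z j
    · exact hnone i hi h x hx
    · push Not at h
      obtain ⟨j, hj⟩ := h
      exact absurd ((hmov i hi j hj).2 _ (hz i) (hfixz i)) (hz1 i)

end Comm

/-! ### The group form -/

section Grp

open scoped Pointwise

variable {G : Type*} [Group G] {ι : Type*}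

/-- `K` acts on `L = (+) W i ≤ V` as the full product of the root groups: `Z i = [w, K]` for `w ∈ W i \ Z i`;
`O` centralises `L` and normalises `K`, `V`. -/
structure QS (V L K O : Subgroup G) (W Z : ι → Subgroup G) : Prop where
  comV : ∀ a ∈ V, ∀ b ∈ V, a * b = b * a
  nK : ∀ k ∈ K, ∀ v ∈ V, k * v * k⁻¹ ∈ V
  nO : ∀ o ∈ O, ∀ v ∈ V, o * v * o⁻¹ ∈ V
  nKO : ∀ o ∈ O, ∀ k ∈ K, o * k * o⁻¹ ∈ K
  LV : L ≤ V
  OL : ∀ o ∈ O, ∀ l ∈ L, o * l * o⁻¹ = l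
  LW : L = ⨆ i, W i
  ZW : ∀ i, Z i ≤ W i
  fin : ∀ i, Finite (Z i)
  card : ∀ i j, Nat.card (Z i) = Nat.card (Z j)
  ne : ∀ i, ∃ w ∈ W i, w ∉ Z i
  ind : ∀ i, Z i ⊓ (⨆ j, ⨆ _ : j ≠ i, Z j) = ⊥
  /-- `K` centralises `Z i` -/
  cZ : ∀ i, ∀ k ∈ K, ∀ z ∈ Z i, k * z * k⁻¹ = z
  /-- `C_L(K) = (+) Z i` -/
  cL : ∀ l ∈ L, (∀ k ∈ K, k * l * k⁻¹ = l) → l ∈ ⨆ i, Z i
  com : ∀ i, ∀ k ∈ K, ∀ w ∈ W i, k * w * k⁻¹ * w⁻¹ ∈ Z i
  sur : ∀ i, ∀ k ∈ K, (∃ w ∈ W i, k * w * k⁻¹ * w⁻¹ ≠ 1) → ∀ z ∈ Z i, ∃ w ∈ W i, k * w * k⁻¹ * w⁻¹ = z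
  one : ∀ i, ∀ w ∈ W i, w ∉ Z i → ∀ z ∈ Z i, ∃ k ∈ K, (∀ j, j ≠ i → ∀ w' ∈ W j, k * w' * k⁻¹ * w'⁻¹ = 1) ∧
    k * w * k⁻¹ * w⁻¹ = z
  ker : ∀ i, ∀ w ∈ W i, w ∉ Z i → ∀ k ∈ K, k * w * k⁻¹ * w⁻¹ = 1 → ∀ w' ∈ W i, k * w' * k⁻¹ * w'⁻¹ = 1

/-- The commutator map `v ↦ [k, v]` of the abelian group `V`. -/
def cmap {V : Subgroup G} (hV : ∀ a ∈ V, ∀ b ∈ V, a * b = b * a) (k : G) (hk : ∀ v ∈ V, k * v * k⁻¹ ∈ V) :
    letI : CommGroup V := { (inferInstance : Group V) with mul_comm := fun a b => Subtype.ext (hV a a.2 b b.2) }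
    V →* V :=
  letI : CommGroup V := { (inferInstance : Group V) with mul_comm := fun a b => Subtype.ext (hV a a.2 b b.2) }
  { toFun := fun v => ⟨k * v * k⁻¹ * (v : G)⁻¹, mul_mem (hk v v.2) (inv_mem v.2)⟩
    map_one' := Subtype.ext (by simp)
    map_mul' := fun a b => Subtype.ext (by
      change k * ((a : G) * b) * k⁻¹ * ((a : G) * b)⁻¹ = (k * a * k⁻¹ * (a : G)⁻¹) * (k * b * k⁻¹ * (b : G)⁻¹)
      have h1 := hV _ (hk b b.2) _ (inv_mem a.2)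
      have h2 := hV _ (inv_mem a.2) _ (inv_mem b.2)
      calc k * ((a : G) * b) * k⁻¹ * ((a : G) * b)⁻¹
          = (k * a * k⁻¹) * ((k * b * k⁻¹) * ((b : G)⁻¹ * (a : G)⁻¹)) := by group
        _ = (k * a * k⁻¹) * (((k * b * k⁻¹) * (a : G)⁻¹) * (b : G)⁻¹) := by rw [← h2]; group
        _ = (k * a * k⁻¹) * (((a : G)⁻¹ * (k * b * k⁻¹)) * (b : G)⁻¹) := by rw [h1]
        _ = (k * a * k⁻¹ * (a : G)⁻¹) * (k * b * k⁻¹ * (b : G)⁻¹) := by group) }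

theorem mem_iSup_sub {V : Subgroup G} {Z : ι → Subgroup G} (h : ∀ i, Z i ≤ V) (x : V) :
    x ∈ ⨆ i, (Z i).subgroupOf V ↔ (x : G) ∈ ⨆ i, Z i := by
  have h1 : (⨆ i, (Z i).subgroupOf V).map V.subtype = ⨆ i, Z i := by
    rw [Subgroup.map_iSup]
    exact iSup_congr fun i => Subgroup.map_subgroupOf_eq_of_le (h i)
  rw [← h1]
  exact (Subgroup.mem_map_iff_mem (Subgroup.subtype_injective V)).symm

theorem mem_iSup_sub' {V : Subgroup G} {Z : ι → Subgroup G} (h : ∀ i, Z i ≤ V) (i : ι) (x : V) :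
    x ∈ (⨆ j, ⨆ _ : j ≠ i, (Z j).subgroupOf V) ↔ (x : G) ∈ (⨆ j, ⨆ _ : j ≠ i, Z j) := by
  have h1 : (⨆ j, ⨆ _ : j ≠ i, (Z j).subgroupOf V).map V.subtype = (⨆ j, ⨆ _ : j ≠ i, Z j) := by
    rw [Subgroup.map_iSup]
    refine iSup_congr fun j => ?_
    rw [Subgroup.map_iSup]
    exact iSup_congr fun _ => Subgroup.map_subgroupOf_eq_of_le (h j)
  rw [← h1]
  exact (Subgroup.mem_map_iff_mem (Subgroup.subtype_injective V)).symm

theorem QS.WL {V L K O : Subgroup G} {W Z : ι → Subgroup G} (h : QS V L K O W Z) (i : ι) : W i ≤ L :=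
  h.LW ▸ le_iSup W i

theorem QS.WV {V L K O : Subgroup G} {W Z : ι → Subgroup G} (h : QS V L K O W Z) (i : ι) : W i ≤ V :=
  (h.WL i).trans h.LV

theorem QS.ZL {V L K O : Subgroup G} {W Z : ι → Subgroup G} (h : QS V L K O W Z) : (⨆ i, Z i) ≤ L :=
  iSup_le fun i => (h.ZW i).trans (h.WL i)

theorem QS.dmul {V L K O : Subgroup G} {W Z : ι → Subgroup G} (h : QS V L K O W Z) {g a b : G}
    (hg : ∀ v ∈ V, g * v * g⁻¹ ∈ V) (ha : a ∈ V) (hb : b ∈ V) :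
    g * (a * b) * g⁻¹ * (a * b)⁻¹ = (g * a * g⁻¹ * a⁻¹) * (g * b * g⁻¹ * b⁻¹) := by
  have h1 := h.comV _ (hg b hb) _ (inv_mem ha)
  have h2 := h.comV _ (inv_mem ha) _ (inv_mem hb)
  calc g * (a * b) * g⁻¹ * (a * b)⁻¹
      = (g * a * g⁻¹) * ((g * b * g⁻¹) * (b⁻¹ * a⁻¹)) := by group
    _ = (g * a * g⁻¹) * (((g * b * g⁻¹) * a⁻¹) * b⁻¹) := by rw [← h2]; group
    _ = (g * a * g⁻¹) * ((a⁻¹ * (g * b * g⁻¹)) * b⁻¹) := by rw [h1]
    _ = (g * a * g⁻¹ * a⁻¹) * (g * b * g⁻¹ * b⁻¹) := by group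

/-- `[L, K] ≤ R₀`. -/
theorem QS.comL {V L K O : Subgroup G} {W Z : ι → Subgroup G} (h : QS V L K O W Z) {k l : G} (hk : k ∈ K)
    (hl : l ∈ L) : k * l * k⁻¹ * l⁻¹ ∈ ⨆ i, Z i := by
  have hl' : l ∈ ⨆ i, W i := h.LW ▸ hl
  clear hl
  induction hl' using Subgroup.iSup_induction' with
  | hp i x hx => exact Subgroup.mem_iSup_of_mem i (h.com i k hk x hx)
  | h1 => simp
  | hmul x y hx hy ihx ihy =>
    have hx' : x ∈ V := h.LV (h.LW ▸ hx)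
    have hy' : y ∈ V := h.LV (h.LW ▸ hy)
    rw [h.dmul (h.nK k hk) hx' hy']
    exact mul_mem ihx ihy

theorem idy (k y v : G) : k * (y * v * y⁻¹) * k⁻¹ * (y * v * y⁻¹)⁻¹ =
    y * ((y⁻¹ * k * y) * v * (y⁻¹ * k * y)⁻¹ * v⁻¹) * y⁻¹ := by group

/-- The commuting relation: `Z_i^y ≤ R₀`, or `o` and `K` commute on `W_i^y` (in the commutator sense). -/
theorem QS.dich {V L K O : Subgroup G} {W Z : ι → Subgroup G} (h : QS V L K O W Z) {y : G}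
    (hyK' : ∀ k ∈ K, y⁻¹ * k * y ∈ K) (hyV : ∀ v ∈ V, y * v * y⁻¹ ∈ V)
    (vo : ∀ o ∈ O, ∀ l ∈ L, o * (y * l * y⁻¹) * o⁻¹ * (y * l * y⁻¹)⁻¹ ∈ L) {o : G} (ho : o ∈ O) (i : ι)
    (hi : ¬ ∀ x ∈ Z i, y * x * y⁻¹ ∈ ⨆ j, Z j) {k : G} (hk : k ∈ K) {w : G} (hw : w ∈ W i) :
    o * (k * (y * w * y⁻¹) * k⁻¹ * (y * w * y⁻¹)⁻¹) * o⁻¹ * (k * (y * w * y⁻¹) * k⁻¹ * (y * w * y⁻¹)⁻¹)⁻¹ =
      k * (o * (y * w * y⁻¹) * o⁻¹ * (y * w * y⁻¹)⁻¹) * k⁻¹ * (o * (y * w * y⁻¹) * o⁻¹ * (y * w * y⁻¹)⁻¹)⁻¹ := by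
  -- `K` centralises `Z_i^y`
  have cy : ∀ x ∈ Z i, ∀ k ∈ K, k * (y * x * y⁻¹) * k⁻¹ = y * x * y⁻¹ := by
    intro x hx k hk
    have h1 := h.cZ i _ (hyK' k hk) x hx
    calc k * (y * x * y⁻¹) * k⁻¹ = y * ((y⁻¹ * k * y) * x * (y⁻¹ * k * y)⁻¹) * y⁻¹ := by group
      _ = y * x * y⁻¹ := by rw [h1]
  have hk' : o⁻¹ * k * o ∈ K := by
    have := h.nKO _ (inv_mem ho) k hk
    rwa [inv_inv] at this
  set k' : G := o⁻¹ * k * o with hk'def
  -- commutators of `W_i^y` with `K`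
  have hcomm : ∀ k ∈ K, ∀ w ∈ W i, ∃ x ∈ Z i, k * (y * w * y⁻¹) * k⁻¹ * (y * w * y⁻¹)⁻¹ = y * x * y⁻¹ := by
    intro k hk w hw
    exact ⟨_, h.com i _ (hyK' k hk) w hw, idy k y w⟩
  -- the basic relation
  have hrel : ∀ w ∈ W i,
      o * (k' * (y * w * y⁻¹) * k'⁻¹ * (y * w * y⁻¹)⁻¹) * o⁻¹ =
        (k * (o * (y * w * y⁻¹) * o⁻¹ * (y * w * y⁻¹)⁻¹) * k⁻¹ * (o * (y * w * y⁻¹) * o⁻¹ * (y * w * y⁻¹)⁻¹)⁻¹) *
          (k * (y * w * y⁻¹) * k⁻¹ * (y * w * y⁻¹)⁻¹) := by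
    intro w hw
    have hvV : y * w * y⁻¹ ∈ V := hyV w (h.WV i hw)
    have hlV : o * (y * w * y⁻¹) * o⁻¹ * (y * w * y⁻¹)⁻¹ ∈ V := h.LV (vo o ho w (h.WL i hw))
    rw [← h.dmul (h.nK k hk) hlV hvV, hk'def]
    group
  -- `κ = k'⁻¹ k`
  have hκK : k'⁻¹ * k ∈ K := mul_mem (inv_mem hk') hk
  have hκ : ∀ w ∈ W i, (k'⁻¹ * k) * (y * w * y⁻¹) * (k'⁻¹ * k)⁻¹ * (y * w * y⁻¹)⁻¹ =
      (k * (y * w * y⁻¹) * k⁻¹ * (y * w * y⁻¹)⁻¹) * (k' * (y * w * y⁻¹) * k'⁻¹ * (y * w * y⁻¹)⁻¹)⁻¹ := by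
    intro w hw
    obtain ⟨a, ha, hae⟩ := hcomm k hk w hw
    obtain ⟨x, hx, hxe⟩ := hcomm k' hk' w hw
    have h1 : k'⁻¹ * (y * a * y⁻¹) * k' = y * a * y⁻¹ := by
      have := cy a ha _ (inv_mem hk')
      rwa [inv_inv] at this
    have h2 : k'⁻¹ * (y * x * y⁻¹) * k' = y * x * y⁻¹ := by
      have := cy x hx _ (inv_mem hk')
      rwa [inv_inv] at this
    have h3 : (y * a * y⁻¹) * (y * x * y⁻¹)⁻¹ =
        (k'⁻¹ * (y * a * y⁻¹) * k') * (k'⁻¹ * (y * x * y⁻¹) * k')⁻¹ := by rw [h1, h2]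
    rw [hae, hxe, h3, ← hae, ← hxe]
    group
  have hinL : ∀ w ∈ W i, (k'⁻¹ * k) * (y * w * y⁻¹) * (k'⁻¹ * k)⁻¹ * (y * w * y⁻¹)⁻¹ ∈ L := by
    intro w hw
    rw [hκ w hw]
    have h3 := hrel w hw
    obtain ⟨a, ha, hae⟩ := hcomm k hk w hw
    obtain ⟨x, hx, hxe⟩ := hcomm k' hk' w hw
    have hxL := vo o ho x ((h.ZW i).trans (h.WL i) hx)
    rw [hxe] at h3 ⊢
    rw [hae] at h3 ⊢
    have hdL := h.ZL (h.comL hk (vo o ho w (h.WL i hw)))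
    have haV : y * a * y⁻¹ ∈ V := hyV a ((h.ZW i).trans (h.WV i) ha)
    have hxV : y * x * y⁻¹ ∈ V := hyV x ((h.ZW i).trans (h.WV i) hx)
    have h4 : (y * a * y⁻¹) * (y * x * y⁻¹)⁻¹ =
        (k * (o * (y * w * y⁻¹) * o⁻¹ * (y * w * y⁻¹)⁻¹) * k⁻¹ *
          (o * (y * w * y⁻¹) * o⁻¹ * (y * w * y⁻¹)⁻¹)⁻¹)⁻¹ * (o * (y * x * y⁻¹) * o⁻¹ * (y * x * y⁻¹)⁻¹) := by
      rw [h3]; group
    rw [h4]
    exact mul_mem (inv_mem hdL) hxL
  -- `κ` centralises `W_i^y`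
  have htriv : ∀ w ∈ W i, (k'⁻¹ * k) * (y * w * y⁻¹) * (k'⁻¹ * k)⁻¹ * (y * w * y⁻¹)⁻¹ = 1 := by
    by_contra hcon
    push Not at hcon
    obtain ⟨w₁, hw₁, hw₁'⟩ := hcon
    apply hi
    intro x hx
    have hmv : ∃ w ∈ W i, (y⁻¹ * (k'⁻¹ * k) * y) * w * (y⁻¹ * (k'⁻¹ * k) * y)⁻¹ * w⁻¹ ≠ 1 := by
      refine ⟨w₁, hw₁, fun h0 => hw₁' ?_⟩
      rw [idy, h0]; group
    obtain ⟨w₂, hw₂, hw₂'⟩ := h.sur i _ (hyK' _ hκK) hmv x hx
    have h5 := hinL w₂ hw₂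
    rw [idy, hw₂'] at h5
    exact h.cL _ h5 fun k hk => cy x hx k hk
  have hax : k * (y * w * y⁻¹) * k⁻¹ * (y * w * y⁻¹)⁻¹ = k' * (y * w * y⁻¹) * k'⁻¹ * (y * w * y⁻¹)⁻¹ := by
    have h6 := hκ w hw
    rw [htriv w hw] at h6
    exact (mul_inv_eq_one.1 h6.symm)
  have h7 := hrel w hw
  rw [← hax] at h7
  rw [h7]
  group

/-- **The quiet lemma, all `q`** (546 #24710 (3), (4); 637 #24817): `y ∈ N(K) ∩ N(V)` with `[L^y, O] ≤ L`,
`C_{L^y}(O) ≤ L`, fixing one `c ∈ R₀ = (+) Z i` of full support, normalises `R₀`. -/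
theorem QS.norm [Finite ι] {V L K O : Subgroup G} {W Z : ι → Subgroup G} (h : QS V L K O W Z) {y : G}
    (hyK : ∀ k ∈ K, y * k * y⁻¹ ∈ K) (hyK' : ∀ k ∈ K, y⁻¹ * k * y ∈ K) (hyV : ∀ v ∈ V, y * v * y⁻¹ ∈ V)
    (vo : ∀ o ∈ O, ∀ l ∈ L, o * (y * l * y⁻¹) * o⁻¹ * (y * l * y⁻¹)⁻¹ ∈ L)
    (cV : ∀ l ∈ L, (∀ o ∈ O, o * (y * l * y⁻¹) * o⁻¹ = y * l * y⁻¹) → y * l * y⁻¹ ∈ L)
    {c : G} (hc : c ∈ ⨆ i, Z i) (hc1 : ∀ i, c ∉ (⨆ j, ⨆ _ : j ≠ i, Z j)) (hyc : y * c * y⁻¹ = c) :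
    ∀ i, ∀ x ∈ Z i, y * x * y⁻¹ ∈ ⨆ j, Z j := by
  classical
  cases nonempty_fintype ι
  have ZV : ∀ i, Z i ≤ V := fun i => (h.ZW i).trans (h.WV i)
  have hcL : c ∈ L := h.ZL hc
  have hcV : c ∈ V := h.LV hcL
  -- `O` centralises every `y x y⁻¹`
  have main : ∀ o ∈ O, ∀ i, ∀ x ∈ Z i, o * (y * x * y⁻¹) * o⁻¹ = y * x * y⁻¹ := by
    intro o ho
    let _ : CommGroup V := { (inferInstance : Group V) with mul_comm := fun a b => Subtype.ext (h.comV a a.2 b b.2) }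
    let D : K → V →* V := fun k => cmap h.comV k (h.nK k k.2)
    let E : V →* V := cmap h.comV o (h.nO o ho)
    let Y : V →* V :=
      { toFun := fun v => ⟨y * v * y⁻¹, hyV v v.2⟩
        map_one' := Subtype.ext (by simp)
        map_mul' := fun a b => Subtype.ext (by
          change y * ((a : G) * b) * y⁻¹ = (y * a * y⁻¹) * (y * b * y⁻¹); group) }
    let π : K → K := fun k => ⟨y * k * y⁻¹, hyK k k.2⟩
    have hDv : ∀ (k : K) (v : V), ((D k v : V) : G) = k * v * (k : G)⁻¹ * (v : G)⁻¹ := fun _ _ => rfl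
    have hEv : ∀ (v : V), ((E v : V) : G) = o * v * o⁻¹ * (v : G)⁻¹ := fun _ => rfl
    have hYv : ∀ (v : V), ((Y v : V) : G) = y * v * y⁻¹ := fun _ => rfl
    have hcm : (⟨c, hcV⟩ : V) ∈ ⨆ i, (Z i).subgroupOf V := (mem_iSup_sub ZV _).2 hc
    obtain ⟨z, hz, hcz⟩ := exists_prod hcm
    have hz1 : ∀ i, z i ≠ 1 := by
      intro i hi
      apply hc1 i
      have h1 : (⟨c, hcV⟩ : V) ∈ (⨆ j, ⨆ _ : j ≠ i, (Z j).subgroupOf V) := by
        rw [hcz, ← Finset.mul_prod_erase Finset.univ z (Finset.mem_univ i), hi, one_mul]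
        refine Subgroup.prod_mem _ fun j hj => ?_
        exact Subgroup.mem_iSup_of_mem j (Subgroup.mem_iSup_of_mem (Finset.ne_of_mem_erase hj) (hz j))
      exact (mem_iSup_sub' ZV i _).1 h1
    have key := core (A := V) (W := fun i => (W i).subgroupOf V) (Z := fun i => (Z i).subgroupOf V)
      (D := D) (π := π) (Y := Y) (E := E) (z := z)
      (fun i => by
        have := h.fin i
        exact Finite.of_equiv _ (Subgroup.subgroupOfEquivOfLe (ZV i)).symm.toEquiv)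
      (fun i j => by
        rw [Nat.card_congr (Subgroup.subgroupOfEquivOfLe (ZV i)).toEquiv,
          Nat.card_congr (Subgroup.subgroupOfEquivOfLe (ZV j)).toEquiv]
        exact h.card i j)
      (fun i => by
        rw [eq_bot_iff]
        rintro x ⟨hx1, hx2⟩
        have h2 : (x : G) ∈ Z i ⊓ (⨆ j, ⨆ _ : j ≠ i, Z j) := ⟨hx1, (mem_iSup_sub' ZV i _).1 hx2⟩
        rw [h.ind i] at h2
        exact Subtype.ext h2)
      (fun i => by
        obtain ⟨w, hw, hw'⟩ := h.ne i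
        exact ⟨⟨w, h.WV i hw⟩, hw, hw'⟩)
      (fun i k w hw => h.com i k k.2 w hw)
      (fun i k x hx => Subtype.ext (by
        rw [hDv]
        have := h.cZ i k k.2 x hx
        rw [this]; simp))
      (fun i w hw hw' x hx => by
        obtain ⟨k, hk, hk1, hk2⟩ := h.one i w hw hw' x hx
        exact ⟨⟨k, hk⟩, fun j hj w' hw' => Subtype.ext (hk1 j hj w' hw'), Subtype.ext hk2⟩)
      (fun i w hw hw' k hk w' hw'' => Subtype.ext
        (h.ker i w hw hw' k k.2 (congrArg Subtype.val hk) w' hw''))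
      (fun k => ⟨⟨y⁻¹ * k * y, hyK' k k.2⟩, Subtype.ext (by change y * (y⁻¹ * k * y) * y⁻¹ = k; group)⟩)
      (fun k v => Subtype.ext (by
        rw [hDv, hYv, hYv, hDv]
        change (y * k * y⁻¹) * (y * v * y⁻¹) * (y * k * y⁻¹)⁻¹ * (y * v * y⁻¹)⁻¹ = _
        group))
      (fun i w hw => (mem_iSup_sub h.WV _).2 (h.LW ▸ vo o ho w (h.WL i hw)))
      hz hz1
      (by
        rw [← hcz]
        refine Subtype.ext ?_
        rw [hEv, hYv]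
        change o * (y * c * y⁻¹) * o⁻¹ * (y * c * y⁻¹)⁻¹ = 1
        rw [hyc, h.OL o ho c hcL]; group)
      (fun i => by
        by_cases hi : ∀ x ∈ Z i, y * x * y⁻¹ ∈ ⨆ j, Z j
        · left
          intro x hx
          refine Subtype.ext ?_
          rw [hEv, hYv, h.OL o ho _ (h.ZL (hi x hx))]
          simp
        · right
          intro k w hw
          refine Subtype.ext ?_
          rw [hEv, hDv, hYv, hDv, hEv, hYv]
          exact h.dich hyK' hyV vo ho i hi k.2 hw)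
    intro i x hx
    have h3 := key i ⟨x, ZV i hx⟩ hx
    have h4 : o * (y * x * y⁻¹) * o⁻¹ * (y * x * y⁻¹)⁻¹ = 1 := congrArg Subtype.val h3
    exact mul_inv_eq_one.1 h4
  intro i x hx
  refine h.cL _ (cV x ((h.ZW i).trans (h.WL i) hx) fun o ho => main o ho i x hx) fun k hk => ?_
  have h1 := h.cZ i _ (hyK' k hk) x hx
  calc k * (y * x * y⁻¹) * k⁻¹ = y * ((y⁻¹ * k * y) * x * (y⁻¹ * k * y)⁻¹) * y⁻¹ := by group
    _ = y * x * y⁻¹ := by rw [h1]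

end Grp

end Cfsg.Agent.Omega.NO3S.CaseLW.QuietN
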