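import Mathlib.FieldTheory.Finite.Basic
import Mathlib.Algebra.CharP.Lemmas
import Mathlib.Algebra.BigOperators.Pi

/-!
# THE QUIET WEIRD `Y` NORMALISES `R_0`, every `q` (helper546 #24710 (3), (4); helper997 #24784)

`R_0 = range ζ`, `ζ : (ι → F) → G` (the product of the lines `Z_e`), `K` induces on `L` the full product of the root
groups: `[l, k] = ζ (φ l * μ k)`; `y` normalises `K`, `V` and fixes `ζ c₀`, all `c₀ e ≠ 0`; `[V, O] ≤ L`,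
`C_V(O) ≤ L`, `O` centralises `R_0`. Then `y` normalises `R_0`.
-/

set_option autoImplicit false
set_option linter.unusedSectionVars false

namespace Cfsg.Agent.Omega.NO3S.CaseLW.QuietQ

universe u v w

variable {G : Type u} [Group G] {ι : Type v} {F : Type w} [Field F]

/-- `[l, k] = ζ (φ l * μ k)`, everything full. -/
structure Cf (V L K : Set G) (ζ : (ι → F) → G) (μ φ : G → ι → F) : Prop where
  ab : ∀ a ∈ V, ∀ b ∈ V, a * b = b * a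
  ζV : ∀ c, ζ c ∈ V
  LV : ∀ a ∈ L, a ∈ V
  ζm : ∀ c d, ζ (c + d) = ζ c * ζ d
  ζi : ∀ c, ζ c = 1 → c = 0
  μm : ∀ k ∈ K, ∀ k' ∈ K, μ (k * k') = μ k + μ k'
  μs : ∀ c, ∃ k ∈ K, μ k = c
  φs : ∀ c, ∃ l ∈ L, φ l = c
  com : ∀ l ∈ L, ∀ k ∈ K, l * k * l⁻¹ * k⁻¹ = ζ (φ l * μ k)

namespace Cf

variable {V L K : Set G} {ζ : (ι → F) → G} {μ φ : G → ι → F} (h : Cf V L K ζ μ φ)
include h

theorem ζ0 : ζ 0 = 1 := by
  have h1 := h.ζm 0 0
  rw [add_zero] at h1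
  exact (mul_eq_left.1 h1.symm)

theorem ζn (c : ι → F) : ζ (-c) = (ζ c)⁻¹ := by
  have h1 := h.ζm (-c) c
  rw [neg_add_cancel, h.ζ0] at h1
  exact eq_inv_of_mul_eq_one_left h1.symm

theorem ζinj {c d : ι → F} (e : ζ c = ζ d) : c = d := by
  have h1 : ζ (c + -d) = 1 := by rw [h.ζm, h.ζn, e, mul_inv_cancel]
  have h2 := h.ζi _ h1
  rwa [← sub_eq_add_neg, sub_eq_zero] at h2

variable [DecidableEq ι] {y o : G} {m : ℕ}

/-- one line `e` : `o` moves `a_e(x)` inside `a_e(x) R_0`, along `μ`. -/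
theorem line [CharP F 2] (hyV : ∀ v ∈ V, y * v * y⁻¹ ∈ V) (hyK : ∀ k ∈ K, y⁻¹ * k * y ∈ K)
    (hyK' : ∀ k ∈ K, y * k * y⁻¹ ∈ K) (hoK : ∀ k ∈ K, o⁻¹ * k * o ∈ K) (hoK' : ∀ k ∈ K, o * k * o⁻¹ ∈ K)
    (hoR : ∀ c, o * ζ c * o⁻¹ = ζ c) (hoL : ∀ l ∈ L, o * (y * l * y⁻¹) * o⁻¹ * (y * l * y⁻¹)⁻¹ ∈ L) (ho2 : o ^ (2 ^ m) = 1) (e : ι) :
    ∃ (r : F → ι → F), (∀ x, o * (y * ζ (Pi.single e x) * y⁻¹) * o⁻¹ = y * ζ (Pi.single e x) * y⁻¹ * ζ (r x)) ∧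
      ∀ x, ∃ g : ι → F, ∀ k ∈ K, r (x * μ (y⁻¹ * k * y) e) = g * μ k := by
  classical
  set a : F → G := fun x => y * ζ (Pi.single e x) * y⁻¹ with ha
  have haV : ∀ x, a x ∈ V := fun x => hyV _ (h.ζV _)
  have ham : ∀ x x', a (x + x') = a x * a x' := by
    intro x x'
    simp only [ha, Pi.single_add, h.ζm]
    group
  have ha0 : a 0 = 1 := by simp only [ha, Pi.single_zero, h.ζ0]; group
  -- the values
  have hv : ∀ x, ∃ v ∈ V, o * v * o⁻¹ * v⁻¹ ∈ L ∧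
      ∀ k ∈ K, v * k * v⁻¹ * k⁻¹ = a (x * μ (y⁻¹ * k * y) e) := by
    intro x
    obtain ⟨l, hl, hlx⟩ := h.φs (Pi.single e x)
    refine ⟨y * l * y⁻¹, hyV _ (h.LV _ hl), hoL l hl, fun k hk => ?_⟩
    have h1 := h.com l hl _ (hyK k hk)
    have h2 : φ l * μ (y⁻¹ * k * y) = Pi.single e (x * μ (y⁻¹ * k * y) e) := by
      rw [hlx]
      ext e'
      by_cases he : e' = e
      · subst he; simp
      · simp [Pi.single_eq_of_ne he]
    rw [h2] at h1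
    simp only [ha]
    rw [← h1]
    group
  choose v hvV hvL hvk using hv
  -- (+)
  have hplus : ∀ x, ∃ g : ι → F, ∀ k ∈ K, o * a (x * μ (y⁻¹ * (o⁻¹ * k * o) * y) e) * o⁻¹ =
      a (x * μ (y⁻¹ * k * y) e) * ζ (g * μ k) := by
    intro x
    set l := o * v x * o⁻¹ * (v x)⁻¹ with hl
    have hlL : l ∈ L := hvL x
    refine ⟨φ l, fun k hk => ?_⟩
    have h1 := hvk x _ (hoK k hk)
    have h2 := hvk x k hk
    have h3 := h.com l hlL k hk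
    rw [← h1, ← h2, ← h3]
    have h4 : l * (v x * k * (v x)⁻¹ * k⁻¹) = (v x * k * (v x)⁻¹ * k⁻¹) * l := by
      rw [h2]
      exact h.ab _ (h.LV _ hlL) _ (haV _)
    have h5 : o * v x = l * v x * o := by rw [hl]; group
    have h6 : o * v x * o⁻¹ = l * v x := by rw [h5]; group
    calc o * (v x * (o⁻¹ * k * o) * (v x)⁻¹ * (o⁻¹ * k * o)⁻¹) * o⁻¹
        = (o * v x * o⁻¹) * k * (o * v x * o⁻¹)⁻¹ * k⁻¹ := by group
      _ = l * (v x * k * (v x)⁻¹ * k⁻¹) * (k * l⁻¹ * k⁻¹) := by rw [h6]; group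
      _ = _ := by rw [h4]; group
  choose g hg using hplus
  -- the case distinction
  by_cases hall : ∀ c, ∃ d, a c = ζ d
  · refine ⟨fun _ => 0, fun x => ?_, fun x => ⟨0, fun k _ => by simp⟩⟩
    obtain ⟨d, hd⟩ := hall x
    change o * a x * o⁻¹ = a x * ζ 0
    rw [hd, hoR, h.ζ0, mul_one]
  push Not at hall
  obtain ⟨c₁, hc₁⟩ := hall
  have hsurj : ∀ t : F, ∃ k ∈ K, μ (y⁻¹ * k * y) e = t := by
    intro t
    obtain ⟨k, hk, hk1⟩ := h.μs (Pi.single e t)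
    refine ⟨y * k * y⁻¹, hyK' k hk, ?_⟩
    have e1 : y⁻¹ * (y * k * y⁻¹) * y = k := by group
    rw [e1, hk1, Pi.single_eq_same]
  obtain ⟨k₁, hk₁, hk₁1⟩ := hsurj 1
  -- `lam'(o k₁ o⁻¹) = 1`
  set c₀ : F := μ (y⁻¹ * (o * k₁ * o⁻¹) * y) e with hc₀
  have h1 : ∀ x, ∃ d, o * a x * o⁻¹ = a (c₀ * x) * ζ d := by
    intro x
    have h2 := hg x _ (hoK' k₁ hk₁)
    have e1 : o⁻¹ * (o * k₁ * o⁻¹) * o = k₁ := by group
    rw [e1, hk₁1, mul_one, ← hc₀, mul_comm x c₀] at h2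
    exact ⟨_, h2⟩
  -- differences
  have hdiff : ∀ s t d d', a s * ζ d = a t * ζ d' → ∃ d'', a (s - t) = ζ d'' := by
    intro s t d d' he
    refine ⟨d' - d, ?_⟩
    have h2 : a s = a (s - t) * a t := by rw [← ham, sub_add_cancel]
    rw [h2] at he
    have h3 : a (s - t) * a t = a t * a (s - t) := h.ab _ (haV _) _ (haV _)
    rw [h3, mul_assoc] at he
    have h4 := mul_left_cancel he
    have h5 : d' - d = d' + -d := sub_eq_add_neg _ _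
    rw [h5, h.ζm, h.ζn, ← h4, mul_inv_cancel_right]
  have hlin : ∀ c, (∀ x, ∃ d, a (c * x) = ζ d) → c = 0 := by
    intro c hc
    by_contra hne
    obtain ⟨d, hd⟩ := hc (c⁻¹ * c₁)
    rw [mul_inv_cancel_left₀ hne] at hd
    exact hc₁ d hd
  have hlam : ∀ k ∈ K, μ (y⁻¹ * k * y) e = c₀ * μ (y⁻¹ * (o⁻¹ * k * o) * y) e := by
    intro k hk
    have h2 : ∀ x, ∃ d, a ((μ (y⁻¹ * k * y) e - c₀ * μ (y⁻¹ * (o⁻¹ * k * o) * y) e) * x) = ζ d := by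
      intro x
      obtain ⟨d, hd⟩ := h1 (x * μ (y⁻¹ * (o⁻¹ * k * o) * y) e)
      have h3 := hg x k hk
      rw [hd] at h3
      obtain ⟨d', hd'⟩ := hdiff _ _ _ _ h3.symm
      refine ⟨d', ?_⟩
      rw [← hd']
      congr 1
      ring
    exact sub_eq_zero.1 (hlin _ h2)
  -- `c₀ = 1`
  have hpow : ∀ n x, ∃ d, o ^ n * a x * (o ^ n)⁻¹ = a (c₀ ^ n * x) * ζ d := by
    intro n
    induction n with
    | zero => intro x; exact ⟨0, by simp [h.ζ0]⟩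
    | succ n ih =>
      intro x
      obtain ⟨d, hd⟩ := ih x
      obtain ⟨d', hd'⟩ := h1 (c₀ ^ n * x)
      refine ⟨d' + d, ?_⟩
      calc o ^ (n + 1) * a x * (o ^ (n + 1))⁻¹ = o * (o ^ n * a x * (o ^ n)⁻¹) * o⁻¹ := by
            rw [pow_succ']; group
        _ = (o * a (c₀ ^ n * x) * o⁻¹) * (o * ζ d * o⁻¹) := by rw [hd]; group
        _ = _ := by rw [hd', hoR, h.ζm, pow_succ', mul_assoc c₀]; group
  have hc1 : c₀ = 1 := by
    have h2 : c₀ ^ (2 ^ m) - 1 = 0 := by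
      refine hlin _ fun x => ?_
      obtain ⟨d, hd⟩ := hpow (2 ^ m) x
      rw [ho2, one_mul, inv_one, mul_one] at hd
      have h3 : a x * ζ 0 = a (c₀ ^ 2 ^ m * x) * ζ d := by rw [h.ζ0, mul_one]; exact hd
      obtain ⟨d', hd'⟩ := hdiff _ _ _ _ h3.symm
      exact ⟨d', by rw [← hd']; congr 1; ring⟩
    have h3 : (c₀ - 1) ^ (2 ^ m) = 0 := by
      rw [sub_pow_char_pow, one_pow, h2]
    exact sub_eq_zero.1 (pow_eq_zero_iff (pow_ne_zero _ two_ne_zero) |>.1 h3)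
  have h2 : ∀ x, ∃ d, o * a x * o⁻¹ = a x * ζ d := by
    intro x
    obtain ⟨d, hd⟩ := h1 x
    exact ⟨d, by rw [hd, hc1, one_mul]⟩
  choose r hr using h2
  refine ⟨r, hr, fun x => ⟨g x, fun k hk => ?_⟩⟩
  have h3 := hg x k hk
  have h4 := hlam k hk
  rw [hc1, one_mul] at h4
  rw [← h4, hr] at h3
  exact h.ζinj (mul_left_cancel h3)

/-- the product of single values -/
theorem ζ_sum [Fintype ι] (y : G) (c : ι → F) : ∀ s : Finset ι, (∀ e ∉ s, c e = 0) →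
    ∀ o : G, ∀ r : ι → F → ι → F, (∀ a ∈ V, y * a * y⁻¹ ∈ V) →
    (∀ e x, o * (y * ζ (Pi.single e x) * y⁻¹) * o⁻¹ = y * ζ (Pi.single e x) * y⁻¹ * ζ (r e x)) →
    o * (y * ζ c * y⁻¹) * o⁻¹ = y * ζ c * y⁻¹ * ζ (∑ e ∈ s, r e (c e)) := by
  classical
  intro s
  induction s using Finset.induction_on generalizing c with
  | empty =>
    intro hc o r hyV hr
    have h1 : c = 0 := by ext e; exact hc e (by simp)
    rw [h1, h.ζ0, Finset.sum_empty, h.ζ0]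
    group
  | insert e s he ih =>
    intro hc o r hyV hr
    set c' : ι → F := Function.update c e 0 with hc'
    have h1 : c = c' + Pi.single e (c e) := by
      ext e'
      by_cases h2 : e' = e
      · subst h2; simp [hc']
      · simp [hc', Function.update_of_ne h2, Pi.single_eq_of_ne h2]
    have h2 := ih c' (fun e' he' => by
      by_cases h3 : e' = e
      · subst h3; simp [hc']
      · rw [hc', Function.update_of_ne h3]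
        exact hc e' (by simp [h3, he'])) o r hyV hr
    have h3 : ∑ e' ∈ s, r e' (c' e') = ∑ e' ∈ s, r e' (c e') := by
      refine Finset.sum_congr rfl fun e' he' => ?_
      have h4 : e' ≠ e := fun h5 => he (h5 ▸ he')
      rw [hc', Function.update_of_ne h4]
    rw [h3] at h2
    have h4 := hr e (c e)
    have h5 : ζ c = ζ c' * ζ (Pi.single e (c e)) := by rw [← h.ζm, ← h1]
    have h6 : ζ (∑ e' ∈ s, r e' (c e')) * (y * ζ (Pi.single e (c e)) * y⁻¹) =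
        (y * ζ (Pi.single e (c e)) * y⁻¹) * ζ (∑ e' ∈ s, r e' (c e')) :=
      h.ab _ (h.ζV _) _ (hyV _ (h.ζV _))
    rw [Finset.sum_insert he, add_comm, h.ζm, h5]
    calc o * (y * (ζ c' * ζ (Pi.single e (c e))) * y⁻¹) * o⁻¹
        = (o * (y * ζ c' * y⁻¹) * o⁻¹) * (o * (y * ζ (Pi.single e (c e)) * y⁻¹) * o⁻¹) := by group
      _ = (y * ζ c' * y⁻¹) * (ζ (∑ e' ∈ s, r e' (c e')) * (y * ζ (Pi.single e (c e)) * y⁻¹)) *
          ζ (r e (c e)) := by rw [h2, h4]; group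
      _ = _ := by rw [h6]; group

/-- **`o` centralises `R_0^y`.** -/
theorem cent [Fintype ι] [CharP F 2] {c₀ : ι → F} (hc₀ : ∀ e, c₀ e ≠ 0) (hyc : y * ζ c₀ * y⁻¹ = ζ c₀)
    (hyV : ∀ v ∈ V, y * v * y⁻¹ ∈ V) (hyK : ∀ k ∈ K, y⁻¹ * k * y ∈ K)
    (hyK' : ∀ k ∈ K, y * k * y⁻¹ ∈ K) (hKm : ∀ k ∈ K, ∀ k' ∈ K, k * k' ∈ K) (hKi : ∀ k ∈ K, k⁻¹ ∈ K)
    (hoK : ∀ k ∈ K, o⁻¹ * k * o ∈ K) (hoK' : ∀ k ∈ K, o * k * o⁻¹ ∈ K)
    (hoR : ∀ c, o * ζ c * o⁻¹ = ζ c) (hoL : ∀ l ∈ L, o * (y * l * y⁻¹) * o⁻¹ * (y * l * y⁻¹)⁻¹ ∈ L) (ho2 : o ^ (2 ^ m) = 1) (c : ι → F) :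
    o * (y * ζ c * y⁻¹) * o⁻¹ = y * ζ c * y⁻¹ := by
  classical
  choose r hr hg using fun e => h.line hyV hyK hyK' hoK hoK' hoR hoL ho2 e
  choose g hg using hg
  -- the kernels
  have hker : ∀ e e', (∃ x, r e x e' ≠ 0) → ∀ k ∈ K, μ (y⁻¹ * k * y) e = 0 → μ k e' = 0 := by
    rintro e e' ⟨x, hx⟩ k hk hk0
    obtain ⟨k₁, hk₁, hk₁1⟩ := h.μs (Pi.single e 1)
    have h1 : μ (y⁻¹ * (y * k₁ * y⁻¹) * y) e = 1 := by
      have e1 : y⁻¹ * (y * k₁ * y⁻¹) * y = k₁ := by group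
      rw [e1, hk₁1, Pi.single_eq_same]
    have h2 := congrFun (hg e x _ (hyK' k₁ hk₁)) e'
    rw [h1, mul_one] at h2
    have h3 : g e x e' ≠ 0 := by
      intro h3
      rw [Pi.mul_apply, h3, zero_mul] at h2
      exact hx h2
    have h4 := congrFun (hg e x k hk) e'
    have h5 := congrFun (hg e 0 k hk) e'
    have h6 : r e 0 = 0 := by
      have h7 := hr e 0
      rw [Pi.single_zero, h.ζ0] at h7
      have h8 : ζ (r e 0) = 1 := by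
        have h9 : o * (y * 1 * y⁻¹) * o⁻¹ = 1 := by group
        rw [h9] at h7
        have h10 : y * 1 * y⁻¹ = 1 := by group
        rw [h10, one_mul] at h7
        exact h7.symm
      exact h.ζi _ h8
    rw [hk0, mul_zero, h6, Pi.zero_apply, Pi.mul_apply] at h4
    rcases mul_eq_zero.1 h4.symm with h7 | h7
    · exact absurd h7 h3
    · exact h7
  have hdisj : ∀ e₁ e₂ e', e₁ ≠ e₂ → (∃ x, r e₁ x e' ≠ 0) → (∃ x, r e₂ x e' ≠ 0) → False := by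
    intro e₁ e₂ e' hne h₁ h₂
    obtain ⟨k, hk, hk1⟩ := h.μs (Pi.single e' 1)
    -- `k' ∈ ker lam_{e₁}`, `lam_{e₂}(k') = lam_{e₂}(k)`
    obtain ⟨k₂, hk₂, hk₂1⟩ := h.μs (Pi.single e₂ (μ (y⁻¹ * k * y) e₂))
    set k' := y * k₂ * y⁻¹ with hk'
    have hk'K : k' ∈ K := hyK' _ hk₂
    have e1 : y⁻¹ * k' * y = k₂ := by rw [hk']; group
    have h3 : μ k' e' = 0 := hker e₁ e' h₁ k' hk'K (by rw [e1, hk₂1, Pi.single_eq_of_ne hne])
    have h4 : μ (k * k'⁻¹) e' = 0 := by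
      refine hker e₂ e' h₂ _ (hKm _ hk _ (hKi _ hk'K)) ?_
      have e2 : y⁻¹ * (k * k'⁻¹) * y = (y⁻¹ * k * y) * (y⁻¹ * k' * y)⁻¹ := by group
      have h5 := h.μm _ (hyK _ (hKm _ hk _ (hKi _ hk'K))) _ (hyK _ hk'K)
      have e3 : y⁻¹ * (k * k'⁻¹) * y * (y⁻¹ * k' * y) = y⁻¹ * k * y := by group
      rw [e3] at h5
      have h6 := congrFun h5 e₂
      rw [Pi.add_apply, e1, hk₂1, Pi.single_eq_same] at h6
      exact (add_eq_right.1 h6.symm)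
    have h5 := h.μm _ (hKm _ hk _ (hKi _ hk'K)) _ hk'K
    rw [inv_mul_cancel_right, hk1] at h5
    have h6 := congrFun h5 e'
    rw [Pi.add_apply, Pi.single_eq_same, h3, h4, add_zero] at h6
    exact one_ne_zero h6
  -- `∑ r_e(c₀ e) = 0`
  have hsum := h.ζ_sum y c₀ Finset.univ (fun e he => absurd (Finset.mem_univ e) he) o r hyV hr
  rw [hyc, hoR] at hsum
  have hsum0 : ∑ e, r e (c₀ e) = 0 := h.ζi _ (mul_eq_left.1 hsum.symm)
  have hr0 : ∀ e, r e (c₀ e) = 0 := by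
    intro e
    ext e'
    by_contra hne
    have h1 := congrFun hsum0 e'
    rw [Finset.sum_apply, Finset.sum_eq_single e] at h1
    · exact hne h1
    · intro e₂ _ he₂
      by_contra h2
      exact hdisj e₂ e e' he₂ ⟨_, h2⟩ ⟨_, hne⟩
    · intro h2; exact absurd (Finset.mem_univ e) h2
  -- `r_e = 0`
  have hz : ∀ e x, r e x = 0 := by
    intro e x
    ext e'
    obtain ⟨k₁, hk₁, hk₁1⟩ := h.μs (Pi.single e 1)
    have hone : μ (y⁻¹ * (y * k₁ * y⁻¹) * y) e = 1 := by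
      have e1 : y⁻¹ * (y * k₁ * y⁻¹) * y = k₁ := by group
      rw [e1, hk₁1, Pi.single_eq_same]
    have h1 : ∀ x, r e x e' = g e x e' * μ (y * k₁ * y⁻¹) e' := by
      intro x
      have h2 := congrFun (hg e x _ (hyK' k₁ hk₁)) e'
      rwa [hone, mul_one] at h2
    by_cases h2 : μ (y * k₁ * y⁻¹) e' = 0
    · rw [h1, h2, mul_zero]; rfl
    · have h3 := h1 (c₀ e)
      rw [hr0, Pi.zero_apply] at h3
      have h4 : g e (c₀ e) e' = 0 := (mul_eq_zero.1 h3.symm).resolve_right h2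
      -- `x = c₀ e * (c₀ e)⁻¹ * x`
      obtain ⟨k₂, hk₂, hk₂1⟩ := h.μs (Pi.single e ((c₀ e)⁻¹ * x))
      have h5 := congrFun (hg e (c₀ e) _ (hyK' k₂ hk₂)) e'
      have e1 : y⁻¹ * (y * k₂ * y⁻¹) * y = k₂ := by group
      rw [e1, hk₂1, Pi.single_eq_same, mul_inv_cancel_left₀ (hc₀ e), Pi.mul_apply, h4, zero_mul] at h5
      exact h5
  have hfin := h.ζ_sum y c Finset.univ (fun e he => absurd (Finset.mem_univ e) he) o r hyV hr
  rw [hfin]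
  have h1 : ∑ e, r e (c e) = 0 := Finset.sum_eq_zero fun e _ => hz e _
  rw [h1, h.ζ0, mul_one]

/-- **THE QUIET WEIRD `Y` NORMALISES `R_0`** (546 #24710 (3), (4), every `q`). -/
theorem quiet [Fintype ι] [CharP F 2] {O : Set G} {c₀ : ι → F} (hc₀ : ∀ e, c₀ e ≠ 0)
    (hyc : y * ζ c₀ * y⁻¹ = ζ c₀)
    (hyV : ∀ v ∈ V, y * v * y⁻¹ ∈ V) (hyK : ∀ k ∈ K, y⁻¹ * k * y ∈ K)
    (hyK' : ∀ k ∈ K, y * k * y⁻¹ ∈ K) (hKm : ∀ k ∈ K, ∀ k' ∈ K, k * k' ∈ K) (hKi : ∀ k ∈ K, k⁻¹ ∈ K)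
    (hoK : ∀ o ∈ O, ∀ k ∈ K, o⁻¹ * k * o ∈ K) (hoK' : ∀ o ∈ O, ∀ k ∈ K, o * k * o⁻¹ ∈ K)
    (hoR : ∀ o ∈ O, ∀ c, o * ζ c * o⁻¹ = ζ c) (hoL : ∀ o ∈ O, ∀ l ∈ L, o * (y * l * y⁻¹) * o⁻¹ * (y * l * y⁻¹)⁻¹ ∈ L)
    (ho2 : ∀ o ∈ O, ∃ m, o ^ (2 ^ m) = 1)
    (hCO : ∀ v ∈ V, (∀ o ∈ O, o * v = v * o) → v ∈ L)
    (hKR : ∀ k ∈ K, ∀ c, k * ζ c = ζ c * k)
    (hCL : ∀ l ∈ L, (∀ k ∈ K, k * l = l * k) → ∃ d, l = ζ d) (c : ι → F) :
    ∃ d, y * ζ c * y⁻¹ = ζ d := by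
  classical
  refine hCL _ (hCO _ (hyV _ (h.ζV _)) fun o ho => ?_) fun k hk => ?_
  · obtain ⟨m, hm⟩ := ho2 o ho
    have h1 := h.cent hc₀ hyc hyV hyK hyK' hKm hKi (hoK o ho) (hoK' o ho) (hoR o ho) (hoL o ho) hm c
    exact mul_inv_eq_iff_eq_mul.1 h1
  · have h1 := hKR _ (hyK k hk) c
    calc k * (y * ζ c * y⁻¹) = y * ((y⁻¹ * k * y) * ζ c) * y⁻¹ := by group
      _ = y * (ζ c * (y⁻¹ * k * y)) * y⁻¹ := by rw [h1]
      _ = _ := by group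

end Cf

end Cfsg.Agent.Omega.NO3S.CaseLW.QuietQ
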