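import Cfsg.Agent.Omega.NO3S.CaseLW.Lam
import Cfsg.Agent.Omega.NO3S.CaseLW.YBX

/-!
# THEOREM LAMBDA (#24622): the input `YD` of `Lam.core`

* `exists_yd` : **`GE T Y U AA`, `U ≤ T`, `ConclM T Y`, a member of the family outside `O₂(Y)`, `Y` moves `Ω₁Z(T)`:
  `YD T Y U AA N c`** for some families `N`, `c`.
-/

set_option autoImplicit false

namespace Cfsg.Agent.Omega.NO3S.CaseLW.Lam

open Subgroup Cfsg Cfsg.Agent.ZN Cfsg.Agent.ZN.ChoiceBase
open Cfsg.Agent.Omega.OM.GLev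

universe u

variable {G : Type u} [Group G] [Finite G] {T Y U : Subgroup G} {AA : Set (Subgroup G)}

theorem YD.of {Λ : Type} {N c : Λ → Subgroup G} (h : YBX.Concl T Y U AA N c) : YD T Y U AA N c where
  yb := h.yb
  mv := h.ex
  cen := fun x hx hc => h.cen x hx.1 hc
  line := h.com

/-- **The blocks of `Y` on `C_U(⟨AA⟩)`.** -/
theorem exists_yd (h : GE T Y U AA) (hUT : U ≤ T) (hN : FFThm.ConclM T Y) (hex : ∃ A ∈ AA, ¬ A ≤ o2 Y)
    (hZ : ¬ Y ≤ centralizer (zc T : Set G)) :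
    ∃ (Λ : Type) (_ : Finite Λ) (N c : Λ → Subgroup G), YD T Y U AA N c := by
  obtain ⟨Λ, hf, N, c, hc⟩ := YBX.exists_ybx h hUT hN hex hZ
  exact ⟨Λ, hf, N, c, YD.of hc⟩

end Cfsg.Agent.Omega.NO3S.CaseLW.Lam
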